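import Mathlib
import Cfsg.Prelude.Def_Transfer
import Cfsg.Agent.InvChar.Core
import Cfsg.Agent.Lib.Cores.Basic
import Cfsg.Agent.Lib.Transfer.NormalPComplement
import Cfsg.Agent.Lib.Involutions.Basic

/-!
Cores of centralizers, odd parts, and the Frattini argument, elementwise.
-/

set_option autoImplicit false
set_option linter.style.haveILetI false
set_option linter.unusedSectionVars false

namespace Cfsg.Agent.J2Type.Loc

open Subgroup

universe u

variable {Y : Type u} [Group Y] [Finite Y]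

/-- The largest normal odd subgroup of the centralizer of `a`. -/
def core (a : Y) : Subgroup Y :=
  (Cfsg.oddCore ↥(centralizer ({a} : Set Y))).map (centralizer ({a} : Set Y)).subtype

theorem core_le (a : Y) : core a ≤ centralizer ({a} : Set Y) := map_subtype_le _

theorem core_odd (a : Y) : Odd (Nat.card (core a)) := by
  rw [core, card_map_of_injective (centralizer ({a} : Set Y)).subtype_injective]
  exact InvChar.Core.odd_card_oddCore

theorem oddCore_normal (H : Type u) [Group H] [Finite H] : (Cfsg.oddCore H).Normal := by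
  haveI : (Cfsg.pPrimeCore 2 H).Characteristic := InvChar.Core.pPrimeCore_characteristic 2
  exact (inferInstance : (Cfsg.pPrimeCore 2 H).Normal)

theorem core_conj_mem {a g x : Y} (hg : g * a = a * g) (hx : x ∈ core a) : g * x * g⁻¹ ∈ core a := by
  obtain ⟨y, hy, rfl⟩ := hx
  exact ⟨⟨g, mem_centralizer_singleton_iff.2 hg⟩ * y * ⟨g, mem_centralizer_singleton_iff.2 hg⟩⁻¹,
    (oddCore_normal _).conj_mem y hy _, rfl⟩

theorem core_normalizer {a g : Y} (hg : g * a = a * g) : g ∈ normalizer (core a : Set Y) := by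
  refine mem_normalizer_iff.2 fun x => ⟨core_conj_mem hg, fun hx => ?_⟩
  have h : g⁻¹ * a = a * g⁻¹ := by
    rw [inv_mul_eq_iff_eq_mul, ← mul_assoc, hg, mul_inv_cancel_right]
  have := core_conj_mem h hx
  rwa [show g⁻¹ * (g * x * g⁻¹) * g⁻¹⁻¹ = x by group] at this

/-- A subgroup of odd order of the centralizer, invariant in it, lies in the core. -/
theorem le_core {a : Y} {X : Subgroup Y} (hX : X ≤ centralizer ({a} : Set Y)) (hodd : Odd (Nat.card X))
    (hinv : ∀ g : Y, g * a = a * g → ∀ x ∈ X, g * x * g⁻¹ ∈ X) : X ≤ core a := by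
  intro x hx
  refine ⟨⟨x, hX hx⟩, InvChar.Core.le_oddCore (N := X.subgroupOf _) ⟨fun y hy g => ?_⟩ ?_ hx, rfl⟩
  · exact hinv g (mem_centralizer_singleton_iff.1 g.2) y hy
  · rwa [Nat.card_congr (subgroupOfEquivOfLe hX).toEquiv]

theorem odd_orderOf {X : Subgroup Y} (hX : Odd (Nat.card X)) {x : Y} (hx : x ∈ X) : Odd (orderOf x) := by
  refine hX.of_dvd_nat ?_
  have h := orderOf_dvd_natCard (⟨x, hx⟩ : X)
  rwa [← Subgroup.orderOf_coe] at h

/-- An element of odd order is a power of its square. -/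
theorem mem_zpowers_sq {g : Y} (hg : Odd (orderOf g)) : g ∈ zpowers (g * g) := by
  obtain ⟨k, hk⟩ := hg
  refine ⟨(k + 1 : ℤ), ?_⟩
  have h := pow_orderOf_eq_one g
  rw [hk] at h
  show (g * g) ^ ((k : ℤ) + 1) = g
  rw [← sq, ← zpow_natCast g 2, ← zpow_mul, show ((2 : ℕ) : ℤ) * (k + 1) = ((2 * k + 1 : ℕ) : ℤ) + 1 by push_cast; ring,
    zpow_add_one, zpow_natCast, h, one_mul]

/-- If the square of an element of odd order fixes something, so does the element. -/
theorem fix_of_sq {g e : Y} (hg : Odd (orderOf g)) (h : g * g * e = e * (g * g)) : g * e = e * g := by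
  have hle : zpowers (g * g) ≤ centralizer ({e} : Set Y) :=
    zpowers_le.2 (mem_centralizer_singleton_iff.2 h)
  exact mem_centralizer_singleton_iff.1 (hle (mem_zpowers_sq hg))

/-- If an element of odd order moves `e` by a factor it fixes, of order at most two, it fixes `e`. -/
theorem fix_of_step {g e s : Y} (hg : Odd (orderOf g)) (he : g * e * g⁻¹ = e * s) (hs : g * s * g⁻¹ = s)
    (hs2 : s * s = 1) : g * e = e * g := by
  refine fix_of_sq hg (mul_inv_eq_iff_eq_mul.1 ?_)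
  rw [show g * g * e * (g * g)⁻¹ = g * (g * e * g⁻¹) * g⁻¹ by group, he,
    show g * (e * s) * g⁻¹ = g * e * g⁻¹ * (g * s * g⁻¹) by group, he, hs, mul_assoc, hs2, mul_one]

/-- An element is the product of powers of it of 2-power order and of odd order. -/
theorem exists_parts (g : Y) : ∃ a b : Y, a ∈ zpowers g ∧ b ∈ zpowers g ∧ a * b = g ∧
    (∃ i : ℕ, orderOf a ∣ 2 ^ i) ∧ Odd (orderOf b) := by
  obtain ⟨i, m, hm, hord⟩ := Nat.exists_eq_pow_mul_and_not_dvd (orderOf_pos g).ne' 2 (by norm_num)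
  have hmodd : Odd m := Nat.odd_iff.2 (by omega)
  have hcop : IsCoprime ((2 : ℤ) ^ i) (m : ℤ) := by
    refine IsCoprime.pow_left (Int.isCoprime_iff_gcd_eq_one.2 ?_)
    rw [Int.gcd_eq_natAbs]
    exact (Nat.Prime.coprime_iff_not_dvd Nat.prime_two).2 hm
  obtain ⟨u, v, huv⟩ := hcop
  have h1 : g ^ ((2 : ℤ) ^ i * m) = 1 := by
    have h := pow_orderOf_eq_one g
    rw [hord, ← zpow_natCast] at h
    push_cast at h
    exact h
  refine ⟨g ^ (v * (m : ℤ)), g ^ (u * (2 : ℤ) ^ i), zpow_mem (mem_zpowers g) _, zpow_mem (mem_zpowers g) _, ?_, ⟨i, ?_⟩, ?_⟩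
  · rw [← zpow_add, add_comm, huv, zpow_one]
  · refine orderOf_dvd_of_pow_eq_one ?_
    rw [← zpow_natCast, ← zpow_mul, show v * (m : ℤ) * ((2 ^ i : ℕ) : ℤ) = (2 : ℤ) ^ i * m * v by push_cast; ring,
      zpow_mul, h1, one_zpow]
  · refine hmodd.of_dvd_nat (orderOf_dvd_of_pow_eq_one ?_)
    rw [← zpow_natCast, ← zpow_mul, show u * (2 : ℤ) ^ i * (m : ℤ) = (2 : ℤ) ^ i * m * u by ring, zpow_mul, h1,
      one_zpow]

theorem isPGroup_zpowers {a : Y} {i : ℕ} (h : orderOf a ∣ 2 ^ i) : IsPGroup 2 (zpowers a) := by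
  obtain ⟨j, -, hj⟩ := (Nat.dvd_prime_pow Nat.prime_two).1 h
  exact IsPGroup.of_card (n := j) (by rw [Nat.card_zpowers, hj])

theorem eq_one_of_two_odd {x : Y} {T : Subgroup Y} (hT : IsPGroup 2 T) (hx : x ∈ T) (ho : Odd (orderOf x)) :
    x = 1 := by
  haveI : Fact (Nat.Prime 2) := ⟨Nat.prime_two⟩
  obtain ⟨k, hk⟩ := IsPGroup.iff_orderOf.1 hT ⟨x, hx⟩
  rw [← Subgroup.orderOf_coe] at hk
  rw [hk, Nat.odd_iff] at ho
  rcases k with _ | k
  · exact orderOf_eq_one_iff.1 (by rw [hk, pow_zero])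
  · rw [pow_succ, Nat.mul_mod_left] at ho
    omega

theorem inf_eq_bot {T D : Subgroup Y} (hT : IsPGroup 2 T) (hD : Odd (Nat.card D)) {x : Y} (hxT : x ∈ T)
    (hxD : x ∈ D) : x = 1 :=
  eq_one_of_two_odd hT hxT (odd_orderOf hD hxD)

theorem mem_sup_iff {T D : Subgroup Y} (hTD : T ≤ normalizer (D : Set Y)) {x : Y} (hx : x ∈ T ⊔ D) :
    ∃ t ∈ T, ∃ d ∈ D, t * d = x := by
  rw [← SetLike.mem_coe, Subgroup.coe_mul_of_left_le_normalizer_right T D hTD, Set.mem_mul] at hx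
  exact hx

/-- An element of a product of a 2-group and an odd normal subgroup of odd order lies in the latter. -/
theorem odd_mem_of_sup {T D : Subgroup Y} (hT : IsPGroup 2 T) (hD : Odd (Nat.card D))
    (hTD : T ≤ normalizer (D : Set Y)) {x : Y} (hx : x ∈ T ⊔ D) (ho : Odd (orderOf x)) : x ∈ D := by
  obtain ⟨t, ht, d, hd, e⟩ := mem_sup_iff hTD hx
  haveI : Fact (Nat.Prime 2) := ⟨Nat.prime_two⟩
  obtain ⟨k, hk⟩ := IsPGroup.iff_orderOf.1 hT ⟨t, ht⟩
  rw [← Subgroup.orderOf_coe] at hk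
  have hpow : ∀ n : ℕ, ∃ d' ∈ D, x ^ n = t ^ n * d' := by
    intro n
    induction n with
    | zero => exact ⟨1, one_mem D, by simp⟩
    | succ n ih =>
      obtain ⟨d', hd', e'⟩ := ih
      refine ⟨t⁻¹ * d' * t * d, mul_mem ?_ hd, ?_⟩
      · have := (mem_normalizer_iff.1 (inv_mem (hTD ht)) d').1 hd'
        rwa [inv_inv] at this
      · rw [pow_succ, e', ← e, pow_succ]
        group
  obtain ⟨d', hd', e'⟩ := hpow (2 ^ k)
  rw [← hk, pow_orderOf_eq_one, one_mul, hk] at e'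
  have hxk : x ^ (2 ^ k) ∈ D := e' ▸ hd'
  obtain ⟨j, hj⟩ := exists_pow_eq_self_of_coprime (x := x) (n := 2 ^ k)
    (Nat.Coprime.pow_left k ((Nat.coprime_two_left).2 ho))
  rw [← hj]
  exact pow_mem hxk j

theorem odd_sup {A D : Subgroup Y} (hA : Odd (Nat.card A)) (hD : Odd (Nat.card D))
    (hAD : A ≤ normalizer (D : Set Y)) : Odd (Nat.card (A ⊔ D : Subgroup Y)) := by
  haveI : Fact (Nat.Prime 2) := ⟨Nat.prime_two⟩
  refine Nat.not_even_iff_odd.1 fun he => ?_
  obtain ⟨x, hx⟩ := exists_prime_orderOf_dvd_card' 2 (even_iff_two_dvd.1 he)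
  rw [← Subgroup.orderOf_coe] at hx
  obtain ⟨a, ha, d, hd, e⟩ := mem_sup_iff hAD x.2
  have hpow : ∀ n : ℕ, ∃ d' ∈ D, (x : Y) ^ n = a ^ n * d' := by
    intro n
    induction n with
    | zero => exact ⟨1, one_mem D, by simp⟩
    | succ n ih =>
      obtain ⟨d', hd', e'⟩ := ih
      refine ⟨a⁻¹ * d' * a * d, mul_mem ?_ hd, ?_⟩
      · have := (mem_normalizer_iff.1 (inv_mem (hAD ha)) d').1 hd'
        rwa [inv_inv] at this
      · rw [pow_succ, e', ← e, pow_succ]
        group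
  obtain ⟨d', hd', e'⟩ := hpow (Nat.card A)
  have h1 : a ^ Nat.card A = 1 := congrArg Subtype.val (pow_card_eq_one' (x := (⟨a, ha⟩ : A)))
  rw [h1, one_mul] at e'
  obtain ⟨k, hk⟩ := hA
  have hxD : (x : Y) ∈ D := by
    have h2 := pow_orderOf_eq_one (x : Y)
    rw [hx] at h2
    rw [hk, pow_succ, pow_mul, h2, one_pow, one_mul] at e'
    exact e' ▸ hd'
  have := odd_orderOf hD hxD
  rw [hx] at this
  exact absurd this (by decide)

/-- An odd subgroup normalized by an invariant subgroup of the centralizer lies in its core. -/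
theorem le_core_of_invariant {a : Y} {K D : Subgroup Y} (hK : K ≤ centralizer ({a} : Set Y))
    (hKi : ∀ g : Y, g * a = a * g → ∀ k ∈ K, g * k * g⁻¹ ∈ K) (hDK : D ≤ K) (hD : Odd (Nat.card D))
    (hDi : ∀ k ∈ K, ∀ d ∈ D, k * d * k⁻¹ ∈ D) : D ≤ core a := by
  set O := (Cfsg.oddCore K).map K.subtype
  have hDO : D ≤ O := fun d hd => ⟨⟨d, hDK hd⟩, InvChar.Core.le_oddCore (N := D.subgroupOf K)
    ⟨fun y hy k => hDi k k.2 y hy⟩ (by rwa [Nat.card_congr (subgroupOfEquivOfLe hDK).toEquiv]) hd, rfl⟩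
  refine hDO.trans (le_core ((map_subtype_le _).trans hK) ?_ ?_)
  · rw [card_map_of_injective K.subtype_injective]
    exact InvChar.Core.odd_card_oddCore
  · intro g hg x hx
    obtain ⟨y, hy, rfl⟩ := hx
    have hgi : g⁻¹ * a = a * g⁻¹ := by rw [inv_mul_eq_iff_eq_mul, ← mul_assoc, hg, mul_inv_cancel_right]
    let e : K ≃* K :=
      { toFun := fun c => ⟨g * c * g⁻¹, hKi g hg c c.2⟩
        invFun := fun c => ⟨g⁻¹ * c * g, by simpa using hKi g⁻¹ hgi c c.2⟩
        left_inv := fun c => Subtype.ext (by show g⁻¹ * (g * c * g⁻¹) * g = (c : Y); group)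
        right_inv := fun c => Subtype.ext (by show g * (g⁻¹ * c * g) * g⁻¹ = (c : Y); group)
        map_mul' := fun c d => Subtype.ext (by
          show g * ((c : Y) * d) * g⁻¹ = g * c * g⁻¹ * (g * d * g⁻¹); group) }
    exact ⟨e y, (InvChar.Core.map_pPrimeCore_equiv 2 e).le ⟨y, hy, rfl⟩, rfl⟩

/-- The elements of odd order of a group with normal 2-complement are in its core. -/
theorem mem_oddCore_of_complement {H : Type u} [Group H] [Finite H] (h : Cfsg.HasNormalPComplement 2 H) {x : H}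
    (hx : Odd (orderOf x)) : x ∈ Cfsg.oddCore H := by
  haveI : (Cfsg.pPrimeCore 2 H).Characteristic := InvChar.Core.pPrimeCore_characteristic 2
  obtain ⟨k, hk⟩ := Transfer.NormalPComplement.hasNormalPComplement_iff_pPrimeCore.1 h
  have hq : (QuotientGroup.mk' (Cfsg.pPrimeCore 2 H) x) ^ (2 ^ k) = 1 := by
    rw [← hk]
    exact pow_card_eq_one'
  rw [← map_pow, QuotientGroup.mk'_apply, QuotientGroup.eq_one_iff] at hq
  obtain ⟨j, hj⟩ := exists_pow_eq_self_of_coprime (x := x) (n := 2 ^ k)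
    (Nat.Coprime.pow_left k ((Nat.coprime_two_left).2 hx))
  rw [← hj]
  exact pow_mem hq j

/-- A subgroup whose 2-elements lie in a central 2-subgroup: its elements of odd order form an odd subgroup. -/
theorem exists_odd_part {K T : Subgroup Y} (hTK : T ≤ K) (hT : IsPGroup 2 T)
    (hTc : ∀ t ∈ T, ∀ k ∈ K, t * k = k * t) (h2 : ∀ k ∈ K, (∃ i, orderOf k ∣ 2 ^ i) → k ∈ T) :
    ∃ D : Subgroup Y, D ≤ K ∧ Odd (Nat.card D) ∧ (∀ k ∈ K, Odd (orderOf k) → k ∈ D) ∧ K = T ⊔ D ∧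
      ∀ g : Y, (∀ k ∈ K, g * k * g⁻¹ ∈ K) → ∀ d ∈ D, g * d * g⁻¹ ∈ D := by
  classical
  haveI : Fact (Nat.Prime 2) := ⟨Nat.prime_two⟩
  obtain ⟨P⟩ : Nonempty (Sylow 2 K) := inferInstance
  have hP : ∀ p : K, p ∈ (P : Subgroup K) → (p : Y) ∈ T := fun p hp => h2 p p.2 (by
    obtain ⟨i, hi⟩ := IsPGroup.iff_orderOf.1 P.isPGroup' ⟨p, hp⟩
    rw [← Subgroup.orderOf_coe] at hi
    rw [← Subgroup.orderOf_coe] at hi
    exact ⟨i, dvd_of_eq hi⟩)
  have hc := Transfer.NormalPComplement.hasNormalPComplement_of_normalizer_le_centralizer P fun n _ =>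
    mem_centralizer_iff.2 fun p hp => Subtype.ext (hTc _ (hP p hp) n n.2)
  set D := (Cfsg.oddCore K).map K.subtype
  have hmem : ∀ k ∈ K, Odd (orderOf k) → k ∈ D := fun k hk ho =>
    ⟨⟨k, hk⟩, mem_oddCore_of_complement hc (by rwa [← Subgroup.orderOf_coe]), rfl⟩
  have hDodd : Odd (Nat.card D) := by
    rw [card_map_of_injective K.subtype_injective]; exact InvChar.Core.odd_card_oddCore
  refine ⟨D, map_subtype_le _, hDodd, hmem, le_antisymm (fun k hk => ?_) (sup_le hTK (map_subtype_le _)),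
    fun g hg d hd => ?_⟩
  · obtain ⟨a, b, ha, hb, hab, hi, hbo⟩ := exists_parts k
    have hz : zpowers k ≤ K := zpowers_le.2 hk
    rw [← hab]
    exact mul_mem (mem_sup_left (h2 a (hz ha) hi)) (mem_sup_right (hmem b (hz hb) hbo))
  · refine hmem _ (hg d (map_subtype_le _ hd)) ?_
    rw [Involutions.Basic.orderOf_conj]
    exact odd_orderOf hDodd hd

/-- The Frattini argument for a 2-subgroup modulo an odd subgroup it normalizes. -/
theorem exists_mul_normalizer {T D : Subgroup Y} (hT : IsPGroup 2 T) (hD : Odd (Nat.card D))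
    (hTD : T ≤ normalizer (D : Set Y)) {g : Y} (h : ∀ t ∈ T, g * t * g⁻¹ ∈ T ⊔ D) :
    ∃ d ∈ D, d * g ∈ normalizer (T : Set Y) := by
  classical
  haveI : Fact (Nat.Prime 2) := ⟨Nat.prime_two⟩
  set N := T ⊔ D
  obtain ⟨P, hP⟩ := (hT.comap_subtype : IsPGroup 2 (T.subgroupOf N)).exists_le_sylow
  have hPT : ∀ p : N, p ∈ (P : Subgroup N) → (p : Y) ∈ T := by
    intro p hp
    obtain ⟨t, ht, d, hd, e⟩ := mem_sup_iff hTD p.2
    have hdP : (⟨d, mem_sup_right hd⟩ : N) ∈ (P : Subgroup N) := by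
      have : (⟨d, mem_sup_right hd⟩ : N) = (⟨t, mem_sup_left ht⟩ : N)⁻¹ * p :=
        Subtype.ext (by rw [Subgroup.coe_mul, Subgroup.coe_inv, ← e, inv_mul_cancel_left])
      rw [this]
      exact mul_mem (inv_mem (hP ht)) hp
    have : d = 1 := congrArg Subtype.val (eq_one_of_two_odd P.isPGroup' hdP
      (by rw [← Subgroup.orderOf_coe]; exact odd_orderOf hD hd))
    rw [← e, this, mul_one]
    exact ht
  have hgT : T.map (MulAut.conj g).toMonoidHom ≤ N := by
    rintro _ ⟨t, ht, rfl⟩; exact h t ht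
  obtain ⟨Q, hQ⟩ := ((hT.map _).comap_subtype :
    IsPGroup 2 ((T.map (MulAut.conj g).toMonoidHom).subgroupOf N)).exists_le_sylow
  obtain ⟨k, hk⟩ := MulAction.exists_smul_eq N Q P
  have hkg : ∀ t ∈ T, (k : Y) * g * t * ((k : Y) * g)⁻¹ ∈ T := by
    intro t ht
    have : (k * ⟨g * t * g⁻¹, hgT ⟨t, ht, rfl⟩⟩ * k⁻¹ : N) ∈ (P : Subgroup N) := by
      rw [← hk, Sylow.coe_subgroup_smul]
      exact ⟨_, hQ (mem_subgroupOf.2 ⟨t, ht, rfl⟩), rfl⟩
    rw [show (k : Y) * g * t * ((k : Y) * g)⁻¹ = k * (g * t * g⁻¹) * (k : Y)⁻¹ by group]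
    exact hPT _ this
  obtain ⟨s, hs, d, hd, e⟩ := mem_sup_iff hTD k.2
  refine ⟨d, hd, ?_⟩
  have hdg : ∀ t ∈ T, d * g * t * (d * g)⁻¹ ∈ T := fun t ht => by
    have := mul_mem (mul_mem (inv_mem hs) (hkg t ht)) hs
    rwa [← e, show s⁻¹ * (s * d * g * t * (s * d * g)⁻¹) * s = d * g * t * (d * g)⁻¹ by group] at this
  have heq : T.map (MulAut.conj (d * g)).toMonoidHom = T :=
    eq_of_le_of_card_ge (by rintro _ ⟨t, ht, rfl⟩; exact hdg t ht)
      (by rw [card_map_of_injective (MulAut.conj _).injective])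
  refine mem_normalizer_iff.2 fun t => ⟨hdg t, fun ht => ?_⟩
  rw [← heq] at ht
  obtain ⟨t', ht', e1⟩ := ht
  exact (MulAut.conj (d * g)).injective e1 ▸ ht'

end Cfsg.Agent.J2Type.Loc
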