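import Mathlib
import Cfsg.Prelude.Def_Involutions
import Cfsg.Agent.S0205
import Cfsg.Agent.S0223
import Cfsg.Agent.S1225
import Cfsg.Agent.Lib.J2Type.Local2
import Cfsg.Agent.Lib.SolvableSignalizer.Main
import Cfsg.Agent.Lib.IndexFourCentre.Abelian

/-!
The signalizer functor of cores, and groups with elementary Sylow 2-subgroups in which the centralizers
of involutions have normal 2-complements.
-/

set_option autoImplicit false
set_option linter.style.haveILetI false
set_option linter.unusedSectionVars false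

namespace Cfsg.Agent.J2Type.Loc

open Subgroup

universe u

variable {Y : Type u} [Group Y] [Finite Y]

/-- The join of the cores over an elementary subgroup. -/
def wJoin (A : Subgroup Y) : Subgroup Y := ⨆ a : {a : Y // a ∈ A ∧ a ≠ 1}, core (a : Y)

theorem le_wJoin {A : Subgroup Y} {a : Y} (ha : a ∈ A) (ha1 : a ≠ 1) : core a ≤ wJoin A :=
  le_iSup (fun a : {a : Y // a ∈ A ∧ a ≠ 1} => core (a : Y)) ⟨a, ha, ha1⟩

/-- Balanced cores generate an odd subgroup. -/
theorem wJoin_odd {A : Subgroup Y} (hA : Cfsg.IsElementaryAbelian 2 A) (hA3 : 8 ≤ Nat.card A)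
    (hbal : ∀ a ∈ A, a ≠ 1 → ∀ b ∈ A, b ≠ 1 → core a ⊓ centralizer ({b} : Set Y) ≤ core b) :
    Odd (Nat.card (wJoin A)) := by
  haveI := hA.1
  have hθ : Cfsg.IsSolvableSignalizerFunctor 2 A core := by
    refine ⟨⟨fun a _ _ => core_le a, fun a _ _ h => ?_, fun a ha _ b hb x hx => ?_, hbal⟩,
      fun a _ _ => Cfsg.Agent.S0205.result (core_odd a)⟩
    · exact Nat.not_even_iff_odd.2 (core_odd a) (even_iff_two_dvd.2 h)
    · exact core_conj_mem (congrArg Subtype.val (mul_comm' (⟨b, hb⟩ : A) ⟨a, ha⟩)) hx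
  have h := (SolvableSignalizer.iSup_mem Nat.prime_two hA (by norm_num; exact hA3) hθ).2.1
  exact Nat.not_even_iff_odd.1 fun he => h (even_iff_two_dvd.1 he)

/-- An element mapping `A` into itself normalizes the join. -/
theorem normalizes_wJoin {A : Subgroup Y} {g : Y} (h : ∀ a ∈ A, g * a * g⁻¹ ∈ A) :
    ∀ x ∈ wJoin A, g * x * g⁻¹ ∈ wJoin A := by
  intro x hx
  have hle : wJoin A ≤ (wJoin A).comap (MulAut.conj g).toMonoidHom := iSup_le fun a y hy => by
    have hga : g * (a : Y) * g⁻¹ ≠ 1 := fun e => a.2.2 (conj_eq_one_iff.1 e)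
    refine le_wJoin (h a a.2.1) hga ?_
    obtain ⟨y', hy', rfl⟩ := hy
    refine ⟨⟨g * y' * g⁻¹, mem_centralizer_singleton_iff.2 ?_⟩, ?_, rfl⟩
    · have := mem_centralizer_singleton_iff.1 y'.2
      calc g * y' * g⁻¹ * (g * a * g⁻¹) = g * ((y' : Y) * a) * g⁻¹ := by group
        _ = g * ((a : Y) * y') * g⁻¹ := by rw [this]
        _ = _ := by group
    · let e : centralizer ({(a : Y)} : Set Y) ≃* centralizer ({g * (a : Y) * g⁻¹} : Set Y) :=
        { toFun := fun c => ⟨g * c * g⁻¹, mem_centralizer_singleton_iff.2 (by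
            calc g * c * g⁻¹ * (g * a * g⁻¹) = g * ((c : Y) * a) * g⁻¹ := by group
              _ = g * ((a : Y) * c) * g⁻¹ := by rw [mem_centralizer_singleton_iff.1 c.2]
              _ = _ := by group)⟩
          invFun := fun c => ⟨g⁻¹ * c * g, mem_centralizer_singleton_iff.2 (by
            calc g⁻¹ * c * g * a = g⁻¹ * (c * (g * a * g⁻¹)) * g := by group
              _ = g⁻¹ * (g * a * g⁻¹ * c) * g := by rw [mem_centralizer_singleton_iff.1 c.2]
              _ = _ := by group)⟩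
          left_inv := fun c => Subtype.ext (by show g⁻¹ * (g * c * g⁻¹) * g = (c : Y); group)
          right_inv := fun c => Subtype.ext (by show g * (g⁻¹ * c * g) * g⁻¹ = (c : Y); group)
          map_mul' := fun c d => Subtype.ext (by
            show g * ((c : Y) * d) * g⁻¹ = g * c * g⁻¹ * (g * d * g⁻¹); group) }
      have := InvChar.Core.map_pPrimeCore_equiv 2 e
      exact this.le ⟨y', hy', rfl⟩
  exact hle hx

/-- The centralizer of an involution is its core times `T` if it has a normal 2-complement. -/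
theorem centralizer_le_sup {t : Y} (T : Subgroup Y) (hT : IsPGroup 2 T) (hTc : T ≤ centralizer ({t} : Set Y))
    (hodd : ∀ g : Y, g * t = t * g → Odd (orderOf g) → g ∈ core t)
    (hmax : ∀ P : Subgroup Y, IsPGroup 2 P → P ≤ centralizer ({t} : Set Y) → Nat.card P ≤ Nat.card T) :
    centralizer ({t} : Set Y) ≤ T ⊔ core t := by
  haveI : Fact (Nat.Prime 2) := ⟨Nat.prime_two⟩
  intro g hg
  set C := centralizer ({t} : Set Y)
  obtain ⟨P, hP⟩ := (hT.comap_subtype : IsPGroup 2 (T.subgroupOf C)).exists_le_sylow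
  have hPT : T = (P : Subgroup C).map C.subtype := eq_of_le_of_card_ge (fun s hs => ⟨⟨s, hTc hs⟩, hP hs, rfl⟩)
    (hmax _ (P.isPGroup'.map _) (map_subtype_le _))
  haveI : ((core t).subgroupOf C).Normal :=
    ⟨fun y hy c => core_conj_mem (mem_centralizer_singleton_iff.1 c.2) hy⟩
  set π := QuotientGroup.mk' ((core t).subgroupOf C)
  have hall : IsPGroup 2 (C ⧸ (core t).subgroupOf C) := by
    refine IsPGroup.iff_orderOf.2 fun x => ?_
    obtain ⟨c, rfl⟩ := QuotientGroup.mk_surjective x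
    obtain ⟨a, b, ha, hb, hab, ⟨i, hi⟩, hbo⟩ := exists_parts (c : Y)
    have hcz : zpowers (c : Y) ≤ C := zpowers_le.2 c.2
    have hb1 : (QuotientGroup.mk ⟨b, hcz hb⟩ : C ⧸ (core t).subgroupOf C) = 1 :=
      (QuotientGroup.eq_one_iff _).2 (hodd b (mem_centralizer_singleton_iff.1 (hcz hb)) hbo)
    rw [show c = ⟨a, hcz ha⟩ * ⟨b, hcz hb⟩ from Subtype.ext hab.symm, QuotientGroup.mk_mul, hb1, mul_one]
    have h1 : orderOf (⟨a, hcz ha⟩ : C) ∣ 2 ^ i := by
      rw [← Subgroup.orderOf_coe]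
      exact hi
    obtain ⟨j, -, hj⟩ := (Nat.dvd_prime_pow Nat.prime_two).1 ((orderOf_map_dvd π _).trans h1)
    exact ⟨j, hj⟩
  let Q := P.mapSurjective (f := π) (QuotientGroup.mk'_surjective _)
  have hQ : ((⊤ : Subgroup (C ⧸ (core t).subgroupOf C))) = (Q : Subgroup _) :=
    Q.3 (hall.of_injective (Subgroup.subtype _) Subtype.val_injective) le_top
  have h2 : π ⟨g, hg⟩ ∈ (P : Subgroup C).map π := by
    have h3 : π ⟨g, hg⟩ ∈ (Q : Subgroup _) := hQ ▸ mem_top _
    exact h3
  obtain ⟨s', hs', e⟩ := h2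
  rw [QuotientGroup.mk'_apply, QuotientGroup.mk'_apply, QuotientGroup.eq] at e
  have hsT : (s' : Y) ∈ T := by rw [hPT]; exact ⟨s', hs', rfl⟩
  have := mul_mem (mem_sup_left (T := core t) hsT) (mem_sup_right (S := T) (mem_subgroupOf.1 e))
  simpa using this

/-- In a group with elementary Sylow 2-subgroup of order at least 8 whose normalizer fixes no nonidentity
element except through the centralizer, and with more than one class of involutions, the Sylow subgroup is
normal modulo the core. -/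
theorem conj_mem_sup (T : Sylow 2 Y) (hT : Cfsg.IsElementaryAbelian 2 (T : Subgroup Y))
    (h8 : 8 ≤ Nat.card (T : Subgroup Y))
    (hfix : ∀ g : Y, g ∈ normalizer ((T : Subgroup Y) : Set Y) → Odd (orderOf g) →
      ∀ t ∈ (T : Subgroup Y), t ≠ 1 → g * t = t * g → ∀ s ∈ (T : Subgroup Y), g * s = s * g)
    (hnc : ∃ s ∈ (T : Subgroup Y), ∃ t ∈ (T : Subgroup Y), s ≠ 1 ∧ t ≠ 1 ∧ ¬ IsConj s t) :
    ∀ g : Y, ∀ t ∈ (T : Subgroup Y), g * t * g⁻¹ ∈ (T : Subgroup Y) ⊔ Cfsg.oddCore Y := by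
  classical
  haveI : Fact (Nat.Prime 2) := ⟨Nat.prime_two⟩
  haveI := hT.1
  have hcomm : ∀ a ∈ (T : Subgroup Y), ∀ b ∈ (T : Subgroup Y), a * b = b * a := fun a ha b hb =>
    congrArg Subtype.val (mul_comm' (⟨a, ha⟩ : (T : Subgroup Y)) ⟨b, hb⟩)
  have hord : ∀ t ∈ (T : Subgroup Y), t ≠ 1 → orderOf t = 2 := fun t ht h1 =>
    orderOf_eq_prime (hT.2 t ht) h1
  have hTc : ∀ t ∈ (T : Subgroup Y), (T : Subgroup Y) ≤ centralizer ({t} : Set Y) := fun t ht s hs =>
    mem_centralizer_singleton_iff.2 (hcomm s hs t ht)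
  -- centralizers have normal 2-complements
  have hcomp : ∀ t ∈ (T : Subgroup Y), t ≠ 1 → ∀ g : Y, g * t = t * g → Odd (orderOf g) → g ∈ core t := by
    intro t ht ht1 g hg hgo
    set C := centralizer ({t} : Set Y)
    obtain ⟨P, hP⟩ : ∃ P : Sylow 2 C, (P : Subgroup C) = (T : Subgroup Y).subgroupOf C :=
      ⟨T.subtype (hTc t ht), rfl⟩
    have hc := Transfer.NormalPComplement.hasNormalPComplement_of_normalizer_le_centralizer P fun n hn => by
      refine mem_centralizer_iff.2 fun p hp => Subtype.ext (Eq.symm ?_)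
      have hpT : (p : Y) ∈ (T : Subgroup Y) := mem_subgroupOf.1 (hP.le hp)
      have hnT : (n : Y) ∈ normalizer ((T : Subgroup Y) : Set Y) := by
        refine mem_normalizer_iff.2 fun s => ?_
        have h1 := mem_normalizer_iff.1 hn
        constructor
        · intro hs
          have := (h1 ⟨s, hTc t ht hs⟩).1 (hP.ge (mem_subgroupOf.2 hs))
          exact mem_subgroupOf.1 (hP.le this)
        · intro hs
          have hsC : s ∈ C := by
            have := mul_mem (mul_mem (inv_mem n.2) (hTc t ht hs)) n.2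
            rwa [show (n : Y)⁻¹ * ((n : Y) * s * (n : Y)⁻¹) * n = s by group] at this
          exact mem_subgroupOf.1 (hP.le ((h1 ⟨s, hsC⟩).2 (hP.ge (mem_subgroupOf.2 hs))))
      show (n : Y) * p = p * n
      obtain ⟨a, b, ha, hb, hab, ⟨i, hi⟩, hbo⟩ := exists_parts (n : Y)
      have hzN : zpowers (n : Y) ≤ normalizer ((T : Subgroup Y) : Set Y) := zpowers_le.2 hnT
      have hzC : zpowers (n : Y) ≤ C := zpowers_le.2 n.2
      have haT : a ∈ (T : Subgroup Y) := by
        have h2 : IsPGroup 2 ((T : Subgroup Y) ⊔ zpowers a : Subgroup Y) :=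
          IsPGroup.to_sup_of_normal_left' T.isPGroup' (isPGroup_zpowers hi)
            (zpowers_le.2 (hzN ha))
        have := T.3 h2 le_sup_left
        exact this ▸ mem_sup_right (mem_zpowers a)
      have hb' := hfix b (hzN hb) hbo t ht ht1 (mem_centralizer_singleton_iff.1 (hzC hb)) p hpT
      rw [← hab, mul_assoc, hb', ← mul_assoc, hcomm a haT p hpT, mul_assoc]
    exact ⟨⟨g, mem_centralizer_singleton_iff.2 hg⟩, mem_oddCore_of_complement hc (by rwa [← Subgroup.orderOf_coe]), rfl⟩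
  set W := wJoin (T : Subgroup Y)
  have hWodd : Odd (Nat.card W) := wJoin_odd hT h8 fun a ha ha1 b hb hb1 x hx =>
    hcomp b hb hb1 x (mem_centralizer_singleton_iff.1 hx.2) (odd_orderOf (core_odd a) hx.1)
  have hNW : normalizer ((T : Subgroup Y) : Set Y) ≤ normalizer (W : Set Y) := fun g hg =>
    mem_normalizer_iff.2 fun x => ⟨normalizes_wJoin (fun a ha => (mem_normalizer_iff.1 hg a).1 ha) x, fun hx => by
      have := normalizes_wJoin (g := g⁻¹) (fun a ha => (mem_normalizer_iff.1 (inv_mem hg) a).1 ha) _ hx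
      rwa [show g⁻¹ * (g * x * g⁻¹) * g⁻¹⁻¹ = x by group] at this⟩
  have hTW : (T : Subgroup Y) ≤ normalizer (W : Set Y) := le_trans le_normalizer hNW
  set N := (T : Subgroup Y) ⊔ W
  set M := normalizer (N : Set Y)
  have hNM : normalizer ((T : Subgroup Y) : Set Y) ≤ M := SolvableSignalizer.le_normalizer_sup le_rfl hNW
  have hCM : ∀ t ∈ (T : Subgroup Y), t ≠ 1 → centralizer ({t} : Set Y) ≤ M := fun t ht ht1 =>
    (centralizer_le_sup (T : Subgroup Y) T.isPGroup' (hTc t ht) (hcomp t ht ht1) fun P hP hPC => by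
      obtain ⟨k, hk⟩ : ∃ k : Y, P.map (MulAut.conj k).toMonoidHom ≤ (T : Subgroup Y) := by
        obtain ⟨Q, hQ⟩ := hP.exists_le_sylow
        obtain ⟨k, hk⟩ := MulAction.exists_smul_eq Y Q T
        exact ⟨k, by rw [← hk, Sylow.coe_subgroup_smul]; exact Subgroup.map_mono hQ⟩
      have := card_le_of_le hk
      rwa [card_map_of_injective (MulAut.conj k).injective] at this).trans
      ((sup_le le_sup_left ((le_wJoin ht ht1).trans le_sup_right)).trans le_normalizer)
  -- `M` is everything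
  have hMtop : M = ⊤ := by
    by_contra hM
    obtain ⟨s, hs, t, ht, hs1, ht1, hst⟩ := hnc
    have heven : Even (Nat.card M) := by
      rw [even_iff_two_dvd, ← hord s hs hs1]
      have h := orderOf_dvd_natCard (⟨s, le_trans le_normalizer hNM hs⟩ : M)
      rwa [← Subgroup.orderOf_coe] at h
    have hTM : (T : Subgroup Y) ≤ M := le_trans le_normalizer hNM
    have hconjT : ∀ a ∈ M, orderOf a = 2 → ∃ m ∈ M, m * a * m⁻¹ ∈ (T : Subgroup Y) := by
      intro a ha ha2
      obtain ⟨k, hk, hkT⟩ := Transfer.Fusion.exists_conj_le_of_isPGroup T hTM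
        (isPGroup_zpowers (i := 1) (by rw [ha2]; norm_num)) (zpowers_le.2 ha)
      exact ⟨k, hk, hkT ⟨a, mem_zpowers a, rfl⟩⟩
    have hse : Cfsg.IsStronglyEmbedded M := by
      refine (Cfsg.Agent.S0223.result M hM heven).2 ⟨fun a ha ha2 c hc => ?_, fun a ha b hb ha2 hb2 hab => ?_⟩
      · obtain ⟨m, hm, hmT⟩ := hconjT a ha ha2
        have h' : m * c * m⁻¹ ∈ M := by
          refine hCM _ hmT (fun e => Involutions.Basic.ne_one ha2 (conj_eq_one_iff.1 e))
            (mem_centralizer_singleton_iff.2 ?_)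
          calc m * c * m⁻¹ * (m * a * m⁻¹) = m * (c * a) * m⁻¹ := by group
            _ = m * (a * c) * m⁻¹ := by rw [mem_centralizer_singleton_iff.1 hc]
            _ = _ := by group
        have := mul_mem (mul_mem (inv_mem hm) h') hm
        rwa [show m⁻¹ * (m * c * m⁻¹) * m = c by group] at this
      · obtain ⟨m, hm, hmT⟩ := hconjT a ha ha2
        obtain ⟨m', hm', hmT'⟩ := hconjT b hb hb2
        obtain ⟨g, hg⟩ := isConj_iff.1 hab
        obtain ⟨n, hn, hne⟩ := IndexFourCentre.Abelian.burnside T hcomm (g := m' * g * m⁻¹) hmT (by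
          rwa [show m' * g * m⁻¹ * (m * a * m⁻¹) * (m' * g * m⁻¹)⁻¹ = m' * (g * a * g⁻¹) * m'⁻¹ by group, hg])
        refine ⟨m'⁻¹ * n * m, mul_mem (mul_mem (inv_mem hm') (hNM hn)) hm, ?_⟩
        rw [show m'⁻¹ * n * m * a * (m'⁻¹ * n * m)⁻¹ = m'⁻¹ * (n * (m * a * m⁻¹) * n⁻¹) * m' by group, hne, ← hg]
        group
    obtain ⟨u, hu, huM⟩ : ∃ u : Y, orderOf u = 2 ∧ u ∉ M := by
      obtain ⟨g, hg⟩ : ∃ g : Y, g ∉ M := by
        by_contra h; push Not at h; exact hM (eq_top_iff.2 fun g _ => h g)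
      refine ⟨g * s * g⁻¹, by rw [Involutions.Basic.orderOf_conj, hord s hs hs1], fun h => hg ?_⟩
      exact Involutions.StronglyEmbedded.mem_of_conj hse (hTM hs) (hord s hs hs1) h
    exact hst ((Cfsg.Agent.S1225.result M hse u hu huM s t (hord s hs hs1) (hTM hs) (hord t ht ht1) (hTM ht)).2
      s t (hord s hs hs1) (hord t ht ht1))
  -- the join lies in the core
  have hWcore : W ≤ Cfsg.oddCore Y := InvChar.Core.le_oddCore (N := W) ⟨fun x hx g => by
    have hg : g ∈ M := hMtop ▸ mem_top g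
    refine odd_mem_of_sup T.isPGroup' hWodd hTW ((mem_normalizer_iff.1 hg x).1 (mem_sup_right hx)) ?_
    rw [Involutions.Basic.orderOf_conj]
    exact odd_orderOf hWodd hx⟩ hWodd
  intro g t ht
  exact sup_le_sup_left hWcore _ ((mem_normalizer_iff.1 (hMtop ▸ mem_top g : g ∈ M) t).1 (mem_sup_left ht))

end Cfsg.Agent.J2Type.Loc
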