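import Mathlib
import Cfsg.Agent.S1620
import Cfsg.Agent.Lib.IcoLeech.Cent
import Cfsg.Agent.Lib.J2Uniq.Hyps
import Cfsg.Agent.Lib.J2Uniq.Start
import Cfsg.Agent.Lib.J3Glue.Setup

/-!
The centralizer of a 2-central involution of the Hall–Janko group by codes.
-/

set_option autoImplicit false
set_option linter.all false
set_option maxRecDepth 100000

namespace Cfsg.Agent.J2Type

open Subgroup
open Cfsg.Agent.IcoLeech

/-- The centralizer of the image of a reflection is the group of codes. -/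
theorem exists_codes_J2 : ∃ ρ : ℕ → Cfsg.Spor.J2, J3Glue.Codes zJ ρ := by
  classical
  haveI : IsSimpleGroup Cfsg.Spor.J2 := Cfsg.Agent.S1620.result.1
  haveI := finite_J2
  haveI : (QJ).Normal := dataJ.normal
  by_cases hcl : ∃ x y : Cfsg.Spor.J2, orderOf x = 2 ∧ orderOf y = 2 ∧ ¬ IsConj x y
  · obtain ⟨K, H⟩ := J2Uniq.exists_hyp_simple zJ orderOf_zJ QJ isExtraspecial_QJ card_QJ dataJ.cent quotEquiv hcl
    obtain ⟨ρ, s, B⟩ := J2Uniq.exists_base H
    exact ⟨ρ, B.mul_eq, B.zero, B.mod_eq, B.zc_eq, B.inj, B.mem, B.surj⟩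
  · push Not at hcl
    obtain ⟨ρ, s, r, F⟩ := J3Glue.exists_full zJ orderOf_zJ QJ isExtraspecial_QJ card_QJ quotEquiv hcl
    exact ⟨ρ, J3Glue.Codes.of_frame F.ext.frame⟩

end Cfsg.Agent.J2Type
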