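import Mathlib
import Cfsg.Agent.Lib.J2Uniq.Model
import Cfsg.Agent.Lib.J2Uniq.Checks

/-!
A Sylow 2-subgroup of the Hall–Janko group inside the group of 1920 codes, and its elementary facts.
The code `32 p + q` has extraspecial part `q` and permutation `p`; the four permutations used fix the
point `4`.
-/

set_option autoImplicit false
set_option maxRecDepth 100000
set_option maxHeartbeats 1000000

namespace Cfsg.Agent.J2Type

open Cfsg.Agent.J2Uniq (mul inv cj)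

/-- The codes of the Sylow subgroup. -/
def sL : List ℕ := [0, 13, 30, 43].flatMap fun p => (List.range 32).map (p * 32 + ·)

/-- The four group generated by `z` and `x`. -/
def zL : List ℕ := [0, 16, 15, 31]

/-- The first elementary abelian subgroup of order 16. -/
def aL : List ℕ := [0, 15, 16, 31, 416, 431, 432, 447, 960, 975, 976, 991, 1376, 1391, 1392, 1407]

/-- The second elementary abelian subgroup of order 16. -/
def bL : List ℕ := [0, 15, 16, 31, 419, 428, 435, 444, 965, 970, 981, 986, 1382, 1385, 1398, 1401]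

/-- The involutions outside the elementary subgroups of order 16. -/
def yL : List ℕ := [1, 2, 4, 8, 17, 18, 20, 24]

/-- The extraspecial subgroup. -/
def qL : List ℕ := List.range 32

/-- The centralizer of `x`. -/
def rL : List ℕ := sL.filter fun a => Nat.beq (mul a 15) (mul 15 a)

/-- Whether two codes commute. -/
def comm (a b : ℕ) : Bool := Nat.beq (mul a b) (mul b a)

theorem comm_iff {a b : ℕ} : comm a b = true ↔ mul a b = mul b a :=
  ⟨Nat.eq_of_beq_eq_true, fun h => by rw [comm, h]; exact Nat.beq_refl _⟩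

theorem sL_closed : ∀ a ∈ sL, a < 1920 ∧ inv a ∈ sL ∧ ∀ b ∈ sL, mul a b ∈ sL := by decide +kernel

theorem sL_count : sL.Nodup ∧ sL.length = 128 ∧ rL.length = 64 ∧ aL.Nodup ∧ bL.Nodup := by decide +kernel

theorem center_ok : ∀ a ∈ sL, (∀ b ∈ sL, mul a b = mul b a) → a = 0 ∨ a = 16 := by decide +kernel

theorem sixteen_central : 16 ∈ sL ∧ ∀ b ∈ sL, mul 16 b = mul b 16 := by decide +kernel

theorem invs_ok : ∀ a ∈ sL, mul a a = 0 → a ∈ zL ∨ a ∈ yL ∨ (a ∈ aL ∧ a ∉ zL) ∨ (a ∈ bL ∧ a ∉ zL) := by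
  decide +kernel

theorem aL_sub : ∀ a ∈ aL, a ∈ rL ∧ a ∈ sL ∧ mul a a = 0 ∧ inv a = a ∧
    ∀ b ∈ aL, mul a b ∈ aL ∧ mul a b = mul b a := by decide +kernel

theorem bL_sub : ∀ a ∈ bL, a ∈ rL ∧ a ∈ sL ∧ mul a a = 0 ∧ inv a = a ∧
    ∀ b ∈ bL, mul a b ∈ bL ∧ mul a b = mul b a := by decide +kernel

theorem cent_aL : ∀ a ∈ aL, a ∉ zL → ∀ b ∈ sL, mul a b = mul b a → b ∈ aL := by decide +kernel

theorem cent_bL : ∀ a ∈ bL, a ∉ zL → ∀ b ∈ sL, mul a b = mul b a → b ∈ bL := by decide +kernel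

theorem cent_yL : ∀ a ∈ yL, a ∈ sL ∧ mul a a = 0 ∧ a ∉ rL ∧ (sL.filter (comm a)).length = 16 ∧
    ∃ b ∈ sL, mul a b = mul b a ∧ mul b b = 16 := by decide +kernel

theorem cent_zL : (∀ b ∈ sL, mul 15 b = mul b 15 ↔ b ∈ rL) ∧ (∀ b ∈ sL, mul 31 b = mul b 31 ↔ b ∈ rL) ∧
    ∀ a ∈ zL, a ∈ rL ∧ a ∈ sL ∧ mul a a = 0 := by decide +kernel

theorem rL_closed : ∀ a ∈ rL, a ∈ sL ∧ inv a ∈ rL ∧ ∀ b ∈ rL, mul a b ∈ rL := by decide +kernel

theorem rL_center : ∀ a ∈ rL, (∀ b ∈ rL, mul a b = mul b a) → a ∈ zL := by decide +kernel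

theorem zL_central : ∀ a ∈ zL, ∀ b ∈ rL, mul a b = mul b a := by decide +kernel

theorem sq_ok : ∀ a ∈ sL, mul (mul a a) (mul a a) = 0 → mul a a ∈ zL := by decide +kernel

theorem norm_aL : ∀ s ∈ sL, (∀ a ∈ aL, cj s a ∈ aL) ↔ s ∈ rL := by decide +kernel

theorem outside_rL : ∀ s ∈ sL, s ∉ rL → cj s 15 = 31 ∧ cj s 31 = 15 ∧ ∀ a ∈ aL, cj s a ∈ bL := by decide +kernel

theorem one_facts : 1 ∈ sL ∧ 1 ∉ rL ∧ 1 ∈ yL ∧ (∀ a ∈ bL, cj 1 a ∈ aL) ∧ cj 1 1 = 1 := by decide +kernel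

end Cfsg.Agent.J2Type
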