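import Mathlib
import Cfsg.Agent.Lib.J2Type.Model
import Cfsg.Agent.Lib.J2Type.J2Codes

/-!
A group isomorphic to a Sylow 2-subgroup of the Hall–Janko group, by codes.
-/

set_option autoImplicit false
set_option linter.style.haveILetI false
set_option linter.unusedSectionVars false

namespace Cfsg.Agent.J2Type

open Subgroup
open Cfsg.Agent.J2Uniq (mul inv cj)

universe u v

variable {G : Type u} [Group G]

/-- `S` is the image of the 128 codes. -/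
structure Syl (S : Subgroup G) (ρ : ℕ → G) : Prop where
  mem : ∀ a ∈ sL, ρ a ∈ S
  mul_eq : ∀ a ∈ sL, ∀ b ∈ sL, ρ (mul a b) = ρ a * ρ b
  inj : ∀ a ∈ sL, ∀ b ∈ sL, ρ a = ρ b → a = b
  surj : ∀ s ∈ S, ∃ a ∈ sL, ρ a = s

/-- The subgroup of a list of codes. -/
def sub (ρ : ℕ → G) (L : List ℕ) : Subgroup G := Subgroup.closure (ρ '' {a | a ∈ L})

theorem mem_sub_of_mem {ρ : ℕ → G} {L : List ℕ} {a : ℕ} (ha : a ∈ L) : ρ a ∈ sub ρ L :=
  subset_closure ⟨a, ha, rfl⟩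

theorem zero_sL : (0 : ℕ) ∈ sL := by decide +kernel

theorem mul_zero_sL : ∀ a ∈ sL, mul a 0 = a ∧ mul 0 a = a ∧ mul a (inv a) = 0 := by decide +kernel

namespace Syl

variable {S : Subgroup G} {ρ : ℕ → G} (F : Syl S ρ)

include F

theorem zero : ρ 0 = 1 := by
  have h := F.mul_eq 0 zero_sL 0 zero_sL
  rw [(mul_zero_sL 0 zero_sL).1] at h
  exact mul_eq_left.1 h.symm

theorem inv_eq {a : ℕ} (ha : a ∈ sL) : ρ (inv a) = (ρ a)⁻¹ := by
  refine eq_inv_of_mul_eq_one_right ?_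
  rw [← F.mul_eq a ha _ (sL_closed a ha).2.1, (mul_zero_sL a ha).2.2, F.zero]

theorem cj_eq {g a : ℕ} (hg : g ∈ sL) (ha : a ∈ sL) : ρ (cj g a) = ρ g * ρ a * (ρ g)⁻¹ := by
  rw [cj, F.mul_eq _ ((sL_closed g hg).2.2 a ha) _ (sL_closed g hg).2.1, F.mul_eq g hg a ha, F.inv_eq hg]

theorem comm {a b : ℕ} (ha : a ∈ sL) (hb : b ∈ sL) : ρ a * ρ b = ρ b * ρ a ↔ mul a b = mul b a := by
  rw [← F.mul_eq a ha b hb, ← F.mul_eq b hb a ha]
  exact ⟨F.inj _ ((sL_closed a ha).2.2 b hb) _ ((sL_closed b hb).2.2 a ha), fun h => by rw [h]⟩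

theorem eq_one {a : ℕ} (ha : a ∈ sL) : ρ a = 1 ↔ a = 0 :=
  ⟨fun h => F.inj a ha 0 zero_sL (h.trans F.zero.symm), fun h => h ▸ F.zero⟩

theorem sq_one {a : ℕ} (ha : a ∈ sL) : ρ a * ρ a = 1 ↔ mul a a = 0 := by
  rw [← F.mul_eq a ha a ha, F.eq_one ((sL_closed a ha).2.2 a ha)]

theorem orderOf_two {a : ℕ} (ha : a ∈ sL) (h : mul a a = 0) (h0 : a ≠ 0) : orderOf (ρ a) = 2 :=
  orderOf_eq_prime (by rw [pow_two, F.sq_one ha, h]) fun e => h0 ((F.eq_one ha).1 e)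

theorem mem_sub {L : List ℕ} (h0 : 0 ∈ L) (hs : ∀ a ∈ L, a ∈ sL) (hi : ∀ a ∈ L, inv a ∈ L)
    (hm : ∀ a ∈ L, ∀ b ∈ L, mul a b ∈ L) {x : G} : x ∈ sub ρ L ↔ ∃ a ∈ L, ρ a = x := by
  refine ⟨fun hx => ?_, fun ⟨a, ha, e⟩ => e ▸ mem_sub_of_mem ha⟩
  induction hx using Subgroup.closure_induction with
  | mem y hy => exact hy
  | one => exact ⟨0, h0, F.zero⟩
  | mul y w _ _ ihy ihw =>
    obtain ⟨a, ha, rfl⟩ := ihy
    obtain ⟨b, hb, rfl⟩ := ihw
    exact ⟨_, hm a ha b hb, F.mul_eq a (hs a ha) b (hs b hb)⟩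
  | inv y _ ihy =>
    obtain ⟨a, ha, rfl⟩ := ihy
    exact ⟨_, hi a ha, F.inv_eq (hs a ha)⟩

theorem card_sub {L : List ℕ} (h0 : 0 ∈ L) (hs : ∀ a ∈ L, a ∈ sL) (hi : ∀ a ∈ L, inv a ∈ L)
    (hm : ∀ a ∈ L, ∀ b ∈ L, mul a b ∈ L) (hn : L.Nodup) : Nat.card (sub ρ L) = L.length := by
  classical
  rw [← List.toFinset_card_of_nodup hn, ← Nat.card_eq_finsetCard]
  refine (Nat.card_eq_of_bijective (fun a : L.toFinset => (⟨ρ a.1, mem_sub_of_mem (List.mem_toFinset.1 a.2)⟩ : sub ρ L))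
    ⟨fun a b e => Subtype.ext ?_, fun x => ?_⟩).symm
  · exact F.inj _ (hs _ (List.mem_toFinset.1 a.2)) _ (hs _ (List.mem_toFinset.1 b.2)) (congrArg Subtype.val e)
  · obtain ⟨a, ha, e⟩ := (F.mem_sub h0 hs hi hm).1 x.2
    exact ⟨⟨a, List.mem_toFinset.2 ha⟩, Subtype.ext e⟩

theorem card_eq : Nat.card S = 128 := by
  classical
  rw [show (128 : ℕ) = sL.toFinset.card by rw [List.toFinset_card_of_nodup sL_count.1, sL_count.2.1],
    ← Nat.card_eq_finsetCard]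
  refine (Nat.card_eq_of_bijective (fun a : sL.toFinset => (⟨ρ a.1, F.mem _ (List.mem_toFinset.1 a.2)⟩ : S))
    ⟨fun a b e => Subtype.ext ?_, fun x => ?_⟩).symm
  · exact F.inj _ (List.mem_toFinset.1 a.2) _ (List.mem_toFinset.1 b.2) (congrArg Subtype.val e)
  · obtain ⟨a, ha, e⟩ := F.surj x.1 x.2
    exact ⟨⟨a, List.mem_toFinset.2 ha⟩, Subtype.ext e⟩

/-- The central involution is the code 16. -/
theorem eq_z {z : G} (hz : orderOf z = 2) (hzS : z ∈ S) (hzc : ∀ s ∈ S, s * z = z * s) : z = ρ 16 := by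
  obtain ⟨a, ha, rfl⟩ := F.surj z hzS
  rcases center_ok a ha fun b hb => (F.comm ha hb).1 (hzc _ (F.mem b hb)).symm with rfl | rfl
  · rw [F.zero, orderOf_one] at hz
    omega
  · rfl

omit F in
/-- Transport along an isomorphism. -/
theorem map {H : Type v} [Group H] {T : Subgroup H} {σ : ℕ → H} (F' : Syl T σ) (e : T ≃* S) :
    ∃ ρ' : ℕ → G, Syl S ρ' := by
  classical
  refine ⟨fun a => if h : a ∈ sL then (e ⟨σ a, F'.mem a h⟩ : G) else 1, ⟨fun a ha => ?_, fun a ha b hb => ?_,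
    fun a ha b hb h => ?_, fun s hs => ?_⟩⟩
  · simp only [dif_pos ha]
    exact SetLike.coe_mem _
  · simp only [dif_pos ha, dif_pos hb, dif_pos ((sL_closed a ha).2.2 b hb)]
    rw [← Subgroup.coe_mul, ← map_mul]
    exact congrArg (fun t : T => (e t : G)) (Subtype.ext (F'.mul_eq a ha b hb))
  · simp only [dif_pos ha, dif_pos hb] at h
    exact F'.inj a ha b hb (congrArg Subtype.val (e.injective (Subtype.ext h)))
  · obtain ⟨a, ha, h⟩ := F'.surj _ (e.symm ⟨s, hs⟩).2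
    refine ⟨a, ha, ?_⟩
    simp only [dif_pos ha]
    rw [show (⟨σ a, F'.mem a ha⟩ : T) = e.symm ⟨s, hs⟩ from Subtype.ext h, MulEquiv.apply_symm_apply]

end Syl

/-- Codes of a centralizer restrict to codes of a Sylow subgroup. -/
theorem syl_of_codes {z : G} {ρ : ℕ → G} (C : J3Glue.Codes z ρ) : Syl (sub ρ sL) ρ := by
  refine ⟨fun a ha => mem_sub_of_mem ha, fun a _ b _ => C.mul_eq a b,
    fun a ha b hb => C.inj' (sL_closed a ha).1 (sL_closed b hb).1, fun s hs => ?_⟩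
  induction hs using Subgroup.closure_induction with
  | mem y hy => exact hy
  | one => exact ⟨0, zero_sL, C.zero⟩
  | mul y w _ _ ihy ihw =>
    obtain ⟨a, ha, rfl⟩ := ihy
    obtain ⟨b, hb, rfl⟩ := ihw
    exact ⟨_, (sL_closed a ha).2.2 b hb, C.mul_eq a b⟩
  | inv y _ ihy =>
    obtain ⟨a, ha, rfl⟩ := ihy
    exact ⟨_, (sL_closed a ha).2.1, C.inv_eq a⟩

/-- The code subgroup is a Sylow 2-subgroup of `J2`. -/
theorem exists_sylow_J2 : ∃ (ρ : ℕ → Cfsg.Spor.J2) (Q : Sylow 2 Cfsg.Spor.J2),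
    J3Glue.Codes IcoLeech.zJ ρ ∧ Syl (Q : Subgroup Cfsg.Spor.J2) ρ := by
  haveI := IcoLeech.finite_J2
  haveI : Fact (Nat.Prime 2) := ⟨Nat.prime_two⟩
  obtain ⟨ρ, C⟩ := exists_codes_J2
  have F := syl_of_codes C
  have hc := F.card_eq
  refine ⟨ρ, Sylow.ofCard (sub ρ sL) ?_, C, ?_⟩
  · rw [hc, IcoLeech.card_J2, show (604800 : ℕ) = 2 ^ 7 * 4725 by norm_num,
      Nat.factorization_mul (by norm_num) (by norm_num), Finsupp.add_apply,
      Nat.Prime.factorization_pow Nat.prime_two, Finsupp.single_eq_same,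
      Nat.factorization_eq_zero_of_not_dvd (by norm_num)]
    norm_num
  · rw [Sylow.coe_ofCard]
    exact F

/-- A group isomorphic to a Sylow 2-subgroup of `J2` has codes. -/
theorem exists_syl {S : Subgroup G} (P : Sylow 2 Cfsg.Spor.J2)
    (hS : Nonempty (↥S ≃* ↥(P : Subgroup Cfsg.Spor.J2))) : ∃ ρ : ℕ → G, Syl S ρ := by
  haveI := IcoLeech.finite_J2
  haveI : Fact (Nat.Prime 2) := ⟨Nat.prime_two⟩
  obtain ⟨σ, Q, -, F⟩ := exists_sylow_J2
  obtain ⟨e⟩ := hS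
  exact Syl.map F ((Sylow.equiv Q P).trans e.symm)

end Cfsg.Agent.J2Type
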