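import Mathlib
import Cfsg.Agent.Lib.J2Type.Model

/-!
Finite facts on the quotient of the Sylow subgroup by its center: codes up to the code 16.
-/

set_option autoImplicit false
set_option maxRecDepth 100000
set_option maxHeartbeats 1000000

namespace Cfsg.Agent.J2Type

open Cfsg.Agent.J2Uniq (mul inv cj)

/-- Two codes are equal up to the central code. -/
def eqv (a b : ℕ) : Bool := Nat.beq a b || Nat.beq (mul 16 a) b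

/-- Two codes commute up to the central code. -/
def cm (a b : ℕ) : Bool := eqv (mul a b) (mul b a)

theorem eqv_iff {a b : ℕ} : eqv a b = true ↔ (a = b ∨ mul 16 a = b) := by
  rw [eqv, Bool.or_eq_true]
  exact ⟨fun h => h.imp Nat.eq_of_beq_eq_true Nat.eq_of_beq_eq_true,
    fun h => h.imp (fun e => by subst e; exact Nat.beq_refl _) (fun e => by subst e; exact Nat.beq_refl _)⟩

/-- The singular codes. -/
def sgL : List ℕ := [1, 2, 4, 8, 15, 17, 18, 20, 24, 31]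

/-- The pair codes. -/
def pL : List ℕ := [3, 5, 6, 7, 9, 10, 11, 12, 13, 14, 19, 21, 22, 23, 25, 26, 27, 28, 29, 30]

/-- The involutions outside the extraspecial subgroup. -/
def vL : List ℕ := [416, 431, 432, 447, 960, 975, 976, 991, 1376, 1391, 1392, 1407,
  419, 428, 435, 444, 965, 970, 981, 986, 1382, 1385, 1398, 1401]

/-- The extraspecial part of the centralizer of `x`. -/
def e8L : List ℕ := [0, 3, 5, 6, 9, 10, 12, 15, 16, 19, 21, 22, 25, 26, 28, 31]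

/-- One code in each class. -/
def repL : List ℕ := sL.filter fun a => Nat.blt (a % 32) 16

theorem repL_count : repL.Nodup ∧ repL.length = 64 ∧ (∀ a ∈ repL, a ∈ sL) := by decide +kernel

theorem repL_cover : ∀ a ∈ sL, a ∈ repL ∨ mul 16 a ∈ repL := by decide +kernel

theorem repL_unique : ∀ a ∈ repL, ∀ b ∈ repL, eqv a b = true → a = b := by decide +kernel

theorem type_cases : ∀ a ∈ sL, mul a a ∈ [0, 16] → a ∈ [0, 16] ∨ a ∈ sgL ∨ a ∈ pL ∨ a ∈ vL := by decide +kernel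

theorem types_sub : (∀ a ∈ sgL, a ∈ qL ∧ a ∈ sL ∧ mul a a ∈ [0, 16] ∧ a ≠ 0 ∧ a ≠ 16) ∧
    (∀ a ∈ pL, a ∈ qL ∧ a ∈ sL ∧ mul a a ∈ [0, 16] ∧ a ≠ 0 ∧ a ≠ 16) ∧
    (∀ a ∈ vL, a ∉ qL ∧ a ∈ sL ∧ mul a a ∈ [0, 16] ∧ a ≠ 0 ∧ a ≠ 16) := by decide +kernel

theorem types_disjoint : (∀ a ∈ sgL, a ∉ pL ∧ a ∉ vL) ∧ (∀ a ∈ pL, a ∉ vL) := by decide +kernel

theorem types_mul : (∀ a ∈ sgL, mul 16 a ∈ sgL) ∧ (∀ a ∈ pL, mul 16 a ∈ pL) ∧ (∀ a ∈ vL, mul 16 a ∈ vL) := by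
  decide +kernel

theorem qL_closed : ∀ a ∈ qL, a ∈ sL ∧ inv a ∈ qL ∧ mul a a ∈ [0, 16] ∧ ∀ b ∈ qL, mul a b ∈ qL ∧ cm a b = true := by
  decide +kernel

theorem qL_cases : ∀ a ∈ qL, a ∈ [0, 16] ∨ a ∈ sgL ∨ a ∈ pL := by decide +kernel

theorem qL_lists : 0 ∈ qL ∧ 16 ∈ qL ∧ 1 ∈ qL ∧ 3 ∈ qL ∧ 12 ∈ qL ∧ 15 ∈ qL := by decide +kernel

theorem qL_normal : ∀ s ∈ sL, ∀ a ∈ qL, cj s a ∈ qL := by decide +kernel

theorem qL_self : ∀ s ∈ sL, (∀ a ∈ qL, cm s a = true) → s ∈ qL := by decide +kernel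

theorem center_U : ∀ s ∈ sL, (∀ a ∈ sL, cm s a = true) → s ∈ [0, 16, 15, 31] := by decide +kernel

theorem x_central : ∀ a ∈ sL, cm 15 a = true := by decide +kernel

theorem e8L_closed : ∀ a ∈ e8L, a ∈ qL ∧ a ∈ rL ∧ inv a ∈ e8L ∧ ∀ b ∈ e8L, mul a b ∈ e8L := by decide +kernel

theorem e8L_iff : ∀ a ∈ qL, a ∈ rL → a ∈ e8L := by decide +kernel

theorem e8L_self : ∀ r ∈ rL, (∀ a ∈ e8L, cm r a = true) → r ∈ e8L := by decide +kernel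

theorem rL_center_U : ∀ r ∈ rL, (∀ a ∈ rL, cm r a = true) → r ∈ [0, 16, 15, 31] := by decide +kernel

theorem rL_facts : (∀ a ∈ rL, mul a a ∈ [0, 16, 15, 31] ∧ mul 16 a ∈ rL) ∧
    (∀ a ∈ sL, a ∈ rL ∨ mul 1 a ∈ rL) ∧ (∀ a ∈ rL, a ∈ sgL → a = 15 ∨ a = 31) ∧ 15 ∈ rL ∧ 3 ∈ rL ∧ 416 ∈ rL := by
  decide +kernel

theorem rL_comm_x : ∀ a ∈ rL, ∀ b ∈ rL, mul (mul a b) (inv (mul b a)) ∈ [0, 16, 15, 31] := by decide +kernel

theorem e8L_fix : ∀ r ∈ rL, r ∉ e8L → ∀ f ∈ e8L, cm f r = true → f ∉ [0, 16, 15, 31] →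
    ∀ g ∈ e8L, cm g r = true → g ∉ [0, 16, 15, 31] → mul f g ∈ [0, 16, 15, 31] := by decide +kernel

theorem e8L_span : ∀ r ∈ e8L, r ∉ [0, 16, 15, 31] → ∀ f ∈ e8L, f ∉ [0, 16, 15, 31] →
    mul r f ∉ [0, 16, 15, 31] → ∀ g ∈ e8L, g ∉ [0, 16, 15, 31] → mul r g ∉ [0, 16, 15, 31] →
    mul f g ∈ [0, 16, 15, 31] ∨ mul r (mul f g) ∈ [0, 16, 15, 31] := by decide +kernel

theorem cent_v : ∀ f ∈ vL, (repL.filter (cm f)).length = 16 := by decide +kernel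

theorem cent_v_sing : ∀ f ∈ vL, ∀ c ∈ sgL, cm f c = true → c = 15 ∨ c = 31 := by decide +kernel

theorem cent_v_pairs : ∀ f ∈ vL, ∀ a ∈ pL, cm f a = true → ∀ b ∈ pL, cm f b = true →
    mul a b ∈ [0, 16, 15, 31] := by decide +kernel

theorem cent_416 : ∀ c ∈ sL, cm c 416 = true → cm c 3 = true → mul c c ∈ [0, 16] →
    c ∈ [0, 16, 15, 31, 3, 19, 12, 28] ∨ c ∈ vL := by decide +kernel

theorem cent_p : ∀ p ∈ pL, (repL.filter (cm p)).length ≤ 32 := by decide +kernel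

theorem cent_w : (∀ b ∈ sL, cm 3 b = true → b ∈ qL ∨ mul 416 b ∈ qL) ∧
    (repL.filter (cm 3)).length = 32 ∧ cm 3 416 = true ∧ cm 3 15 = true ∧ cm 416 15 = true := by decide +kernel

theorem sing_orbit : ∀ a ∈ sgL, a = 15 ∨ a = 31 ∨ ∃ s ∈ sL, eqv (cj s 1) a = true := by decide +kernel

theorem pair_x : ∀ b ∈ sgL, b ∉ [15, 31] → ∀ a ∈ pL,
    (∃ c ∈ sgL, c ∉ [15, 31] ∧ eqv (mul 15 c) a = true) →
      ∃ s ∈ sL, eqv (cj s (mul 15 b)) a = true := by decide +kernel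

theorem pair_cases : ∀ a ∈ pL, (∃ c ∈ sgL, c ∉ [15, 31] ∧ eqv (mul 15 c) a = true) ∨
    ∃ s ∈ sL, ∃ j ∈ [2, 4, 8], eqv (cj s (mul 1 j)) a = true := by decide +kernel

theorem small_facts : eqv (mul 3 12) 15 = true ∧ eqv (mul 1 2) 3 = true ∧ eqv (cj 960 3) 12 = true ∧
    960 ∈ sL ∧ 960 ∈ vL ∧ 416 ∈ vL ∧ 12 ∈ pL ∧ 3 ∈ pL ∧ 1 ∈ sgL ∧ 2 ∈ sgL ∧ 15 ∈ sgL ∧ 31 ∈ sgL := by decide +kernel

theorem aL_types : (∀ a ∈ aL, a ∈ [0, 16, 15, 31] ∨ a ∈ vL) ∧ (∀ a ∈ aL, a ∈ sL ∧ mul 16 a ∈ aL) ∧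
    (∀ f ∈ vL, ∃ v ∈ aL, v ∈ vL ∧ cm v f = true ∧ mul 15 v ∈ vL) := by decide +kernel

theorem cent_pair : ∀ f ∈ vL, ∃ p ∈ pL, cm f p = true := by decide +kernel

end Cfsg.Agent.J2Type
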