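import Mathlib
import Cfsg.Agent.Lib.J2Type.Syl
import Cfsg.Agent.Lib.J2Type.UModel
import Cfsg.Agent.Lib.Involutions.Basic

/-!
The quotient of a group by the central involution, by codes up to the code 16.
-/

set_option autoImplicit false
set_option linter.style.haveILetI false
set_option linter.unusedSectionVars false

namespace Cfsg.Agent.J2Type

open Subgroup
open Cfsg.Agent.J2Uniq (mul inv cj)

universe u

variable {Y : Type u} [Group Y]

/-- `U` is the image of the codes, with kernel generated by the code 16. -/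
structure Mod (U : Subgroup Y) (τ : ℕ → Y) : Prop where
  mem : ∀ a ∈ sL, τ a ∈ U
  mul_eq : ∀ a ∈ sL, ∀ b ∈ sL, τ (mul a b) = τ a * τ b
  eq_iff : ∀ a ∈ sL, ∀ b ∈ sL, τ a = τ b ↔ (a = b ∨ mul 16 a = b)
  surj : ∀ s ∈ U, ∃ a ∈ sL, τ a = s

/-- The image of the extraspecial subgroup. -/
def uE (τ : ℕ → Y) : Subgroup Y := sub τ qL

/-- The image of the first elementary subgroup. -/
def uA (τ : ℕ → Y) : Subgroup Y := sub τ aL

/-- The image of the centralizer of `x`. -/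
def uR (τ : ℕ → Y) : Subgroup Y := sub τ rL

/-- The three classes of involutions do not fuse, and the singular involutions fuse. -/
structure Hyp (U : Sylow 2 Y) (τ : ℕ → Y) : Prop extends Mod (U : Subgroup Y) τ where
  sing : ∀ a ∈ sgL, ∀ g : Y, ∀ b ∈ sL, g * τ a * g⁻¹ = τ b → b ∈ sgL
  pair : ∀ a ∈ pL, ∀ g : Y, ∀ b ∈ sL, g * τ a * g⁻¹ = τ b → b ∈ pL
  fus : ∃ g : Y, g * τ 1 * g⁻¹ = τ 15
  split : ∃ K : Subgroup Y, (∀ k ∈ K, k * τ 15 = τ 15 * k) ∧ (∀ r ∈ rL, τ r ∈ K) ∧ τ 1 ∉ K ∧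
    ∀ g : Y, g * τ 15 = τ 15 * g → g ∈ K ∨ τ 1 * g ∈ K

namespace Mod

variable {U : Subgroup Y} {τ : ℕ → Y} (M : Mod U τ)

include M

theorem zero : τ 0 = 1 := by
  have h := M.mul_eq 0 zero_sL 0 zero_sL
  rw [(mul_zero_sL 0 zero_sL).1] at h
  exact mul_eq_left.1 h.symm

theorem z_one : τ 16 = 1 := by
  rw [← M.zero]
  exact (M.eq_iff 16 sixteen_central.1 0 zero_sL).2 (Or.inr (by decide +kernel))

theorem inv_eq {a : ℕ} (ha : a ∈ sL) : τ (inv a) = (τ a)⁻¹ := by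
  refine eq_inv_of_mul_eq_one_right ?_
  rw [← M.mul_eq a ha _ (sL_closed a ha).2.1, (mul_zero_sL a ha).2.2, M.zero]

theorem cj_eq {g a : ℕ} (hg : g ∈ sL) (ha : a ∈ sL) : τ (cj g a) = τ g * τ a * (τ g)⁻¹ := by
  rw [cj, M.mul_eq _ ((sL_closed g hg).2.2 a ha) _ (sL_closed g hg).2.1, M.mul_eq g hg a ha, M.inv_eq hg]

theorem cj_mem {g a : ℕ} (hg : g ∈ sL) (ha : a ∈ sL) : cj g a ∈ sL :=
  (sL_closed _ ((sL_closed g hg).2.2 a ha)).2.2 _ (sL_closed g hg).2.1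

theorem eqv_eq {a b : ℕ} (ha : a ∈ sL) (hb : b ∈ sL) : τ a = τ b ↔ eqv a b = true :=
  (M.eq_iff a ha b hb).trans eqv_iff.symm

theorem comm {a b : ℕ} (ha : a ∈ sL) (hb : b ∈ sL) : τ a * τ b = τ b * τ a ↔ cm a b = true := by
  rw [← M.mul_eq a ha b hb, ← M.mul_eq b hb a ha]
  exact M.eqv_eq ((sL_closed a ha).2.2 b hb) ((sL_closed b hb).2.2 a ha)

theorem eq_one {a : ℕ} (ha : a ∈ sL) : τ a = 1 ↔ a ∈ [0, 16] := by
  rw [← M.zero, eq_comm, M.eq_iff 0 zero_sL a ha]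
  simp only [List.mem_cons, List.not_mem_nil, or_false]
  rw [show mul 16 0 = 16 by decide +kernel]
  exact ⟨fun h => h.imp Eq.symm Eq.symm, fun h => h.imp Eq.symm Eq.symm⟩

theorem sq_one {a : ℕ} (ha : a ∈ sL) : τ a * τ a = 1 ↔ mul a a ∈ [0, 16] := by
  rw [← M.mul_eq a ha a ha, M.eq_one ((sL_closed a ha).2.2 a ha)]

theorem orderOf_two {a : ℕ} (ha : a ∈ sL) (h : mul a a ∈ [0, 16]) (h0 : a ≠ 0) (h16 : a ≠ 16) :
    orderOf (τ a) = 2 :=
  orderOf_eq_prime (by rw [pow_two, M.sq_one ha]; exact h) fun e => by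
    simpa [h0, h16] using (M.eq_one ha).1 e

theorem mem_sub {L : List ℕ} (h0 : 0 ∈ L) (hs : ∀ a ∈ L, a ∈ sL) (hi : ∀ a ∈ L, inv a ∈ L)
    (hm : ∀ a ∈ L, ∀ b ∈ L, mul a b ∈ L) {x : Y} : x ∈ sub τ L ↔ ∃ a ∈ L, τ a = x := by
  refine ⟨fun hx => ?_, fun ⟨a, ha, e⟩ => e ▸ mem_sub_of_mem ha⟩
  induction hx using Subgroup.closure_induction with
  | mem y hy => exact hy
  | one => exact ⟨0, h0, M.zero⟩
  | mul y w _ _ ihy ihw =>
    obtain ⟨a, ha, rfl⟩ := ihy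
    obtain ⟨b, hb, rfl⟩ := ihw
    exact ⟨_, hm a ha b hb, M.mul_eq a (hs a ha) b (hs b hb)⟩
  | inv y _ ihy =>
    obtain ⟨a, ha, rfl⟩ := ihy
    exact ⟨_, hi a ha, M.inv_eq (hs a ha)⟩

theorem mem_E {g : Y} : g ∈ uE τ ↔ ∃ a ∈ qL, τ a = g :=
  M.mem_sub qL_lists.1 (fun a ha => (qL_closed a ha).1) (fun a ha => (qL_closed a ha).2.1)
    fun a ha b hb => ((qL_closed a ha).2.2.2 b hb).1

theorem mem_A {g : Y} : g ∈ uA τ ↔ ∃ a ∈ aL, τ a = g :=
  M.mem_sub zero_aL (fun a ha => (aL_sub a ha).2.1) (fun a ha => (aL_sub a ha).2.2.2.1.symm ▸ ha)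
    fun a ha b hb => ((aL_sub a ha).2.2.2.2 b hb).1
where
  zero_aL : (0 : ℕ) ∈ aL := by decide +kernel

theorem mem_R {g : Y} : g ∈ uR τ ↔ ∃ a ∈ rL, τ a = g :=
  M.mem_sub zero_rL (fun a ha => (rL_closed a ha).1) (fun a ha => (rL_closed a ha).2.1)
    fun a ha b hb => (rL_closed a ha).2.2 b hb
where
  zero_rL : (0 : ℕ) ∈ rL := by decide +kernel

theorem E_le : uE τ ≤ U := fun g hg => by
  obtain ⟨a, ha, rfl⟩ := M.mem_E.1 hg
  exact M.mem a (qL_closed a ha).1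

theorem R_le : uR τ ≤ U := fun g hg => by
  obtain ⟨a, ha, rfl⟩ := M.mem_R.1 hg
  exact M.mem a (rL_closed a ha).1

theorem mem_E_code {a : ℕ} (ha : a ∈ sL) : τ a ∈ uE τ ↔ a ∈ qL := by
  refine ⟨fun h => ?_, mem_sub_of_mem⟩
  obtain ⟨b, hb, e⟩ := M.mem_E.1 h
  rcases (M.eq_iff b (qL_closed b hb).1 a ha).1 e with rfl | rfl
  · exact hb
  · exact ((qL_closed 16 qL_lists.2.1).2.2.2 b hb).1

theorem mem_R_code {a : ℕ} (ha : a ∈ sL) : τ a ∈ uR τ ↔ a ∈ rL := by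
  refine ⟨fun h => ?_, mem_sub_of_mem⟩
  obtain ⟨b, hb, e⟩ := M.mem_R.1 h
  rcases (M.eq_iff b (rL_closed b hb).1 a ha).1 e with rfl | rfl
  · exact hb
  · exact (rL_facts.1 b hb).2

theorem E_sq {g : Y} (hg : g ∈ uE τ) : g * g = 1 := by
  obtain ⟨a, ha, rfl⟩ := M.mem_E.1 hg
  exact (M.sq_one (qL_closed a ha).1).2 (qL_closed a ha).2.2.1

theorem E_comm {g h : Y} (hg : g ∈ uE τ) (hh : h ∈ uE τ) : g * h = h * g := by
  obtain ⟨a, ha, rfl⟩ := M.mem_E.1 hg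
  obtain ⟨b, hb, rfl⟩ := M.mem_E.1 hh
  exact (M.comm (qL_closed a ha).1 (qL_closed b hb).1).2 ((qL_closed a ha).2.2.2 b hb).2

theorem le_normalizer_E : U ≤ normalizer (uE τ : Set Y) := fun g hg => by
  refine mem_normalizer_iff.2 fun e => ⟨fun he => ?_, fun he => ?_⟩
  · obtain ⟨s, hs, rfl⟩ := M.surj g hg
    obtain ⟨a, ha, rfl⟩ := M.mem_E.1 he
    rw [← M.cj_eq hs (qL_closed a ha).1]
    exact mem_sub_of_mem (qL_normal s hs a ha)
  · obtain ⟨s, hs, hse⟩ := M.surj g⁻¹ (inv_mem hg)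
    obtain ⟨a, ha, e'⟩ := M.mem_E.1 he
    have h := (M.cj_eq hs (qL_closed a ha).1).symm
    rw [hse, e', inv_inv, show g⁻¹ * (g * e * g⁻¹) * g = e by group] at h
    rw [h]
    exact mem_sub_of_mem (qL_normal s hs a ha)

/-- An element of `U` centralizing `uE` lies in it. -/
theorem cent_E {g : Y} (hg : g ∈ U) (h : ∀ e ∈ uE τ, g * e = e * g) : g ∈ uE τ := by
  obtain ⟨s, hs, rfl⟩ := M.surj g hg
  exact mem_sub_of_mem (qL_self s hs fun a ha => (M.comm hs (qL_closed a ha).1).1 (h _ (mem_sub_of_mem ha)))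

/-- A subgroup of codes of a centralizer is bounded by the count of classes. -/
theorem card_le {P : Subgroup Y} {L : List ℕ} (h : ∀ p ∈ P, ∃ a ∈ L, τ a = p) : Nat.card P ≤ L.length := by
  classical
  have h' : ∀ p : P, ∃ a ∈ L.toFinset, τ a = (p : Y) := fun p => by
    obtain ⟨a, ha, e⟩ := h p p.2
    exact ⟨a, List.mem_toFinset.2 ha, e⟩
  choose c hc hce using h'
  refine (Nat.card_le_card_of_injective (fun p : P => (⟨c p, hc p⟩ : L.toFinset)) fun p q e => Subtype.ext ?_).trans ?_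
  · have e1 : c p = c q := congrArg Subtype.val e
    rw [← hce p, ← hce q, e1]
  · rw [Nat.card_eq_finsetCard]
    exact List.toFinset_card_le _

theorem surj_rep {s : Y} (hs : s ∈ U) : ∃ a ∈ repL, τ a = s := by
  obtain ⟨a, ha, rfl⟩ := M.surj s hs
  rcases repL_cover a ha with h | h
  · exact ⟨a, h, rfl⟩
  · exact ⟨_, h, by rw [M.mul_eq 16 sixteen_central.1 a ha, M.z_one, one_mul]⟩

theorem card_U : Nat.card U = 64 := by
  classical
  rw [show (64 : ℕ) = repL.toFinset.card by rw [List.toFinset_card_of_nodup repL_count.1, repL_count.2.1],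
    ← Nat.card_eq_finsetCard]
  refine (Nat.card_eq_of_bijective (fun a : repL.toFinset =>
    (⟨τ a.1, M.mem _ (repL_count.2.2 _ (List.mem_toFinset.1 a.2))⟩ : U))
    ⟨fun a b e => Subtype.ext ?_, fun s => ?_⟩).symm
  · refine repL_unique _ (List.mem_toFinset.1 a.2) _ (List.mem_toFinset.1 b.2) ?_
    exact (M.eqv_eq (repL_count.2.2 _ (List.mem_toFinset.1 a.2)) (repL_count.2.2 _ (List.mem_toFinset.1 b.2))).1
      (congrArg Subtype.val e)
  · obtain ⟨a, ha, e⟩ := M.surj_rep s.2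
    exact ⟨⟨a, List.mem_toFinset.2 ha⟩, Subtype.ext e⟩

theorem x_comm {s : Y} (hs : s ∈ U) : s * τ 15 = τ 15 * s := by
  obtain ⟨a, ha, rfl⟩ := M.surj s hs
  exact ((M.comm x_sL ha).2 (x_central a ha)).symm
where
  x_sL : (15 : ℕ) ∈ sL := by decide +kernel

end Mod

namespace Hyp

variable [Finite Y] {U : Sylow 2 Y} {τ : ℕ → Y} (F : Hyp U τ)

include F

/-- The class of an involution of `U` outside `uE` stays outside. -/
theorem vtype {a : ℕ} (ha : a ∈ vL) {g : Y} {b : ℕ} (hb : b ∈ sL) (e : g * τ a * g⁻¹ = τ b) : b ∈ vL := by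
  obtain ⟨-, has, ha2, ha0, ha16⟩ := types_sub.2.2 a ha
  have ho := F.orderOf_two has ha2 ha0 ha16
  have hbo : orderOf (τ b) = 2 := by rw [← e, Involutions.Basic.orderOf_conj, ho]
  have e' : g⁻¹ * τ b * g⁻¹⁻¹ = τ a := by rw [← e]; group
  rcases type_cases b hb ((F.sq_one hb).1 (Involutions.Basic.inv_sq_one hbo)) with h | h | h | h
  · exact absurd ((F.eq_one hb).2 h) (Involutions.Basic.ne_one hbo)
  · exact absurd ha (types_disjoint.1 a (F.sing b h _ a has e')).2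
  · exact absurd ha (types_disjoint.2 a (F.pair b h _ a has e'))
  · exact h

/-- The subgroup `uE` is strongly closed in `U`. -/
theorem strong {e g : Y} (he : e ∈ uE τ) (hg : g * e * g⁻¹ ∈ (U : Subgroup Y)) : g * e * g⁻¹ ∈ uE τ := by
  obtain ⟨a, ha, rfl⟩ := F.mem_E.1 he
  obtain ⟨b, hb, hbe⟩ := F.surj _ hg
  rw [← hbe, F.mem_E_code hb]
  rcases qL_cases a ha with h | h | h
  · have : τ b = 1 := by rw [hbe, (F.eq_one (qL_closed a ha).1).2 h, mul_one, mul_inv_cancel]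
    rcases List.mem_pair.1 ((F.eq_one hb).1 this) with rfl | rfl
    · exact qL_lists.1
    · exact qL_lists.2.1
  · exact (types_sub.1 b (F.sing a h g b hb hbe.symm)).1
  · exact (types_sub.2.1 b (F.pair a h g b hb hbe.symm)).1

theorem exists_conj_le {P : Subgroup Y} (hP : IsPGroup 2 P) :
    ∃ k : Y, P.map (MulAut.conj k).toMonoidHom ≤ (U : Subgroup Y) := by
  haveI : Fact (Nat.Prime 2) := ⟨Nat.prime_two⟩
  obtain ⟨T, hT⟩ := hP.exists_le_sylow
  obtain ⟨k, hk⟩ := MulAction.exists_smul_eq Y T U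
  refine ⟨k, ?_⟩
  rw [← hk, Sylow.coe_subgroup_smul]
  exact Subgroup.map_mono hT

theorem mem_normalizer_of_le {g : Y} (h : ∀ e ∈ uE τ, g * e * g⁻¹ ∈ (U : Subgroup Y)) :
    g ∈ normalizer (uE τ : Set Y) := by
  have heq : (uE τ).map (MulAut.conj g).toMonoidHom = uE τ :=
    eq_of_le_of_card_ge (by rintro _ ⟨e, he, rfl⟩; exact F.strong he (h e he))
      (by rw [card_map_of_injective (MulAut.conj g).injective])
  refine mem_normalizer_iff.2 fun e => ⟨fun he => F.strong he (h e he), fun he => ?_⟩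
  rw [← heq] at he
  obtain ⟨e', he', e1⟩ := he
  exact (MulAut.conj g).injective e1 ▸ he'

/-- A conjugate of `uE` in a 2-subgroup containing `uE` equals it. -/
theorem E_unique {P : Subgroup Y} (hP : IsPGroup 2 P) (hEP : uE τ ≤ P) {g : Y}
    (hg : ∀ e ∈ uE τ, g * e * g⁻¹ ∈ P) : g ∈ normalizer (uE τ : Set Y) := by
  obtain ⟨k, hk⟩ := F.exists_conj_le hP
  have h1 : k ∈ normalizer (uE τ : Set Y) := F.mem_normalizer_of_le fun e he => hk ⟨e, hEP he, rfl⟩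
  have h2 : k * g ∈ normalizer (uE τ : Set Y) := F.mem_normalizer_of_le fun e he => by
    rw [show k * g * e * (k * g)⁻¹ = k * (g * e * g⁻¹) * k⁻¹ by group]
    exact hk ⟨_, hg e he, rfl⟩
  simpa using mul_mem (inv_mem h1) h2

/-- A 2-element centralizing `uE` lies in it. -/
theorem cent_two {P : Subgroup Y} (hP : IsPGroup 2 P) (hEP : uE τ ≤ P) {p : Y} (hp : p ∈ P)
    (hc : ∀ e ∈ uE τ, p * e = e * p) : p ∈ uE τ := by
  obtain ⟨k, hk⟩ := F.exists_conj_le hP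
  have h1 : k ∈ normalizer (uE τ : Set Y) := F.mem_normalizer_of_le fun e he => hk ⟨e, hEP he, rfl⟩
  refine (mem_normalizer_iff.1 h1 p).2 (F.cent_E (hk ⟨p, hp, rfl⟩) fun e he => ?_)
  have he' : k⁻¹ * e * k ∈ uE τ := (mem_normalizer_iff.1 h1 _).2 (by
    rw [show k * (k⁻¹ * e * k) * k⁻¹ = e by group]; exact he)
  show k * p * k⁻¹ * e = e * (k * p * k⁻¹)
  calc k * p * k⁻¹ * e = k * (p * (k⁻¹ * e * k)) * k⁻¹ := by group
    _ = k * (k⁻¹ * e * k * p) * k⁻¹ := by rw [hc _ he']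
    _ = e * (k * p * k⁻¹) := by group

/-- Elements of `uE` conjugate in a subgroup containing `uE` are conjugate in its part of the normalizer. -/
theorem fusion_E {K : Subgroup Y} (hEK : uE τ ≤ K) {e f g : Y} (he : e ∈ uE τ) (hf : f ∈ uE τ) (hg : g ∈ K)
    (hef : g * e * g⁻¹ = f) : ∃ n ∈ K, n ∈ normalizer (uE τ : Set Y) ∧ n * e * n⁻¹ = f := by
  classical
  haveI : Fact (Nat.Prime 2) := ⟨Nat.prime_two⟩
  set T := K ⊓ centralizer ({f} : Set Y)
  have hET : uE τ ≤ T := le_inf hEK fun d hd => mem_centralizer_singleton_iff.2 (F.E_comm hd hf)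
  have hgT : (uE τ).map (MulAut.conj g).toMonoidHom ≤ T := by
    rintro _ ⟨d, hd, rfl⟩
    refine ⟨K.mul_mem (K.mul_mem hg (hEK hd)) (K.inv_mem hg), mem_centralizer_singleton_iff.2 ?_⟩
    show g * d * g⁻¹ * f = f * (g * d * g⁻¹)
    rw [← hef, show g * d * g⁻¹ * (g * e * g⁻¹) = g * (d * e) * g⁻¹ by group, F.E_comm hd he]
    group
  have hEp : IsPGroup 2 (uE τ) := U.isPGroup'.to_le F.E_le
  obtain ⟨P, hP⟩ := (hEp.comap_subtype : IsPGroup 2 ((uE τ).subgroupOf T)).exists_le_sylow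
  obtain ⟨Q, hQ⟩ := ((hEp.map _).comap_subtype :
    IsPGroup 2 (((uE τ).map (MulAut.conj g).toMonoidHom).subgroupOf T)).exists_le_sylow
  obtain ⟨k, hk⟩ := MulAction.exists_smul_eq T Q P
  refine ⟨(k : Y) * g, mul_mem k.2.1 hg, F.E_unique (P.isPGroup'.map T.subtype)
    (fun d hd => ⟨⟨d, hET hd⟩, hP hd, rfl⟩) fun d hd => ?_, ?_⟩
  · refine ⟨k * ⟨g * d * g⁻¹, hgT ⟨d, hd, rfl⟩⟩ * k⁻¹, ?_, ?_⟩
    · rw [← hk, Sylow.coe_subgroup_smul]
      exact ⟨_, hQ (mem_subgroupOf.2 ⟨d, hd, rfl⟩), rfl⟩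
    · show (k : Y) * (g * d * g⁻¹) * (k : Y)⁻¹ = _
      group
  · rw [show (k : Y) * g * e * ((k : Y) * g)⁻¹ = k * (g * e * g⁻¹) * (k : Y)⁻¹ by group, hef,
      mem_centralizer_singleton_iff.1 k.2.2, mul_inv_cancel_right]

end Hyp

end Cfsg.Agent.J2Type
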