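import Mathlib
import Cfsg.Agent.Lib.J2Type.USetting
import Cfsg.Agent.Lib.J2Type.ElemSylow

/-!
The centralizer of the central singular involution modulo its core normalizes the Sylow subgroup.
-/

set_option autoImplicit false
set_option linter.style.haveILetI false
set_option linter.unusedSectionVars false

namespace Cfsg.Agent.J2Type

open Subgroup
open Cfsg.Agent.J2Uniq (mul inv cj)

universe u

variable {Y : Type u} [Group Y]

theorem x_facts : (15 : ℕ) ∈ sL ∧ mul 15 15 ∈ [0, 16] ∧ (1 : ℕ) ∈ sL ∧ (∀ a ∈ rL, cj 1 a ∈ rL) ∧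
    (∀ a ∈ rL, mul (cj 1 a) (inv a) ∈ qL) ∧ 3 ∉ [0, 16, 15, 31] ∧ 416 ∉ [0, 16, 15, 31] ∧
    16 ∈ rL ∧ mul 15 416 ∈ vL ∧ mul 16 15 ∈ [31] := by decide +kernel

theorem e8L_cj : ∀ r ∈ e8L, ∀ f ∈ e8L, mul r f ∈ [0, 16, 15, 31] → f ∈ [0, 16, 15, 31] ∨ r ∉ [0, 16, 15, 31] := by
  decide +kernel

namespace Hyp

variable [Finite Y] {U : Sylow 2 Y} {τ : ℕ → Y} (F : Hyp U τ)

include F

theorem order_x : orderOf (τ 15) = 2 := F.orderOf_two x_facts.1 x_facts.2.1 (by norm_num) (by norm_num)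

/-- The codes of the identity and of `x`. -/
theorem mem_zpowers_x {a : ℕ} (ha : a ∈ [0, 16, 15, 31]) : τ a ∈ zpowers (τ 15) := by
  have h31 : τ 31 = τ 15 := by
    rw [← List.mem_singleton.1 x_facts.2.2.2.2.2.2.2.2.2, F.mul_eq 16 sixteen_central.1 15 x_facts.1, F.z_one, one_mul]
  fin_cases ha
  · rw [F.zero]; exact one_mem _
  · rw [F.z_one]; exact one_mem _
  · exact mem_zpowers _
  · rw [h31]; exact mem_zpowers _

theorem zpowers_x_le_R : zpowers (τ 15) ≤ uR τ := zpowers_le.2 (mem_sub_of_mem rL_facts.2.2.2.1)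

theorem zpowers_x_fix {g e : Y} (hg : g * τ 15 = τ 15 * g) (he : e ∈ zpowers (τ 15)) :
    g * e * g⁻¹ = e ∧ e * e = 1 := by
  obtain ⟨k, rfl⟩ := he
  refine ⟨?_, ?_⟩
  · rw [(Commute.zpow_right hg k).eq, mul_inv_cancel_right]
  · show τ 15 ^ k * τ 15 ^ k = 1
    rw [← (Commute.refl (τ 15)).mul_zpow, Involutions.Basic.inv_sq_one F.order_x, one_zpow]

theorem R_comm_x {r : Y} (hr : r ∈ uR τ) : r * τ 15 = τ 15 * r := F.x_comm (F.R_le hr)

theorem U_normalizes_R : τ 1 ∈ normalizer (uR τ : Set Y) := by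
  have heq : (uR τ).map (MulAut.conj (τ 1)).toMonoidHom = uR τ := by
    refine eq_of_le_of_card_ge ?_ (by rw [card_map_of_injective (MulAut.conj (τ 1)).injective])
    rintro _ ⟨r, hr, rfl⟩
    obtain ⟨a, ha, rfl⟩ := F.mem_R.1 hr
    show τ 1 * τ a * (τ 1)⁻¹ ∈ uR τ
    rw [← F.cj_eq x_facts.2.2.1 (rL_closed a ha).1]
    exact mem_sub_of_mem (x_facts.2.2.2.1 a ha)
  refine mem_normalizer_iff.2 fun r => ⟨fun hr => heq.le ⟨r, hr, rfl⟩, fun hr => ?_⟩
  rw [← heq] at hr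
  obtain ⟨r', hr', e⟩ := hr
  exact (MulAut.conj (τ 1)).injective e ▸ hr'

/-- A normalizer of `R` preserves its intersection with `E`. -/
theorem e8_conj {n e : Y} (hn : n ∈ normalizer (uR τ : Set Y)) (he : e ∈ uE τ ⊓ uR τ) :
    n * e * n⁻¹ ∈ uE τ ⊓ uR τ := by
  have hR := (mem_normalizer_iff.1 hn e).1 he.2
  exact ⟨F.strong he.1 (F.R_le hR), hR⟩

theorem e8_code {e : Y} (he : e ∈ uE τ ⊓ uR τ) : ∃ a ∈ e8L, τ a = e := by
  obtain ⟨a, ha, rfl⟩ := F.mem_E.1 he.1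
  exact ⟨a, e8L_iff a ha ((F.mem_R_code (qL_closed a ha).1).1 he.2), rfl⟩

theorem code_e8 {a : ℕ} (ha : a ∈ e8L) : τ a ∈ uE τ ⊓ uR τ :=
  ⟨mem_sub_of_mem (e8L_closed a ha).1, mem_sub_of_mem (e8L_closed a ha).2.1⟩

/-- An element of odd order normalizing `R` and centralizing its intersection with `E` centralizes `R`. -/
theorem fix_R_of_e8 {n : Y} (hn : n ∈ normalizer (uR τ : Set Y)) (ho : Odd (orderOf n))
    (h8 : ∀ e ∈ uE τ ⊓ uR τ, n * e = e * n) {r : Y} (hr : r ∈ uR τ) : n * r = r * n := by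
  have hr' : n * r * n⁻¹ ∈ uR τ := (mem_normalizer_iff.1 hn r).1 hr
  obtain ⟨b, hb, hbe⟩ := F.mem_R.1 (mul_mem (inv_mem hr) hr')
  have hs : b ∈ e8L := e8L_self b hb fun a ha => by
    refine (F.comm (rL_closed b hb).1 (qL_closed a (e8L_closed a ha).1).1).1 ?_
    have he := F.code_e8 ha
    have hre : r * τ a * r⁻¹ ∈ uE τ ⊓ uR τ := F.e8_conj (Subgroup.le_normalizer hr) he
    rw [hbe]
    calc r⁻¹ * (n * r * n⁻¹) * τ a = r⁻¹ * (n * r * (n⁻¹ * τ a)) := by group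
      _ = r⁻¹ * (n * r * (τ a * n⁻¹)) := by
        rw [show n⁻¹ * τ a = τ a * n⁻¹ by
          rw [inv_mul_eq_iff_eq_mul, ← mul_assoc, h8 _ he, mul_inv_cancel_right]]
      _ = r⁻¹ * (n * (r * τ a * r⁻¹)) * (r * n⁻¹) := by group
      _ = r⁻¹ * (r * τ a * r⁻¹ * n) * (r * n⁻¹) := by rw [h8 _ hre]
      _ = τ a * (r⁻¹ * (n * r * n⁻¹)) := by group
  refine Loc.fix_of_step ho (s := τ b) (by rw [hbe]; group) ?_ (F.E_sq (F.code_e8 hs).1)
  rw [h8 _ (F.code_e8 hs), mul_inv_cancel_right]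

/-- An element of odd order fixing `x` and trivial on `R` modulo `E` centralizes `R`. -/
theorem fix_R_of_quot {n : Y} (hn : n ∈ normalizer (uR τ : Set Y)) (ho : Odd (orderOf n))
    (hx : n * τ 15 = τ 15 * n) (hq : ∀ r ∈ uR τ, n * r * n⁻¹ * r⁻¹ ∈ uE τ ⊓ uR τ) :
    ∀ r ∈ uR τ, n * r = r * n := by
  refine fun r hr => F.fix_R_of_e8 hn ho (fun e he => ?_) hr
  have hs := mul_mem (inv_mem he) (F.e8_conj hn he)
  obtain ⟨b, hb, hbe⟩ := F.e8_code hs
  have hbz : b ∈ [0, 16, 15, 31] := by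
    refine rL_center_U b (e8L_closed b hb).2.1 fun a ha => ?_
    refine (F.comm (qL_closed b (e8L_closed b hb).1).1 (rL_closed a ha).1).1 ?_
    have hra : τ a ∈ uR τ := mem_sub_of_mem ha
    obtain ⟨p, hp, hpe⟩ := F.mem_R.1 (mul_mem (mul_mem hra he.2) (mul_mem (inv_mem hra) (inv_mem he.2)))
    -- the commutator lies in the center
    obtain ⟨c, hc, hce⟩ := F.e8_code he
    have hcom : τ a * e * ((τ a)⁻¹ * e⁻¹) ∈ zpowers (τ 15) := by
      rw [← hce, ← mul_inv_rev, ← F.mul_eq a (rL_closed a ha).1 c (qL_closed c (e8L_closed c hc).1).1,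
        ← F.mul_eq c (qL_closed c (e8L_closed c hc).1).1 a (rL_closed a ha).1,
        ← F.inv_eq ((sL_closed c (qL_closed c (e8L_closed c hc).1).1).2.2 a (rL_closed a ha).1),
        ← F.mul_eq _ ((sL_closed a (rL_closed a ha).1).2.2 c (qL_closed c (e8L_closed c hc).1).1) _
          (sL_closed _ ((sL_closed c (qL_closed c (e8L_closed c hc).1).1).2.2 a (rL_closed a ha).1)).2.1]
      exact F.mem_zpowers_x (rL_comm_x a ha c (e8L_closed c hc).2.1)
    have hf := (F.zpowers_x_fix hx hcom).1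
    have hu : n * τ a * n⁻¹ * (τ a)⁻¹ ∈ uE τ ⊓ uR τ := hq _ hra
    set f := n * τ a * n⁻¹ * (τ a)⁻¹
    have h1 : n * τ a * n⁻¹ = f * τ a := by simp only [f]; group
    have h2 : n * e * n⁻¹ = e * τ b := by rw [hbe]; group
    have h3 : n * (τ a * e * ((τ a)⁻¹ * e⁻¹)) * n⁻¹ =
        n * τ a * n⁻¹ * (n * e * n⁻¹) * ((n * τ a * n⁻¹)⁻¹ * (n * e * n⁻¹)⁻¹) := by group
    rw [hf, h1, h2] at h3
    have hfc : ∀ d ∈ uE τ, f * d = d * f := fun d hd => F.E_comm hu.1 hd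
    have hac : ∀ d ∈ uE τ, τ a * d * (τ a)⁻¹ ∈ uE τ := fun d hd =>
      (mem_normalizer_iff.1 (F.le_normalizer_E (F.R_le hra)) d).1 hd
    have h4 : f * τ a * (e * τ b) * ((f * τ a)⁻¹ * (e * τ b)⁻¹) =
        τ a * e * (τ a)⁻¹ * (τ a * τ b * (τ a)⁻¹) * (τ b)⁻¹ * e⁻¹ := by
      have h5 : f * (τ a * (e * τ b) * (τ a)⁻¹) * f⁻¹ = τ a * (e * τ b) * (τ a)⁻¹ := by
        rw [hfc _ (hac _ (mul_mem he.1 (F.code_e8 hb).1)), mul_inv_cancel_right]
      calc f * τ a * (e * τ b) * ((f * τ a)⁻¹ * (e * τ b)⁻¹)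
          = f * (τ a * (e * τ b) * (τ a)⁻¹) * f⁻¹ * (e * τ b)⁻¹ := by group
        _ = τ a * (e * τ b) * (τ a)⁻¹ * (e * τ b)⁻¹ := by rw [h5]
        _ = _ := by group
    rw [h4] at h3
    have h6 : τ a * τ b * (τ a)⁻¹ * (τ b)⁻¹ = 1 := by
      have h7 := congrArg (fun t => (τ a * e * (τ a)⁻¹)⁻¹ * t * e) h3
      rw [show (τ a * e * (τ a)⁻¹)⁻¹ * (τ a * e * ((τ a)⁻¹ * e⁻¹)) * e = 1 by group,
        show (τ a * e * (τ a)⁻¹)⁻¹ * (τ a * e * (τ a)⁻¹ * (τ a * τ b * (τ a)⁻¹) * (τ b)⁻¹ * e⁻¹) * e =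
          τ a * τ b * (τ a)⁻¹ * (τ b)⁻¹ by group] at h7
      exact h7.symm
    have h8 := mul_inv_eq_one.1 h6
    exact (mul_inv_eq_iff_eq_mul.1 h8).symm
  refine Loc.fix_of_step ho (s := τ b) (by rw [hbe]; group) ?_ (F.E_sq (F.code_e8 hb).1)
  exact (F.zpowers_x_fix hx (F.mem_zpowers_x hbz)).1

/-- An element of odd order fixing `x` and a further element of `R` centralizes `R`. -/
theorem fix_R_of_fix {n : Y} (hn : n ∈ normalizer (uR τ : Set Y)) (ho : Odd (orderOf n))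
    (hx : n * τ 15 = τ 15 * n) {a : ℕ} (ha : a ∈ rL) (haz : a ∉ [0, 16, 15, 31])
    (hfix : n * τ a = τ a * n) {r : Y} (hr : r ∈ uR τ) : n * r = r * n := by
  refine F.fix_R_of_e8 hn ho (fun e he => ?_) hr
  have hzc : ∀ b ∈ [0, 16, 15, 31], n * τ b * n⁻¹ = τ b ∧ τ b * τ b = 1 := fun b hb =>
    F.zpowers_x_fix hx (F.mem_zpowers_x hb)
  have hconj : ∀ c ∈ e8L, ∃ d ∈ e8L, τ d = n * τ c * n⁻¹ := fun c hc => F.e8_code (F.e8_conj hn (F.code_e8 hc))
  have hes : ∀ c ∈ e8L, c ∈ sL := fun c hc => (qL_closed c (e8L_closed c hc).1).1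
  have hzs : ∀ c ∈ [0, 16, 15, 31], c ∈ sL := by decide +kernel
  have hmulz : ∀ c ∈ e8L, ∀ d ∈ e8L, mul c d ∈ [0, 16, 15, 31] → ∃ s, τ d = τ c * s ∧ n * s * n⁻¹ = s ∧ s * s = 1 :=
    fun c hc d hd h => ⟨τ (mul c d), by
      rw [F.mul_eq c (hes c hc) d (hes d hd), ← mul_assoc, F.E_sq (F.code_e8 hc).1, one_mul], hzc _ h⟩
  have fix_z : ∀ c ∈ [0, 16, 15, 31], n * τ c = τ c * n := fun c hc => mul_inv_eq_iff_eq_mul.1 (hzc c hc).1
  obtain ⟨c, hc, rfl⟩ := F.e8_code he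
  by_cases hcz : c ∈ [0, 16, 15, 31]
  · exact fix_z c hcz
  by_cases ha8 : a ∈ e8L
  · -- the span of `x` and `a` is fixed
    have hfspan : ∀ d ∈ e8L, mul a d ∈ [0, 16, 15, 31] → n * τ d = τ d * n := by
      intro d hd h
      obtain ⟨s, hs, hs1, -⟩ := hmulz a ha8 d hd h
      rw [hs, ← mul_assoc, hfix, mul_assoc, mul_inv_eq_iff_eq_mul.1 hs1, mul_assoc]
    by_cases hac : mul a c ∈ [0, 16, 15, 31]
    · exact hfspan c hc hac
    obtain ⟨d, hd, hde⟩ := hconj c hc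
    have hdz : d ∉ [0, 16, 15, 31] := fun h => hcz (by
      have h2 : n * τ c * n⁻¹ = τ c := (MulAut.conj n).injective
        (show n * (n * τ c * n⁻¹) * n⁻¹ = n * τ c * n⁻¹ by rw [← hde]; exact (hzc d h).1)
      rcases F.eq_iff d (hes d hd) c (hes c hc) |>.1 (hde.trans h2) with e1 | e1
      · exact e1 ▸ h
      · exact e1 ▸ zL_mul16 d h)
    have had : mul a d ∉ [0, 16, 15, 31] := fun h => by
      have h1 := hfspan d hd h
      rw [hde] at h1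
      have h2 : n * τ c * n⁻¹ = τ c := by
        have h3 : n * (n * τ c * n⁻¹) * n⁻¹ = n * τ c * n⁻¹ := mul_inv_eq_iff_eq_mul.2 h1
        exact (MulAut.conj n).injective h3
      rcases F.eq_iff d (hes d hd) c (hes c hc) |>.1 (hde.trans h2) with e1 | e1
      · exact hac (e1 ▸ h)
      · exact hac (e1 ▸ mul_a16 a ha8 d hd h)
    rcases e8L_span a ha8 haz c hc hcz hac d hd hdz had with h | h
    · obtain ⟨s, hs, hs1, hs2⟩ := hmulz c hc d hd h
      exact Loc.fix_of_step ho (by rw [← hde, hs]) hs1 hs2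
    · obtain ⟨s, hs, hs1, -⟩ := hmulz a ha8 (mul c d) ((e8L_closed c hc).2.2.2 d hd) h
      refine Loc.fix_of_step ho (s := τ (mul c d)) (by
        rw [← hde, F.mul_eq c (hes c hc) d (hes d hd), ← mul_assoc, F.E_sq (F.code_e8 hc).1, one_mul])
        (mul_inv_eq_iff_eq_mul.2 (hfspan _ ((e8L_closed c hc).2.2.2 d hd) h))
        (F.E_sq (F.code_e8 ((e8L_closed c hc).2.2.2 d hd)).1)
  · -- first the elements commuting with `a`
    have hcomm : ∀ f ∈ e8L, cm f a = true → n * τ f = τ f * n := by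
      intro f hf hfa
      by_cases hfz : f ∈ [0, 16, 15, 31]
      · exact fix_z f hfz
      obtain ⟨g, hg, hge⟩ := hconj f hf
      have hga : cm g a = true := by
        refine (F.comm (hes g hg) (rL_closed a ha).1).1 ?_
        have h1 := (F.comm (hes f hf) (rL_closed a ha).1).2 hfa
        rw [hge]
        calc n * τ f * n⁻¹ * τ a = n * τ f * n⁻¹ * (n * τ a * n⁻¹) := by
              rw [mul_inv_eq_iff_eq_mul.2 hfix]
          _ = n * (τ f * τ a) * n⁻¹ := by group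
          _ = n * τ a * n⁻¹ * (n * τ f * n⁻¹) := by rw [h1]; group
          _ = _ := by rw [mul_inv_eq_iff_eq_mul.2 hfix]
      have hgz : g ∉ [0, 16, 15, 31] := fun h => hfz (by
        have h2 : n * τ f * n⁻¹ = τ f := by
          have h3 : n * (n * τ f * n⁻¹) * n⁻¹ = n * τ f * n⁻¹ := by rw [← hge]; exact (hzc g h).1
          exact (MulAut.conj n).injective h3
        rcases F.eq_iff g (hes g hg) f (hes f hf) |>.1 (hge.trans h2) with e1 | e1
        · exact e1 ▸ h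
        · exact e1 ▸ zL_mul16 g h)
      obtain ⟨s, hs, hs1, hs2⟩ := hmulz f hf g hg (e8L_fix a ha ha8 f hf hfa hfz g hg hga hgz)
      exact Loc.fix_of_step ho (by rw [← hge, hs]) hs1 hs2
    obtain ⟨d, hd, hde⟩ := hconj c hc
    have hs8 : mul c d ∈ e8L := (e8L_closed c hc).2.2.2 d hd
    refine Loc.fix_of_step ho (s := τ (mul c d)) (by
      rw [← hde, F.mul_eq c (hes c hc) d (hes d hd), ← mul_assoc, F.E_sq (F.code_e8 hc).1, one_mul])
      (mul_inv_eq_iff_eq_mul.2 (hcomm _ hs8 ?_)) (F.E_sq (F.code_e8 hs8).1)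
    -- the commutator with `a` is fixed
    obtain ⟨κ, hκ, hκe⟩ : ∃ κ ∈ zpowers (τ 15), τ a * τ c = κ * (τ c * τ a) := by
      refine ⟨_, F.mem_zpowers_x (rL_comm_x a ha c (e8L_closed c hc).2.1), ?_⟩
      have hs := (rL_closed a ha).1
      rw [F.mul_eq _ ((sL_closed a hs).2.2 c (hes c hc)) _ (sL_closed _ ((sL_closed c (hes c hc)).2.2 a hs)).2.1,
        F.inv_eq ((sL_closed c (hes c hc)).2.2 a hs), F.mul_eq a hs c (hes c hc), F.mul_eq c (hes c hc) a hs,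
        inv_mul_cancel_right]
    have hκd : τ a * τ d = κ * (τ d * τ a) := by
      rw [hde]
      calc τ a * (n * τ c * n⁻¹) = n * τ a * n⁻¹ * (n * τ c * n⁻¹) := by rw [mul_inv_eq_iff_eq_mul.2 hfix]
        _ = n * (τ a * τ c) * n⁻¹ := by group
        _ = n * (κ * (τ c * τ a)) * n⁻¹ := by rw [hκe]
        _ = n * κ * n⁻¹ * ((n * τ c * n⁻¹) * (n * τ a * n⁻¹)) := by group
        _ = _ := by rw [(F.zpowers_x_fix hx hκ).1, mul_inv_eq_iff_eq_mul.2 hfix]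
    refine (F.comm (hes _ hs8) (rL_closed a ha).1).1 (Eq.symm ?_)
    rw [F.mul_eq c (hes c hc) d (hes d hd), ← mul_assoc, hκe]
    have hcomκ : ∀ z : Y, z ∈ uR τ → κ * z = z * κ := fun z hz => by
      obtain ⟨k, rfl⟩ := hκ
      exact (Commute.zpow_left (F.R_comm_x hz).symm k).eq
    calc κ * (τ c * τ a) * τ d = κ * (τ c * (τ a * τ d)) := by group
      _ = κ * (τ c * (κ * (τ d * τ a))) := by rw [hκd]
      _ = κ * κ * (τ c * (τ d * τ a)) := by
        rw [← mul_assoc (τ c), ← hcomκ _ (F.code_e8 hc).2]; group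
      _ = τ c * τ d * τ a := by rw [(F.zpowers_x_fix hx hκ).2, one_mul, mul_assoc]
where
  zL_mul16 : ∀ c ∈ [0, 16, 15, 31], mul 16 c ∈ [0, 16, 15, 31] := by decide +kernel
  mul_a16 : ∀ a ∈ e8L, ∀ d ∈ e8L, mul a d ∈ [0, 16, 15, 31] → mul a (mul 16 d) ∈ [0, 16, 15, 31] := by decide +kernel

end Hyp

end Cfsg.Agent.J2Type
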