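import Mathlib
import Cfsg.Agent.Lib.J2Type.CentX

/-!
The centralizer of the central singular involution is the core times the normalizer of the Sylow subgroup.
-/

set_option autoImplicit false
set_option linter.style.haveILetI false
set_option linter.unusedSectionVars false

namespace Cfsg.Agent.J2Type

open Subgroup
open Cfsg.Agent.J2Uniq (mul inv cj)

universe u

variable {Y : Type u} [Group Y]

theorem rL_rep : (rL.filter fun a => Nat.blt (a % 32) 16).Nodup ∧ (rL.filter fun a => Nat.blt (a % 32) 16).length = 32 ∧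
    (∀ a ∈ rL, a ∈ rL.filter (fun a => Nat.blt (a % 32) 16) ∨ mul 16 a ∈ rL.filter fun a => Nat.blt (a % 32) 16) ∧
    (∀ a ∈ rL.filter (fun a => Nat.blt (a % 32) 16), a ∈ rL ∧ a ∈ repL) := by decide +kernel

theorem one_rL : 1 ∉ rL ∧ mul 1 1 ∈ [0, 16] ∧ (∀ a ∈ sL, mul 1 (mul 1 a) = a ∨ mul 16 (mul 1 (mul 1 a)) = a) ∧
    (∀ a ∈ rL, mul (cj 1 a) (inv a) ∈ rL) ∧ 3 ∈ rL ∧ 416 ∉ qL ∧ 15 ∈ qL := by decide +kernel

namespace Hyp

variable [Finite Y] {U : Sylow 2 Y} {τ : ℕ → Y} (F : Hyp U τ)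

include F

theorem card_R : Nat.card (uR τ) = 32 := by
  classical
  obtain ⟨hnd, hlen, hcov, hsub⟩ := rL_rep
  set L := rL.filter fun a => Nat.blt (a % 32) 16
  rw [← hlen, ← List.toFinset_card_of_nodup hnd, ← Nat.card_eq_finsetCard]
  refine (Nat.card_eq_of_bijective (fun a : L.toFinset =>
    (⟨τ a.1, mem_sub_of_mem (hsub _ (List.mem_toFinset.1 a.2)).1⟩ : uR τ))
    ⟨fun a b e => Subtype.ext ?_, fun s => ?_⟩).symm
  · have ha := (hsub _ (List.mem_toFinset.1 a.2)).2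
    have hb := (hsub _ (List.mem_toFinset.1 b.2)).2
    exact repL_unique _ ha _ hb ((F.eqv_eq (repL_count.2.2 _ ha) (repL_count.2.2 _ hb)).1 (congrArg Subtype.val e))
  · obtain ⟨a, ha, e⟩ := F.mem_R.1 s.2
    rcases hcov a ha with h | h
    · exact ⟨⟨a, List.mem_toFinset.2 h⟩, Subtype.ext e⟩
    · refine ⟨⟨mul 16 a, List.mem_toFinset.2 h⟩, Subtype.ext ?_⟩
      show τ (mul 16 a) = s
      rw [F.mul_eq 16 sixteen_central.1 a (rL_closed a ha).1, F.z_one, one_mul, e]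

theorem y_sq : τ 1 * τ 1 = 1 := (F.sq_one x_facts.2.2.1).2 one_rL.2.1

theorem y_comm_x : τ 1 * τ 15 = τ 15 * τ 1 := F.x_comm (F.mem 1 x_facts.2.2.1)

/-- The subgroup of index two of the centralizer of `x`. -/
theorem exists_K : ∃ K : Subgroup Y, K ≤ centralizer ({τ 15} : Set Y) ∧ uR τ ≤ K ∧ τ 1 ∉ K ∧
    (∀ g, g * τ 15 = τ 15 * g → g ∈ K ∨ τ 1 * g ∈ K) ∧
    (∀ g, g * τ 15 = τ 15 * g → ∀ k ∈ K, g * k * g⁻¹ ∈ K) ∧
    ∀ P : Subgroup Y, IsPGroup 2 P → P ≤ K → Nat.card P ≤ 32 := by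
  classical
  haveI : Fact (Nat.Prime 2) := ⟨Nat.prime_two⟩
  obtain ⟨K, hKc, hKR, hKy, hKs⟩ := F.split
  have hR : uR τ ≤ K := fun r hr => by
    obtain ⟨a, ha, rfl⟩ := F.mem_R.1 hr
    exact hKR a ha
  have hc : K ≤ centralizer ({τ 15} : Set Y) := fun k hk => mem_centralizer_singleton_iff.2 (hKc k hk)
  have hyi : (τ 1)⁻¹ = τ 1 := inv_eq_of_mul_eq_one_right F.y_sq
  have hy : ∀ k ∈ K, τ 1 * k * (τ 1)⁻¹ ∈ K := by
    intro k hk
    rcases hKs (τ 1 * k * (τ 1)⁻¹) (mem_centralizer_singleton_iff.1 (mul_mem (mul_mem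
      (mem_centralizer_singleton_iff.2 F.y_comm_x : τ 1 ∈ centralizer ({τ 15} : Set Y)) (hc hk))
      (inv_mem (mem_centralizer_singleton_iff.2 F.y_comm_x)))) with h | h
    · exact h
    · rw [← mul_assoc, ← mul_assoc, F.y_sq, one_mul, hyi] at h
      exact absurd (by simpa using K.mul_mem (K.inv_mem hk) h) hKy
  have hn : ∀ g, g * τ 15 = τ 15 * g → ∀ k ∈ K, g * k * g⁻¹ ∈ K := by
    intro g hg k hk
    rcases hKs g hg with h | h
    · exact K.mul_mem (K.mul_mem h hk) (K.inv_mem h)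
    · have := hy _ (K.mul_mem (K.mul_mem h hk) (K.inv_mem h))
      rwa [show τ 1 * (τ 1 * g * k * (τ 1 * g)⁻¹) * (τ 1)⁻¹ = τ 1 * τ 1 * g * k * g⁻¹ * (τ 1 * τ 1)⁻¹ by group,
        F.y_sq, one_mul, inv_one, mul_one] at this
  refine ⟨K, hc, hR, hKy, hKs, hn, fun P hP hPK => ?_⟩
  obtain ⟨c, hc', hPU⟩ := Transfer.Fusion.exists_conj_le_of_isPGroup U
    (fun s hs => mem_centralizer_singleton_iff.2 (F.x_comm hs)) hP (hPK.trans hc)
  have hd := card_dvd_of_le hPU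
  rw [card_map_of_injective (MulAut.conj c).injective, F.card_U, show (64 : ℕ) = 2 ^ 6 by norm_num] at hd
  obtain ⟨j, hj, e⟩ := (Nat.dvd_prime_pow Nat.prime_two).1 hd
  rcases Nat.lt_or_ge j 6 with h6 | h6
  · rw [e]
    exact le_trans (Nat.pow_le_pow_right (by norm_num) (Nat.lt_succ_iff.1 h6)) (by norm_num)
  · exfalso
    have heq : P.map (MulAut.conj c).toMonoidHom = (U : Subgroup Y) :=
      eq_of_le_of_card_ge hPU (by
        rw [card_map_of_injective (MulAut.conj c).injective, e, F.card_U, show j = 6 by omega]; norm_num)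
    obtain ⟨p, hp, e'⟩ : τ 1 ∈ P.map (MulAut.conj c).toMonoidHom := heq ▸ F.mem 1 x_facts.2.2.1
    exact hKy (e' ▸ hn c (mem_centralizer_singleton_iff.1 hc') p (hPK hp))

/-- Modulo the core, `R` is normal in the centralizer of `x`. -/
theorem R_sup_normal {g : Y} (hg : g * τ 15 = τ 15 * g) {r : Y} (hr : r ∈ uR τ) :
    g * r * g⁻¹ ∈ uR τ ⊔ Loc.core (τ 15) := by
  classical
  haveI : Fact (Nat.Prime 2) := ⟨Nat.prime_two⟩
  obtain ⟨K, hKc, hRK, hKy, hKs, hKn, hK2⟩ := F.exists_K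
  set X := zpowers (τ 15)
  have hXK : X ≤ K := F.zpowers_x_le_R.trans hRK
  have hXp : IsPGroup 2 X := Loc.isPGroup_zpowers (i := 1) (by rw [F.order_x]; norm_num)
  haveI : (X.subgroupOf K).Normal := ⟨fun y hy k => by
    have h : (k : Y) * (y : Y) * (k : Y)⁻¹ = (y : Y) :=
      (F.zpowers_x_fix (e := (y : Y)) (mem_centralizer_singleton_iff.1 (hKc k.2)) hy).1
    show (k : Y) * y * (k : Y)⁻¹ ∈ X
    rw [h]
    exact hy⟩
  set π := QuotientGroup.mk' (X.subgroupOf K) with hπ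
  have hπeq : ∀ a b : K, π a = π b ↔ (a : Y)⁻¹ * b ∈ X := fun a b => QuotientGroup.eq.trans Iff.rfl
  have hπone : ∀ a : K, π a = 1 ↔ (a : Y) ∈ X := fun a => (QuotientGroup.eq_one_iff a).trans Iff.rfl
  have hRp : IsPGroup 2 (uR τ) := IsPGroup.of_card (n := 5) (by rw [F.card_R]; norm_num)
  obtain ⟨P, hP⟩ := (hRp.comap_subtype : IsPGroup 2 ((uR τ).subgroupOf K)).exists_le_sylow
  have hcardR : Nat.card ((uR τ).subgroupOf K) = 32 := by
    rw [Nat.card_congr (subgroupOfEquivOfLe hRK).toEquiv, F.card_R]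
  have hcardP : Nat.card (P : Subgroup K) ≤ Nat.card ((uR τ).subgroupOf K) := by
    rw [hcardR]
    have := hK2 _ (P.isPGroup'.map K.subtype) (map_subtype_le _)
    rwa [card_map_of_injective K.subtype_injective] at this
  have hPR : (P : Subgroup K) = (uR τ).subgroupOf K := (eq_of_le_of_card_ge hP hcardP).symm
  let T := P.mapSurjective (f := π) (QuotientGroup.mk'_surjective _)
  have hT : ∀ t ∈ (T : Subgroup (K ⧸ X.subgroupOf K)), ∃ r : K, (r : Y) ∈ uR τ ∧ π r = t := by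
    rintro _ ⟨r, hr, rfl⟩
    exact ⟨r, mem_subgroupOf.1 (hPR.le hr), rfl⟩
  have hTmem : ∀ r : K, (r : Y) ∈ uR τ → π r ∈ (T : Subgroup (K ⧸ X.subgroupOf K)) := fun r hr =>
    ⟨r, hPR.ge (mem_subgroupOf.2 hr), rfl⟩
  have hTe : Cfsg.IsElementaryAbelian 2 (T : Subgroup (K ⧸ X.subgroupOf K)) := by
    refine ⟨⟨⟨fun s t => ?_⟩⟩, fun t ht => ?_⟩
    · obtain ⟨a, ha, has⟩ := hT s s.2
      obtain ⟨b, hb, hbt⟩ := hT t t.2
      refine Subtype.ext ?_
      show (s : K ⧸ X.subgroupOf K) * t = t * s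
      rw [← has, ← hbt, ← map_mul, ← map_mul, hπeq]
      obtain ⟨i, hi, hie⟩ := F.mem_R.1 ha
      obtain ⟨j, hj, hje⟩ := F.mem_R.1 hb
      show (a * b : Y)⁻¹ * (b * a) ∈ X
      rw [← hie, ← hje, ← F.mul_eq i (rL_closed i hi).1 j (rL_closed j hj).1,
        ← F.mul_eq j (rL_closed j hj).1 i (rL_closed i hi).1]
      have hij := (sL_closed i (rL_closed i hi).1).2.2 j (rL_closed j hj).1
      have hji := (sL_closed j (rL_closed j hj).1).2.2 i (rL_closed i hi).1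
      have h : τ (mul (mul j i) (inv (mul i j))) ∈ X := F.mem_zpowers_x (rL_comm_x j hj i hi)
      rw [F.mul_eq _ hji _ (sL_closed _ hij).2.1, F.inv_eq hij] at h
      have hfix := (F.zpowers_x_fix (g := (τ (mul i j))⁻¹)
        (F.x_comm (inv_mem (F.mem _ hij))) h).1
      rw [inv_inv, show (τ (mul i j))⁻¹ * (τ (mul j i) * (τ (mul i j))⁻¹) * τ (mul i j) =
        (τ (mul i j))⁻¹ * τ (mul j i) by group] at hfix
      rw [hfix]
      exact h
    · obtain ⟨r, hr, rfl⟩ := hT t ht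
      rw [← map_pow, hπone]
      obtain ⟨a, ha, e⟩ := F.mem_R.1 hr
      rw [pow_two, Subgroup.coe_mul, ← e, ← F.mul_eq a (rL_closed a ha).1 a (rL_closed a ha).1]
      exact F.mem_zpowers_x (rL_facts.1 a ha).1
  have hker : (T : Subgroup (K ⧸ X.subgroupOf K)).comap π = (P : Subgroup K) := by
    refine le_antisymm (fun k hk => ?_) fun k hk => ⟨k, hk, rfl⟩
    obtain ⟨r, hr, e⟩ := hT _ hk
    refine hPR.ge (mem_subgroupOf.2 ?_)
    have := (uR τ).mul_mem hr (F.zpowers_x_le_R ((hπeq r k).1 e))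
    simpa using this
  have h8 : 8 ≤ Nat.card (T : Subgroup (K ⧸ X.subgroupOf K)) := by
    have h := Cores.card_comap_mk' (X.subgroupOf K) (T : Subgroup (K ⧸ X.subgroupOf K))
    rw [hker, hPR, Nat.card_congr (subgroupOfEquivOfLe hRK).toEquiv, F.card_R,
      Nat.card_congr (subgroupOfEquivOfLe hXK).toEquiv, Nat.card_zpowers, F.order_x] at h
    omega
  have hfix : ∀ g : K ⧸ X.subgroupOf K, g ∈ normalizer ((T : Subgroup (K ⧸ X.subgroupOf K)) : Set _) →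
      Odd (orderOf g) → ∀ t ∈ (T : Subgroup (K ⧸ X.subgroupOf K)), t ≠ 1 → g * t = t * g →
      ∀ s ∈ (T : Subgroup (K ⧸ X.subgroupOf K)), g * s = s * g := by
    intro g hg hgo t ht ht1 hgt s hs
    obtain ⟨n0, rfl⟩ := QuotientGroup.mk'_surjective (X.subgroupOf K) g
    rw [← hπ] at hg hgo hgt ⊢
    obtain ⟨a, b, ha, hb, hab, ⟨i, hi⟩, hbo⟩ := Loc.exists_parts (n0 : Y)
    have hzK : zpowers (n0 : Y) ≤ K := zpowers_le.2 n0.2
    have ha1 : π ⟨a, hzK ha⟩ = 1 := by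
      refine Loc.eq_one_of_two_odd (Loc.isPGroup_zpowers (i := i) ?_) (mem_zpowers _) ?_
      · refine (orderOf_map_dvd π _).trans ?_
        rwa [← Subgroup.orderOf_coe]
      · obtain ⟨k, hk⟩ := mem_zpowers_iff.1 ha
        rw [show (⟨a, hzK ha⟩ : K) = n0 ^ k from Subtype.ext (by rw [Subgroup.coe_zpow, hk]), map_zpow]
        exact hgo.of_dvd_nat (orderOf_dvd_of_mem_zpowers (zpow_mem (mem_zpowers _) k))
    have hg' : π n0 = π ⟨b, hzK hb⟩ := by
      rw [show n0 = ⟨a, hzK ha⟩ * ⟨b, hzK hb⟩ from Subtype.ext hab.symm, map_mul, ha1, one_mul]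
    have hn0 : (n0 : Y) ∈ normalizer (uR τ : Set Y) := by
      refine mem_normalizer_iff.2 fun r => ⟨fun hr => ?_, fun hr => ?_⟩
      · have := (mem_normalizer_iff.1 hg _).1 (hTmem ⟨r, hRK hr⟩ hr)
        rw [← map_inv, ← map_mul, ← map_mul] at this
        exact mem_subgroupOf.1 (hPR.le (hker.le this))
      · have hrK : r ∈ K := by
          have := K.mul_mem (K.mul_mem (K.inv_mem n0.2) (hRK hr)) n0.2
          rwa [show (n0 : Y)⁻¹ * ((n0 : Y) * r * (n0 : Y)⁻¹) * n0 = r by group] at this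
        have h1 : π n0 * π ⟨r, hrK⟩ * (π n0)⁻¹ ∈ (T : Subgroup (K ⧸ X.subgroupOf K)) := by
          rw [← map_inv, ← map_mul, ← map_mul]; exact hTmem _ hr
        exact mem_subgroupOf.1 (hPR.le (hker.le ((mem_normalizer_iff.1 hg _).2 h1)))
    have hbn : b ∈ normalizer (uR τ : Set Y) := zpowers_le.2 hn0 hb
    have hbx : b * τ 15 = τ 15 * b := mem_centralizer_singleton_iff.1 (hKc (hzK hb))
    obtain ⟨r0, hr0, rfl⟩ := hT t ht
    obtain ⟨a0, ha0, ha0e⟩ := F.mem_R.1 hr0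
    have ha0z : a0 ∉ [0, 16, 15, 31] := fun h => ht1 ((hπone r0).2 (ha0e ▸ F.mem_zpowers_x h))
    have hb0 : b * τ a0 = τ a0 * b := by
      rw [hg', ← map_mul, ← map_mul] at hgt
      have hc : ((⟨b, hzK hb⟩ * r0 : K) : Y)⁻¹ * ((r0 * ⟨b, hzK hb⟩ : K) : Y) ∈ X := (hπeq _ _).1 hgt
      simp only [Subgroup.coe_mul] at hc
      rw [ha0e]
      obtain ⟨h1, h2⟩ := F.zpowers_x_fix hbx hc
      set s0 := (b * (r0 : Y))⁻¹ * ((r0 : Y) * b)
      refine Loc.fix_of_step hbo (s := s0) ?_ h1 h2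
      have hrx := (F.zpowers_x_fix (g := (r0 : Y)) (F.R_comm_x hr0) hc).1
      calc b * r0 * b⁻¹ = (r0 : Y) * s0⁻¹ * (r0 : Y)⁻¹ * r0 * (b * b⁻¹) := by
            conv_rhs => rw [show (r0 : Y) * s0⁻¹ * (r0 : Y)⁻¹ = ((r0 : Y) * s0 * (r0 : Y)⁻¹)⁻¹ by group, hrx,
              inv_eq_of_mul_eq_one_right h2, mul_inv_cancel, mul_one]
            simp only [s0]
            have hbs : b * s0 * b⁻¹ = s0 := h1
            have hs0 : s0⁻¹ = s0 := inv_eq_of_mul_eq_one_right h2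
            calc b * (r0 : Y) * b⁻¹ = (r0 : Y) * (b * s0⁻¹ * b⁻¹) := by simp only [s0]; group
              _ = (r0 : Y) * s0 := by rw [hs0, hbs]
              _ = _ := by
                show (r0 : Y) * s0 = s0 * r0
                nth_rewrite 2 [← hrx]
                group
        _ = (r0 : Y) * s0 := by
            rw [inv_eq_of_mul_eq_one_right h2, hrx, mul_inv_cancel, mul_one]
            nth_rewrite 1 [← hrx]
            group
    obtain ⟨r, hr, rfl⟩ := hT s hs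
    rw [hg', ← map_mul, ← map_mul]
    exact congrArg π (Subtype.ext (F.fix_R_of_fix hbn hbo hbx ha0 ha0z hb0 hr))
  have hnc : ∃ s ∈ (T : Subgroup (K ⧸ X.subgroupOf K)), ∃ t ∈ (T : Subgroup (K ⧸ X.subgroupOf K)),
      s ≠ 1 ∧ t ≠ 1 ∧ ¬ IsConj s t := by
    have h3R : τ 3 ∈ uR τ := mem_sub_of_mem rL_facts.2.2.2.2.1
    have h4R : τ 416 ∈ uR τ := mem_sub_of_mem rL_facts.2.2.2.2.2
    have hX : ∀ a ∈ sL, τ a ∈ X → a ∈ [0, 16, 15, 31] := by
      intro a ha h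
      obtain ⟨k, hk⟩ := mem_zpowers_iff.1 h
      rcases Int.even_or_odd k with ⟨m, hm⟩ | ⟨m, hm⟩
      · have : τ a = 1 := by
          rw [← hk, hm, ← two_mul, zpow_mul, zpow_two,
            Involutions.Basic.inv_sq_one F.order_x, one_zpow]
        rcases List.mem_pair.1 ((F.eq_one ha).1 this) with rfl | rfl <;> simp
      · have : τ a = τ 15 := by
          rw [← hk, hm, zpow_add_one, zpow_mul, zpow_two,
            Involutions.Basic.inv_sq_one F.order_x, one_zpow, one_mul]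
        rcases (F.eq_iff a ha 15 x_facts.1).1 this with rfl | e
        · simp
        · exact mul16_z a ha e
    refine ⟨_, hTmem ⟨_, hRK h3R⟩ h3R, _, hTmem ⟨_, hRK h4R⟩ h4R,
      fun e => x_facts.2.2.2.2.2.1 (hX 3 (rL_closed 3 rL_facts.2.2.2.2.1).1 ((hπone _).1 e)),
      fun e => x_facts.2.2.2.2.2.2.1 (hX 416 (rL_closed 416 rL_facts.2.2.2.2.2).1 ((hπone _).1 e)), fun hcj => ?_⟩
    obtain ⟨k, hk⟩ := isConj_iff.1 hcj
    obtain ⟨k, rfl⟩ := QuotientGroup.mk'_surjective (X.subgroupOf K) k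
    rw [← hπ, ← map_inv, ← map_mul, ← map_mul, hπeq] at hk
    have hs : ((k * ⟨τ 3, hRK h3R⟩ * k⁻¹ : K) : Y)⁻¹ * τ 416 ∈ X := hk
    simp only [Subgroup.coe_mul, Subgroup.coe_inv] at hs
    set v := (k : Y) * τ 3 * (k : Y)⁻¹
    have hXU : X ≤ uE τ := zpowers_le.2 (mem_sub_of_mem one_rL.2.2.2.2.2.2)
    have hvU : v ∈ (U : Subgroup Y) := by
      have := (U : Subgroup Y).mul_mem (F.mem 416 (rL_closed 416 rL_facts.2.2.2.2.2).1)
        (inv_mem (F.E_le (hXU hs)))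
      rwa [show τ 416 * (v⁻¹ * τ 416)⁻¹ = v by group] at this
    have := (uE τ).mul_mem (F.strong (mem_sub_of_mem qL_lists.2.2.2.1) hvU) (hXU hs)
    rw [show v * (v⁻¹ * τ 416) = τ 416 by group, F.mem_E_code (rL_closed 416 rL_facts.2.2.2.2.2).1] at this
    exact one_rL.2.2.2.2.2.1 this
  -- the preimage of the core of the quotient
  set P0 := ((Cfsg.oddCore (K ⧸ X.subgroupOf K)).comap π).map K.subtype with hP0
  have hP0K : P0 ≤ K := map_subtype_le _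
  have hP0n : ∀ k ∈ K, ∀ d ∈ P0, k * d * k⁻¹ ∈ P0 := by
    rintro k hk _ ⟨d, hd, rfl⟩
    exact ⟨⟨k, hk⟩ * d * ⟨k, hk⟩⁻¹, ((Loc.oddCore_normal _).comap π).conj_mem d hd _, rfl⟩
  obtain ⟨D, hDP, hDodd, -, hP0eq, hDn⟩ := Loc.exists_odd_part (K := P0) (T := X)
    (fun x hx => ⟨⟨x, hXK hx⟩, mem_comap.2 (by rw [(hπone _).2 hx]; exact one_mem _), rfl⟩) hXp
    (fun x hx k hk => by
      rw [eq_comm, ← mul_inv_eq_iff_eq_mul]
      exact (F.zpowers_x_fix (mem_centralizer_singleton_iff.1 (hKc (hP0K hk))) hx).1)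
    (by
      rintro _ ⟨k, hk, rfl⟩ ⟨i, hi⟩
      refine (hπone k).1 (Loc.eq_one_of_two_odd (Loc.isPGroup_zpowers (i := i) ?_) (mem_zpowers _)
        (Loc.odd_orderOf InvChar.Core.odd_card_oddCore hk))
      refine (orderOf_map_dvd π _).trans ?_
      rw [← Subgroup.orderOf_coe]
      exact hi)
  have hDcore : D ≤ Loc.core (τ 15) := Loc.le_core_of_invariant hKc hKn (hDP.trans hP0K) hDodd
    fun k hk d hd => hDn k (hP0n k hk) d hd
  have inK : ∀ k ∈ K, ∀ r ∈ uR τ, k * r * k⁻¹ ∈ uR τ ⊔ Loc.core (τ 15) := by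
    intro k hk r hr
    have h := Loc.conj_mem_sup T hTe h8 hfix hnc (π ⟨k, hk⟩) _ (hTmem ⟨r, hRK hr⟩ hr)
    rw [← map_inv, ← map_mul, ← map_mul] at h
    haveI := Loc.oddCore_normal (K ⧸ X.subgroupOf K)
    obtain ⟨t, ht, o, ho, e⟩ := mem_sup_of_normal_right.1 h
    obtain ⟨r', hr', rfl⟩ := hT t ht
    have hc : ((r'⁻¹ * (⟨k, hk⟩ * ⟨r, hRK hr⟩ * ⟨k, hk⟩⁻¹) : K) : Y) ∈ X ⊔ D := by
      rw [← hP0eq]
      refine ⟨r'⁻¹ * (⟨k, hk⟩ * ⟨r, hRK hr⟩ * ⟨k, hk⟩⁻¹), mem_comap.2 ?_, rfl⟩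
      rw [map_mul, map_inv, ← e, inv_mul_cancel_left]
      exact ho
    have h2 : ((r'⁻¹ * (⟨k, hk⟩ * ⟨r, hRK hr⟩ * ⟨k, hk⟩⁻¹) : K) : Y) ∈ uR τ ⊔ Loc.core (τ 15) :=
      sup_le_sup F.zpowers_x_le_R hDcore hc
    have := mul_mem (mem_sup_left (T := Loc.core (τ 15)) hr') h2
    simpa using this
  obtain h | h := hKs g hg
  · exact inK g h r hr
  · have hyn : τ 1 ∈ normalizer ((uR τ ⊔ Loc.core (τ 15) : Subgroup Y) : Set Y) :=
      SolvableSignalizer.le_normalizer_sup (H := zpowers (τ 1))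
        (zpowers_le.2 F.U_normalizes_R) (zpowers_le.2 (Loc.core_normalizer F.y_comm_x)) (mem_zpowers _)
    have := (mem_normalizer_iff.1 hyn _).1 (inK _ h r hr)
    rwa [show τ 1 * (τ 1 * g * r * (τ 1 * g)⁻¹) * (τ 1)⁻¹ = τ 1 * τ 1 * g * r * g⁻¹ * (τ 1 * τ 1)⁻¹ by group,
      F.y_sq, one_mul, inv_one, mul_one] at this
where
  mul16_z : ∀ a ∈ sL, mul 16 a = 15 → a ∈ [0, 16, 15, 31] := by decide +kernel

/-- The centralizer of `x` is its core times the normalizer of `U`. -/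
theorem centX {g : Y} (hg : g * τ 15 = τ 15 * g) :
    ∃ d ∈ Loc.core (τ 15), d * g ∈ normalizer ((U : Subgroup Y) : Set Y) := by
  classical
  haveI : Fact (Nat.Prime 2) := ⟨Nat.prime_two⟩
  obtain ⟨K, hKc, hRK, hKy, hKs, hKn, hK2⟩ := F.exists_K
  set D := Loc.core (τ 15)
  have hDodd := Loc.core_odd (τ 15)
  have hRp : IsPGroup 2 (uR τ) := IsPGroup.of_card (n := 5) (by rw [F.card_R]; norm_num)
  have hRD : uR τ ≤ normalizer (D : Set Y) := fun r hr => Loc.core_normalizer (F.R_comm_x hr)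
  have hmk : ∀ {h : Y}, h * τ 15 = τ 15 * h → ∃ d ∈ D, d * h ∈ normalizer (uR τ : Set Y) ∧
      d * h * τ 15 = τ 15 * (d * h) := fun {h} hh => by
    obtain ⟨d, hd, hdn⟩ := Loc.exists_mul_normalizer hRp hDodd hRD fun t ht => F.R_sup_normal hh ht
    refine ⟨d, hd, hdn, ?_⟩
    rw [mul_assoc, hh, ← mul_assoc, mem_centralizer_singleton_iff.1 (Loc.core_le _ hd), mul_assoc]
  obtain ⟨d, hd, hn, hnx⟩ := hmk hg
  set n := d * g
  -- the elements trivial on `R` modulo `E`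
  let W : Subgroup Y :=
    { carrier := {h | h ∈ normalizer (uR τ : Set Y) ∧ ∀ r ∈ uR τ, h * r * h⁻¹ * r⁻¹ ∈ uE τ ⊓ uR τ}
      one_mem' := ⟨one_mem _, fun r _ => by simp⟩
      mul_mem' := by
        rintro a b ⟨ha, ha'⟩ ⟨hb, hb'⟩
        refine ⟨mul_mem ha hb, fun r hr => ?_⟩
        rw [show a * b * r * (a * b)⁻¹ * r⁻¹ = a * (b * r * b⁻¹ * r⁻¹) * a⁻¹ * (a * r * a⁻¹ * r⁻¹) by group]
        exact mul_mem (F.e8_conj ha (hb' r hr)) (ha' r hr)
      inv_mem' := by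
        rintro a ⟨ha, ha'⟩
        refine ⟨inv_mem ha, fun r hr => ?_⟩
        have := F.e8_conj (inv_mem ha) (inv_mem (ha' r hr))
        rw [show a⁻¹ * (a * r * a⁻¹ * r⁻¹)⁻¹ * a⁻¹⁻¹ = a⁻¹ * r * a⁻¹⁻¹ * r⁻¹ by group] at this
        exact this }
  have hyW : τ 1 ∈ W := by
    refine ⟨F.U_normalizes_R, fun r hr => ?_⟩
    obtain ⟨a, ha, rfl⟩ := F.mem_R.1 hr
    have has := (rL_closed a ha).1
    rw [← F.cj_eq x_facts.2.2.1 has, ← F.inv_eq has,
      ← F.mul_eq _ (Mod.cj_mem F.toMod x_facts.2.2.1 has) _ (sL_closed a has).2.1]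
    exact ⟨mem_sub_of_mem (x_facts.2.2.2.2.1 a ha), mem_sub_of_mem (one_rL.2.2.2.1 a ha)⟩
  have hnyW : n * τ 1 * n⁻¹ ∈ W := by
    refine ⟨mul_mem (mul_mem hn F.U_normalizes_R) (inv_mem hn), fun r hr => ?_⟩
    have hr' : n⁻¹ * r * n ∈ uR τ := by
      have := (mem_normalizer_iff.1 (inv_mem hn) r).1 hr
      rwa [inv_inv] at this
    have := F.e8_conj hn (hyW.2 _ hr')
    rwa [show n * (τ 1 * (n⁻¹ * r * n) * (τ 1)⁻¹ * (n⁻¹ * r * n)⁻¹) * n⁻¹ =
      n * τ 1 * n⁻¹ * r * (n * τ 1 * n⁻¹)⁻¹ * r⁻¹ by group] at this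
  set c := τ 1 * (n * τ 1 * n⁻¹)
  have hcW : c ∈ W := mul_mem hyW hnyW
  have hyc : τ 1 ∈ centralizer ({τ 15} : Set Y) := mem_centralizer_singleton_iff.2 F.y_comm_x
  have hnc : n ∈ centralizer ({τ 15} : Set Y) := mem_centralizer_singleton_iff.2 hnx
  have hcc : c ∈ centralizer ({τ 15} : Set Y) := mul_mem hyc (mul_mem (mul_mem hnc hyc) (inv_mem hnc))
  have hcK : c ∈ K := by
    rcases hKs c (mem_centralizer_singleton_iff.1 hcc) with h | h
    · exact h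
    · rw [← mul_assoc, F.y_sq, one_mul] at h
      have := hKn n⁻¹ (mem_centralizer_singleton_iff.1 (inv_mem hnc)) _ h
      rw [show n⁻¹ * (n * τ 1 * n⁻¹) * n⁻¹⁻¹ = τ 1 by group] at this
      exact absurd this hKy
  obtain ⟨a, b, ha, hb, hab, ⟨i, hi⟩, hbo⟩ := Loc.exists_parts c
  have hzK : zpowers c ≤ K := zpowers_le.2 hcK
  have hzW : zpowers c ≤ W := zpowers_le.2 hcW
  have two : ∀ p ∈ K, p ∈ normalizer (uR τ : Set Y) → (∃ i, orderOf p ∣ 2 ^ i) → p ∈ uR τ := by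
    rintro p hp hpn ⟨j, hj⟩
    have h2 : IsPGroup 2 (uR τ ⊔ zpowers p : Subgroup Y) :=
      IsPGroup.to_sup_of_normal_left' hRp (Loc.isPGroup_zpowers hj) (zpowers_le.2 hpn)
    have := eq_of_le_of_card_ge (le_sup_left : uR τ ≤ uR τ ⊔ zpowers p)
      (by rw [F.card_R]; exact hK2 _ h2 (sup_le hRK (zpowers_le.2 hp)))
    exact this ▸ mem_sup_right (mem_zpowers p)
  have haR : a ∈ uR τ := two a (hzK ha) (hzW ha).1 ⟨i, hi⟩
  have hbR := F.fix_R_of_quot (hzW hb).1 hbo (mem_centralizer_singleton_iff.1 (hKc (hzK hb))) (hzW hb).2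
  -- the odd part of the centralizer of `R`
  set CR := K ⊓ centralizer (uR τ : Set Y)
  have hXCR : zpowers (τ 15) ≤ CR := le_inf (F.zpowers_x_le_R.trans hRK)
    (zpowers_le.2 (mem_centralizer_iff.2 fun r hr => F.R_comm_x hr))
  obtain ⟨D', hD'CR, hD'odd, hD'mem, -, hD'n⟩ := Loc.exists_odd_part (K := CR) (T := zpowers (τ 15)) hXCR
    (Loc.isPGroup_zpowers (i := 1) (by rw [F.order_x]; norm_num))
    (fun x hx k hk => by
      rw [eq_comm, ← mul_inv_eq_iff_eq_mul]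
      exact (F.zpowers_x_fix (mem_centralizer_singleton_iff.1 (hKc hk.1)) hx).1)
    (fun k hk hk2 => by
      obtain ⟨e, he, hee⟩ := F.mem_R.1 (two k hk.1 (centralizer_le_normalizer _ hk.2) hk2)
      rw [← hee]
      refine F.mem_zpowers_x (rL_center_U e he fun f hf => ?_)
      refine (F.comm (rL_closed e he).1 (rL_closed f hf).1).1 ?_
      rw [hee]
      exact (mem_centralizer_iff.1 hk.2 _ (mem_sub_of_mem hf)).symm)
  have hD'C : D' ≤ centralizer ({τ 15} : Set Y) := hD'CR.trans (inf_le_left.trans hKc)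
  have hD'D : D' ≤ D := by
    refine le_trans le_sup_left (Loc.le_core (X := D' ⊔ D) (sup_le hD'C (Loc.core_le _))
      (Loc.odd_sup hD'odd hDodd fun h hh => Loc.core_normalizer (mem_centralizer_singleton_iff.1 (hD'C hh))) ?_)
    intro h hh
    obtain ⟨e, he, hen, hex⟩ := hmk hh
    have h1 : ∀ k ∈ CR, e * h * k * (e * h)⁻¹ ∈ CR := fun k hk =>
      ⟨hKn _ hex k hk.1, mem_centralizer_iff.2 fun r hr => by
        have hr' := (mem_normalizer_iff.1 (inv_mem hen) r).1 hr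
        have hc' := mem_centralizer_iff.1 hk.2 _ hr'
        calc r * (e * h * k * (e * h)⁻¹) = e * h * ((e * h)⁻¹ * r * ((e * h)⁻¹)⁻¹ * k) * (e * h)⁻¹ := by group
          _ = e * h * (k * ((e * h)⁻¹ * r * ((e * h)⁻¹)⁻¹)) * (e * h)⁻¹ := by rw [hc']
          _ = e * h * k * (e * h)⁻¹ * r := by group⟩
    have hN : e * h ∈ normalizer ((D' ⊔ D : Subgroup Y) : Set Y) := by
      have hle : zpowers (e * h) ≤ normalizer ((D' ⊔ D : Subgroup Y) : Set Y) :=
        SolvableSignalizer.le_normalizer_sup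
          (zpowers_le.2 (mem_normalizer_iff.2 fun y => ⟨hD'n _ h1 y, fun hy => by
            have hex' : (e * h)⁻¹ * τ 15 = τ 15 * (e * h)⁻¹ := by
              rw [inv_mul_eq_iff_eq_mul, ← mul_assoc, hex, mul_inv_cancel_right]
            have h1' : ∀ k ∈ CR, (e * h)⁻¹ * k * ((e * h)⁻¹)⁻¹ ∈ CR := fun k hk =>
              ⟨hKn _ hex' k hk.1, mem_centralizer_iff.2 fun r hr => by
                have hr' := (mem_normalizer_iff.1 hen r).1 hr
                have hc' := mem_centralizer_iff.1 hk.2 _ hr'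
                calc r * ((e * h)⁻¹ * k * ((e * h)⁻¹)⁻¹) = (e * h)⁻¹ * (e * h * r * (e * h)⁻¹ * k) * (e * h) := by group
                  _ = (e * h)⁻¹ * (k * (e * h * r * (e * h)⁻¹)) * (e * h) := by rw [hc']
                  _ = (e * h)⁻¹ * k * ((e * h)⁻¹)⁻¹ * r := by group⟩
            have := hD'n _ h1' _ hy
            rwa [show (e * h)⁻¹ * (e * h * y * (e * h)⁻¹) * ((e * h)⁻¹)⁻¹ = y by group] at this⟩))
          (zpowers_le.2 (Loc.core_normalizer hex))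
      exact hle (mem_zpowers _)
    have he' : e ∈ normalizer ((D' ⊔ D : Subgroup Y) : Set Y) := le_normalizer (mem_sup_right he)
    have hN' : h ∈ normalizer ((D' ⊔ D : Subgroup Y) : Set Y) := by
      simpa using mul_mem (inv_mem he') hN
    exact fun x hx => (mem_normalizer_iff.1 hN' x).1 hx
  have hbD : b ∈ D := hD'D (hD'mem b ⟨hzK hb, mem_centralizer_iff.2 fun r hr => (hbR r hr).symm⟩ hbo)
  have hcU : c ∈ (U : Subgroup Y) ⊔ D := by
    rw [← hab]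
    exact mul_mem (mem_sup_left (F.R_le haR)) (mem_sup_right hbD)
  have hUD : (U : Subgroup Y) ≤ normalizer (D : Set Y) := fun s hs => Loc.core_normalizer (F.x_comm hs)
  have hnU : ∀ s ∈ (U : Subgroup Y), n * s * n⁻¹ ∈ (U : Subgroup Y) ⊔ D := by
    have hR' : ∀ r ∈ uR τ, n * r * n⁻¹ ∈ (U : Subgroup Y) ⊔ D := fun r hr =>
      mem_sup_left (F.R_le ((mem_normalizer_iff.1 hn r).1 hr))
    have hy' : n * τ 1 * n⁻¹ ∈ (U : Subgroup Y) ⊔ D := by
      have := mul_mem (mem_sup_left (T := D) (inv_mem (F.mem 1 x_facts.2.2.1))) hcU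
      simpa [c] using this
    intro s hs
    obtain ⟨e, he, rfl⟩ := F.surj s hs
    rcases rL_facts.2.1 e he with h | h
    · exact hR' _ (mem_sub_of_mem h)
    · have h1 := mul_mem hy' (hR' _ (mem_sub_of_mem (L := rL) h : τ (mul 1 e) ∈ uR τ))
      rwa [show n * τ 1 * n⁻¹ * (n * τ (mul 1 e) * n⁻¹) = n * (τ 1 * τ (mul 1 e)) * n⁻¹ by group,
        F.mul_eq 1 x_facts.2.2.1 e he, ← mul_assoc (τ 1), F.y_sq, one_mul] at h1
  obtain ⟨d', hd', hdn⟩ := Loc.exists_mul_normalizer U.isPGroup' hDodd hUD hnU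
  exact ⟨d' * d, mul_mem hd' hd, by rwa [mul_assoc]⟩

end Hyp

end Cfsg.Agent.J2Type
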