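import Mathlib
import Cfsg.Agent.Lib.J2Type.CentXMain

/-!
Balance: centralizers in which `E` is normal modulo the core.
-/

set_option autoImplicit false
set_option linter.style.haveILetI false
set_option linter.unusedSectionVars false

namespace Cfsg.Agent.J2Type

open Subgroup
open Cfsg.Agent.J2Uniq (mul inv cj)

universe u

variable {Y : Type u} [Group Y] [Finite Y]

namespace Loc

/-- The elements of the centralizer of `a` fixing `b` modulo the core. -/
def fixMod (a b : Y) : Subgroup Y where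
  carrier := {g | g * a = a * g ∧ g * b * g⁻¹ * b⁻¹ ∈ core a}
  one_mem' := ⟨by simp, by simp⟩
  mul_mem' := by
    rintro g h ⟨hg, hg'⟩ ⟨hh, hh'⟩
    refine ⟨by rw [mul_assoc, hh, ← mul_assoc, hg, mul_assoc], ?_⟩
    rw [show g * h * b * (g * h)⁻¹ * b⁻¹ = g * (h * b * h⁻¹ * b⁻¹) * g⁻¹ * (g * b * g⁻¹ * b⁻¹) by group]
    exact mul_mem (core_conj_mem hg hh') hg'
  inv_mem' := by
    rintro g ⟨hg, hg'⟩
    have hgi : g⁻¹ * a = a * g⁻¹ := by rw [inv_mul_eq_iff_eq_mul, ← mul_assoc, hg, mul_inv_cancel_right]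
    refine ⟨hgi, ?_⟩
    have := core_conj_mem hgi (inv_mem hg')
    rw [show g⁻¹ * (g * b * g⁻¹ * b⁻¹)⁻¹ * g⁻¹⁻¹ = g⁻¹ * b * g⁻¹⁻¹ * b⁻¹ by group] at this
    exact this

theorem mem_fixMod {a b g : Y} : g ∈ fixMod a b ↔ g * a = a * g ∧ g * b * g⁻¹ * b⁻¹ ∈ core a := Iff.rfl

/-- If the square of an element of odd order fixes `b` modulo the core, so does the element. -/
theorem fixMod_of_sq {a b g : Y} (ho : Odd (orderOf g)) (h : g * g ∈ fixMod a b) : g ∈ fixMod a b :=
  zpowers_le.2 h (mem_zpowers_sq ho)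

end Loc

namespace Hyp

variable {U : Sylow 2 Y} {τ : ℕ → Y} (F : Hyp U τ)

/-- `E` is normal in the centralizer of `a` modulo its core. -/
def ENorm (τ : ℕ → Y) (a : Y) : Prop :=
  uE τ ≤ centralizer ({a} : Set Y) ∧
    ∀ g : Y, g * a = a * g → ∀ e ∈ uE τ, g * e * g⁻¹ ∈ uE τ ⊔ Loc.core a

include F

theorem E_p : IsPGroup 2 (uE τ) := U.isPGroup'.to_le F.E_le

theorem E_inf_core {a e : Y} (he : e ∈ uE τ) (hd : e ∈ Loc.core a) : e = 1 :=
  Loc.inf_eq_bot F.E_p (Loc.core_odd a) he hd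

theorem E_le_normalizer_core {a : Y} (hN : ENorm τ a) : uE τ ≤ normalizer (Loc.core a : Set Y) := fun _ he =>
  Loc.core_normalizer (mem_centralizer_singleton_iff.1 (hN.1 he))

/-- An element of odd order trivial on `E` modulo the core lies in the core. -/
theorem mem_core_of_trivial {a h : Y} (hN : ENorm τ a) (hh : h * a = a * h) (ho : Odd (orderOf h))
    (htriv : ∀ e ∈ uE τ, h ∈ Loc.fixMod a e) : h ∈ Loc.core a := by
  classical
  set D := Loc.core a
  have hDodd := Loc.core_odd a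
  have hED := F.E_le_normalizer_core hN
  have hfr : ∀ g : Y, g * a = a * g → ∃ d ∈ D, d * g ∈ normalizer (uE τ : Set Y) ∧ d * g * a = a * (d * g) := by
    intro g hg
    obtain ⟨d, hd, hdn⟩ := Loc.exists_mul_normalizer F.E_p hDodd hED (hN.2 g hg)
    refine ⟨d, hd, hdn, ?_⟩
    rw [mul_assoc, hg, ← mul_assoc, mem_centralizer_singleton_iff.1 (Loc.core_le _ hd), mul_assoc]
  obtain ⟨d, hd, hdn, hdc⟩ := hfr h hh
  set CE := centralizer ({a} : Set Y) ⊓ centralizer (uE τ : Set Y)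
  have hk : d * h ∈ CE := by
    refine ⟨mem_centralizer_singleton_iff.2 hdc, mem_centralizer_iff.2 fun e he => ?_⟩
    have h1 : d * h * e * (d * h)⁻¹ ∈ uE τ := (mem_normalizer_iff.1 hdn e).1 he
    have h2 : d * h * e * (d * h)⁻¹ * e⁻¹ ∈ D := by
      have hde : e * d⁻¹ * e⁻¹ ∈ D := (mem_normalizer_iff.1 (hED he) _).1 (inv_mem hd)
      have := mul_mem (mul_mem hd (htriv e he).2) hde
      rwa [show d * (h * e * h⁻¹ * e⁻¹) * (e * d⁻¹ * e⁻¹) = d * h * e * (d * h)⁻¹ * e⁻¹ by group] at this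
    have h3 := mul_inv_eq_one.1 (F.E_inf_core ((uE τ).mul_mem h1 (inv_mem he)) h2)
    exact (mul_inv_eq_iff_eq_mul.1 h3).symm
  obtain ⟨O, hO, hOodd, -, hOeq, hOn⟩ := Loc.exists_odd_part (K := CE) (T := uE τ)
    (le_inf hN.1 fun e he => mem_centralizer_iff.2 fun e' he' => F.E_comm he' he) F.E_p
    (fun t ht k hk => mem_centralizer_iff.1 hk.2 t ht)
    (fun k hk hk2 => by
      obtain ⟨i, hi⟩ := hk2
      exact F.cent_two (P := uE τ ⊔ zpowers k)
        (IsPGroup.to_sup_of_normal_left' F.E_p (Loc.isPGroup_zpowers hi)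
          (zpowers_le.2 (centralizer_le_normalizer _ hk.2)))
        le_sup_left (mem_sup_right (mem_zpowers k)) fun e he => (mem_centralizer_iff.1 hk.2 e he).symm)
  have hOD : O ≤ D := by
    refine le_trans le_sup_left (Loc.le_core (X := O ⊔ D) (sup_le (hO.trans inf_le_left) (Loc.core_le _))
      (Loc.odd_sup hOodd hDodd fun t ht => Loc.core_normalizer
        (mem_centralizer_singleton_iff.1 (hO ht).1)) ?_)
    intro g hg
    obtain ⟨e, he, hen, hea⟩ := hfr g hg
    have key : ∀ n : Y, n ∈ normalizer (uE τ : Set Y) → n * a = a * n → ∀ k ∈ CE, n * k * n⁻¹ ∈ CE := by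
      intro n hn hna k hk
      have hnC : n ∈ centralizer ({a} : Set Y) := mem_centralizer_singleton_iff.2 hna
      refine ⟨(centralizer ({a} : Set Y)).mul_mem ((centralizer ({a} : Set Y)).mul_mem hnC hk.1) (inv_mem hnC),
        mem_centralizer_iff.2 fun t ht => ?_⟩
      have ht' := (mem_normalizer_iff.1 (inv_mem hn) t).1 ht
      have hc' := mem_centralizer_iff.1 hk.2 _ ht'
      calc t * (n * k * n⁻¹) = n * (n⁻¹ * t * n⁻¹⁻¹ * k) * n⁻¹ := by group
        _ = n * (k * (n⁻¹ * t * n⁻¹⁻¹)) * n⁻¹ := by rw [hc']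
        _ = n * k * n⁻¹ * t := by group
    have hai : (e * g)⁻¹ * a = a * (e * g)⁻¹ := by
      rw [inv_mul_eq_iff_eq_mul, ← mul_assoc, hea, mul_inv_cancel_right]
    have hON : e * g ∈ normalizer (O : Set Y) := mem_normalizer_iff.2 fun t =>
      ⟨hOn _ (key _ hen hea) t, fun ht => by
        have := hOn _ (key _ (inv_mem hen) hai) _ ht
        rwa [show (e * g)⁻¹ * (e * g * t * (e * g)⁻¹) * ((e * g)⁻¹)⁻¹ = t by group] at this⟩
    have hN' : e * g ∈ normalizer ((O ⊔ D : Subgroup Y) : Set Y) :=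
      SolvableSignalizer.le_normalizer_sup (H := zpowers (e * g)) (zpowers_le.2 hON)
        (zpowers_le.2 (Loc.core_normalizer hea)) (mem_zpowers _)
    have he' : e ∈ normalizer ((O ⊔ D : Subgroup Y) : Set Y) := le_normalizer (mem_sup_right he)
    have hg' : g ∈ normalizer ((O ⊔ D : Subgroup Y) : Set Y) := by simpa using mul_mem (inv_mem he') hN'
    exact fun x hx => (mem_normalizer_iff.1 hg' x).1 hx
  have hmem : h ∈ uE τ ⊔ D := by
    have h1 : d * h ∈ uE τ ⊔ D := sup_le_sup_left hOD _ (hOeq ▸ hk)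
    simpa using mul_mem (mem_sup_right (S := uE τ) (inv_mem hd)) h1
  exact Loc.odd_mem_of_sup F.E_p hDodd hED hmem ho

/-- An element of odd order centralizing an involution `f` and, modulo the core, the centralizer of `f` in `E`
lies in the core. -/
theorem rigid {a f h : Y} (hN : ENorm τ a) (hf : f ∈ normalizer (uE τ : Set Y)) (hf2 : f * f = 1)
    (hfa : f * a = a * f) (hha : h * a = a * h) (hhf : h * f = f * h) (ho : Odd (orderOf h))
    (hB : ∀ b ∈ uE τ, b * f = f * b → h ∈ Loc.fixMod a b) : h ∈ Loc.core a := by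
  classical
  set D := Loc.core a
  have hED := F.E_le_normalizer_core hN
  refine F.mem_core_of_trivial hN hha ho fun e he => Loc.fixMod_of_sq ho ?_
  have hDh : ∀ x ∈ D, h * x * h⁻¹ ∈ D := fun x hx => Loc.core_conj_mem hha hx
  have hDE : ∀ t ∈ uE τ, ∀ x ∈ D, t * x * t⁻¹ ∈ D := fun t ht x hx => (mem_normalizer_iff.1 (hED ht) x).1 hx
  have hfi : f⁻¹ = f := inv_eq_of_mul_eq_one_right hf2
  have hEf : ∀ t ∈ uE τ, f * t * f ∈ uE τ := fun t ht => by
    have := (mem_normalizer_iff.1 hf t).1 ht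
    rwa [hfi] at this
  obtain ⟨e1, he1, d1, hd1, hde⟩ := Loc.mem_sup_iff hED (hN.2 h hha e he)
  -- the commutators with `f`
  have hcB : ∀ t ∈ uE τ, t * (f * t * f) ∈ uE τ ∧ t * (f * t * f) * f = f * (t * (f * t * f)) := by
    intro t ht
    refine ⟨mul_mem ht (hEf t ht), ?_⟩
    calc t * (f * t * f) * f = t * f * t * (f * f) := by group
      _ = t * f * t := by rw [hf2, mul_one]
      _ = f * (f * t * f * t) := by
        rw [show f * (f * t * f * t) = f * f * (t * f * t) by group, hf2, one_mul]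
      _ = _ := by rw [F.E_comm (hEf t ht) ht]
  have hc := (hB _ (hcB e he).1 (hcB e he).2).2
  have hconj : h * (e * (f * e * f)) * h⁻¹ = e1 * (f * e1 * f) * ((f * e1 * f)⁻¹ * d1 * (f * e1 * f) * (f * d1 * f)) := by
    calc h * (e * (f * e * f)) * h⁻¹ = h * e * h⁻¹ * (h * f * h⁻¹ * (h * e * h⁻¹) * (h * f * h⁻¹)) := by group
      _ = e1 * d1 * (f * (e1 * d1) * f) := by rw [hhf, mul_inv_cancel_right, ← hde]
      _ = e1 * d1 * (f * e1 * (f * f) * d1 * f) := by rw [hf2, mul_one]; group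
      _ = _ := by group
  have hrest : (f * e1 * f)⁻¹ * d1 * (f * e1 * f) * (f * d1 * f) ∈ D := by
    refine mul_mem ?_ ?_
    · have := hDE _ (inv_mem (hEf e1 he1)) d1 hd1
      rwa [inv_inv] at this
    · have := (mem_normalizer_iff.1 (Loc.core_normalizer hfa) d1).1 hd1
      rwa [hfi] at this
  have hceq : e1 * (f * e1 * f) = e * (f * e * f) := by
    have h1 : (e * (f * e * f))⁻¹ * (e1 * (f * e1 * f)) ∈ D := by
      rw [hconj] at hc
      have h2 := hDE _ (inv_mem (hcB e he).1) _ hc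
      have h3 := mul_mem h2 (inv_mem hrest)
      rwa [show (e * (f * e * f))⁻¹ * (e1 * (f * e1 * f) * ((f * e1 * f)⁻¹ * d1 * (f * e1 * f) * (f * d1 * f)) *
        (e * (f * e * f))⁻¹) * ((e * (f * e * f))⁻¹)⁻¹ * ((f * e1 * f)⁻¹ * d1 * (f * e1 * f) * (f * d1 * f))⁻¹ =
        (e * (f * e * f))⁻¹ * (e1 * (f * e1 * f)) by group] at h3
    exact (inv_mul_eq_one.1 (F.E_inf_core (mul_mem (inv_mem (hcB e he).1) (hcB e1 he1).1) h1)).symm
  set b := e * e1
  have hb : b ∈ uE τ := mul_mem he he1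
  have hbf : b * f = f * b := by
    have h1 : f * b * f = b := by
      calc f * b * f = f * e * (f * f) * e1 * f := by rw [hf2]; simp only [b]; group
        _ = (e * e) * (f * e * f) * (f * e1 * f) := by rw [F.E_sq he]; group
        _ = e * (e * (f * e * f)) * (f * e1 * f) := by group
        _ = e * (e1 * (f * e1 * f)) * (f * e1 * f) := by rw [hceq]
        _ = e * e1 * ((f * e1 * f) * (f * e1 * f)) := by group
        _ = b := by rw [F.E_sq (hEf e1 he1), mul_one]
    calc b * f = f * b * f * f := by rw [h1]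
      _ = f * b := by rw [mul_assoc, hf2, mul_one]
  have hhb := (hB b hb hbf).2
  -- the square fixes `e` modulo the core
  have hh2 : h * h * a = a * (h * h) := by rw [mul_assoc, hha, ← mul_assoc, hha, mul_assoc]
  refine ⟨hh2, ?_⟩
  have he1e : e1 = e * b := by simp only [b]; rw [← mul_assoc, F.E_sq he, one_mul]
  rw [show h * h * e * (h * h)⁻¹ * e⁻¹ = e * (b * d1 * b⁻¹) * e⁻¹ * (e * (b * (h * b * h⁻¹ * b⁻¹) * b⁻¹) * e⁻¹) *
      (e * (b * b) * e⁻¹) * (e * (h * d1 * h⁻¹) * e⁻¹) by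
    calc h * h * e * (h * h)⁻¹ * e⁻¹ = h * (h * e * h⁻¹) * h⁻¹ * e⁻¹ := by group
      _ = h * (e * b * d1) * h⁻¹ * e⁻¹ := by rw [← hde, he1e]
      _ = (h * e * h⁻¹) * (h * b * h⁻¹) * (h * d1 * h⁻¹) * e⁻¹ := by group
      _ = e * b * d1 * (h * b * h⁻¹) * (h * d1 * h⁻¹) * e⁻¹ := by rw [← hde, he1e]
      _ = _ := by group]
  rw [F.E_sq hb, mul_one, mul_inv_cancel, mul_one]
  exact mul_mem (mul_mem (hDE e he _ (hDE b hb _ hd1)) (hDE e he _ (hDE b hb _ hhb))) (hDE e he _ (hDh d1 hd1))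

/-- An odd subgroup centralizing `f`, normalized by the centralizer of `f` in `E`, lies in the core. -/
theorem balance {a f : Y} (hN : ENorm τ a) (hf : f ∈ normalizer (uE τ : Set Y)) (hf2 : f * f = 1)
    (hfa : f * a = a * f) {X : Subgroup Y} (hXa : X ≤ centralizer ({a} : Set Y))
    (hXf : X ≤ centralizer ({f} : Set Y)) (hXo : Odd (Nat.card X))
    (hXB : ∀ b ∈ uE τ, b * f = f * b → ∀ x ∈ X, b * x * b⁻¹ ∈ X) : X ≤ Loc.core a := by
  intro h hh
  have hha := mem_centralizer_singleton_iff.1 (hXa hh)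
  refine F.rigid hN hf hf2 hfa hha (mem_centralizer_singleton_iff.1 (hXf hh)) (Loc.odd_orderOf hXo hh)
    fun b hb hbf => ⟨hha, ?_⟩
  have hX : h * b * h⁻¹ * b⁻¹ ∈ X := by
    have := mul_mem hh (hXB b hb hbf _ (inv_mem hh))
    rwa [show h * (b * h⁻¹ * b⁻¹) = h * b * h⁻¹ * b⁻¹ by group] at this
  exact Loc.odd_mem_of_sup F.E_p (Loc.core_odd a) (F.E_le_normalizer_core hN)
    (mul_mem (hN.2 h hha b hb) (mem_sup_left (inv_mem hb))) (Loc.odd_orderOf hXo hX)

theorem enorm_x : ENorm τ (τ 15) := by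
  have hc : uE τ ≤ centralizer ({τ 15} : Set Y) := fun e he => mem_centralizer_singleton_iff.2 (F.x_comm (F.E_le he))
  refine ⟨hc, fun g hg e he => ?_⟩
  obtain ⟨d, hd, hn⟩ := F.centX hg
  have hNE : d * g ∈ normalizer (uE τ : Set Y) := F.mem_normalizer_of_le fun t ht =>
    (mem_normalizer_iff.1 hn t).1 (F.E_le ht)
  have := mul_mem (mul_mem (mem_sup_right (S := uE τ) (inv_mem hd))
    (mem_sup_left (T := Loc.core (τ 15)) ((mem_normalizer_iff.1 hNE e).1 he))) (mem_sup_right (S := uE τ) hd)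
  rwa [show d⁻¹ * (d * g * e * (d * g)⁻¹) * d = g * e * g⁻¹ by group] at this

end Hyp

end Cfsg.Agent.J2Type
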