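import Mathlib
import Cfsg.Agent.Lib.J2Type.Balance
import Cfsg.Agent.Lib.ZStar.Main

/-!
The centralizers of the involutions outside `E` have normal 2-complements.
-/

set_option autoImplicit false
set_option linter.style.haveILetI false
set_option linter.unusedSectionVars false

namespace Cfsg.Agent.J2Type

open Subgroup
open Cfsg.Agent.J2Uniq (mul inv cj)

universe u

variable {Y : Type u} [Group Y] [Finite Y]

namespace Loc

/-- Two-subgroups of a subgroup are conjugate in it into one of maximal order. -/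
theorem exists_conj_into {H T : Subgroup Y} (hT : IsPGroup 2 T) (hTH : T ≤ H)
    (hmax : ∀ P : Subgroup Y, IsPGroup 2 P → P ≤ H → Nat.card P ≤ Nat.card T) {P : Subgroup Y} (hP : IsPGroup 2 P)
    (hPH : P ≤ H) : ∃ k ∈ H, ∀ p ∈ P, k * p * k⁻¹ ∈ T := by
  haveI : Fact (Nat.Prime 2) := ⟨Nat.prime_two⟩
  obtain ⟨T', hT'⟩ := (hT.comap_subtype : IsPGroup 2 (T.subgroupOf H)).exists_le_sylow
  obtain ⟨P', hP'⟩ := (hP.comap_subtype : IsPGroup 2 (P.subgroupOf H)).exists_le_sylow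
  obtain ⟨k, hk⟩ := MulAction.exists_smul_eq H P' T'
  have heq : T = (T' : Subgroup H).map H.subtype := eq_of_le_of_card_ge (fun s hs => ⟨⟨s, hTH hs⟩, hT' hs, rfl⟩)
    (hmax _ (T'.isPGroup'.map _) (map_subtype_le _))
  refine ⟨k, k.2, fun p hp => ?_⟩
  rw [heq]
  refine ⟨k * ⟨p, hPH hp⟩ * k⁻¹, ?_, rfl⟩
  rw [← hk, Sylow.coe_subgroup_smul]
  exact ⟨_, hP' (mem_subgroupOf.2 hp), rfl⟩

end Loc

theorem vL_x_facts : (∀ f ∈ vL, cm f 15 = true) ∧ (∀ f ∈ vL, ∀ b ∈ [0, 16, 15, 31], cm f b = true) := by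
  decide +kernel

namespace Mod

variable {U : Subgroup Y} {τ : ℕ → Y} (M : Mod U τ)

include M

theorem card_ge {P : Subgroup Y} {L : List ℕ} (hn : L.Nodup) (hrep : ∀ a ∈ L, a ∈ repL)
    (hmem : ∀ a ∈ L, τ a ∈ P) : L.length ≤ Nat.card P := by
  classical
  rw [← List.toFinset_card_of_nodup hn, ← Nat.card_eq_finsetCard]
  refine Nat.card_le_card_of_injective (fun a : L.toFinset => (⟨τ a.1, hmem _ (List.mem_toFinset.1 a.2)⟩ : P))
    fun a b e => Subtype.ext ?_
  have ha := hrep _ (List.mem_toFinset.1 a.2)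
  have hb := hrep _ (List.mem_toFinset.1 b.2)
  exact repL_unique _ ha _ hb ((M.eqv_eq (repL_count.2.2 _ ha) (repL_count.2.2 _ hb)).1 (congrArg Subtype.val e))

theorem card_cent {a : ℕ} (ha : a ∈ sL) :
    (repL.filter (cm a)).length ≤ Nat.card (U ⊓ centralizer ({τ a} : Set Y) : Subgroup Y) := by
  refine M.card_ge (repL_count.1.filter _) (fun b hb => List.mem_of_mem_filter hb) fun b hb => ?_
  obtain ⟨hb1, hb2⟩ := List.mem_filter.1 hb
  exact ⟨M.mem b (repL_count.2.2 b hb1),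
    mem_centralizer_singleton_iff.2 ((M.comm ha (repL_count.2.2 b hb1)).2 hb2).symm⟩

end Mod

namespace Hyp

variable {U : Sylow 2 Y} {τ : ℕ → Y} (F : Hyp U τ)

include F

/-- A 2-subgroup centralizing a conjugate-closed class of codes is bounded. -/
theorem card_two_cent {a : ℕ} (ha : a ∈ sL) {L : List ℕ}
    (hL : ∀ (g : Y) (b : ℕ), b ∈ sL → g * τ a * g⁻¹ = τ b → b ∈ L) {n : ℕ}
    (hn : ∀ b ∈ L, (repL.filter (cm b)).length ≤ n) {P : Subgroup Y} (hP : IsPGroup 2 P)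
    (hPc : P ≤ centralizer ({τ a} : Set Y)) : Nat.card P ≤ n := by
  classical
  haveI : Fact (Nat.Prime 2) := ⟨Nat.prime_two⟩
  obtain ⟨i, hi⟩ : ∃ i, orderOf (τ a) ∣ 2 ^ i := by
    obtain ⟨j, hj⟩ := IsPGroup.iff_orderOf.1 U.isPGroup' ⟨τ a, F.mem a ha⟩
    rw [← Subgroup.orderOf_coe] at hj
    exact ⟨j, dvd_of_eq hj⟩
  have hP2 : IsPGroup 2 (P ⊔ zpowers (τ a) : Subgroup Y) :=
    IsPGroup.to_sup_of_normal_left' hP (Loc.isPGroup_zpowers hi) (zpowers_le.2 (centralizer_le_normalizer _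
      (mem_centralizer_iff.2 fun p hp => mem_centralizer_singleton_iff.1 (hPc hp))))
  obtain ⟨k, hk⟩ := F.exists_conj_le hP2
  obtain ⟨b, hb, hbe⟩ := F.surj (k * τ a * k⁻¹) (hk ⟨τ a, mem_sup_right (mem_zpowers _), rfl⟩)
  refine le_trans ?_ (hn b (hL k b hb hbe.symm))
  have e : Nat.card (P.map (MulAut.conj k).toMonoidHom) = Nat.card P := card_map_of_injective (MulAut.conj k).injective
  rw [← e]
  refine F.card_le ?_
  rintro _ ⟨p, hp, rfl⟩
  obtain ⟨c, hc, hce⟩ := F.surj_rep (hk ⟨p, mem_sup_left hp, rfl⟩)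
  refine ⟨c, List.mem_filter.2 ⟨hc, (F.comm hb (repL_count.2.2 c hc)).1 ?_⟩, hce⟩
  rw [hbe, hce]
  show k * τ a * k⁻¹ * (k * p * k⁻¹) = k * p * k⁻¹ * (k * τ a * k⁻¹)
  calc k * τ a * k⁻¹ * (k * p * k⁻¹) = k * (τ a * p) * k⁻¹ := by group
    _ = k * (p * τ a) * k⁻¹ := by rw [mem_centralizer_singleton_iff.1 (hPc hp)]
    _ = _ := by group

/-- The centralizer in `U` of an involution outside `E`. -/
theorem max_v {f : ℕ} (hf : f ∈ vL) : ∀ P : Subgroup Y, IsPGroup 2 P → P ≤ centralizer ({τ f} : Set Y) →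
    Nat.card P ≤ Nat.card ((U : Subgroup Y) ⊓ centralizer ({τ f} : Set Y) : Subgroup Y) := fun P hP hPc => by
  refine le_trans (F.card_two_cent (types_sub.2.2 f hf).2.1 (L := vL) (fun g b hb e => F.vtype hf hb e)
    (fun b hb => (cent_v b hb).le) hP hPc) ?_
  rw [← cent_v f hf]
  exact F.card_cent (types_sub.2.2 f hf).2.1

/-- A singular involution of the centralizer of `f` in `U` is `x`. -/
theorem sing_cent_v {f : ℕ} (hf : f ∈ vL) {g : Y} (hg : g * τ 15 * g⁻¹ ∈ (U : Subgroup Y))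
    (hc : g * τ 15 * g⁻¹ * τ f = τ f * (g * τ 15 * g⁻¹)) : g * τ 15 * g⁻¹ = τ 15 := by
  obtain ⟨b, hb, hbe⟩ := F.surj _ hg
  have hs := F.sing 15 small_facts.2.2.2.2.2.2.2.2.2.2.1 g b hb hbe.symm
  have hcm : cm f b = true := (F.comm (types_sub.2.2 f hf).2.1 hb).1 (by rw [hbe, hc])
  rcases cent_v_sing f hf b hs hcm with rfl | rfl
  · exact hbe.symm
  · rw [← hbe, ← List.mem_singleton.1 x_facts.2.2.2.2.2.2.2.2.2, F.mul_eq 16 sixteen_central.1 15 x_facts.1, F.z_one,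
      one_mul]

/-- The centralizer of an involution outside `E` has a normal 2-complement. -/
theorem cent_v_odd {f : ℕ} (hf : f ∈ vL) {g : Y} (hg : g * τ f = τ f * g) (hgo : Odd (orderOf g)) :
    g ∈ Loc.core (τ f) := by
  classical
  haveI : Fact (Nat.Prime 2) := ⟨Nat.prime_two⟩
  obtain ⟨-, hfs, hf2, hf0, hf16⟩ := types_sub.2.2 f hf
  have hxf : τ 15 * τ f = τ f * τ 15 := ((F.comm hfs x_facts.1).2 (vL_x_facts.1 f hf)).symm
  set H := centralizer ({τ f} : Set Y)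
  set T := (U : Subgroup Y) ⊓ H
  have hTp : IsPGroup 2 T := U.isPGroup'.to_le inf_le_left
  -- `x` is isolated
  have hiso : Cfsg.IsIsolatedInvolution (⟨τ 15, mem_centralizer_singleton_iff.2 hxf⟩ : H) := by
    refine ⟨by rw [← Subgroup.orderOf_coe]; exact F.order_x, fun k hk => ?_⟩
    set x' := (k : Y) * τ 15 * (k : Y)⁻¹
    have hx'H : x' ∈ H := by
      refine mul_mem (mul_mem k.2 ?_) (inv_mem k.2)
      exact mem_centralizer_singleton_iff.2 hxf
    have hcom : τ 15 * x' = x' * τ 15 := congrArg Subtype.val hk.eq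
    have hp : IsPGroup 2 (zpowers (τ 15) ⊔ zpowers x' : Subgroup Y) :=
      IsPGroup.to_sup_of_normal_left' (Loc.isPGroup_zpowers (i := 1) (by rw [F.order_x]; norm_num))
        (Loc.isPGroup_zpowers (i := 1) (by rw [Involutions.Basic.orderOf_conj, F.order_x]; norm_num))
        (zpowers_le.2 (centralizer_le_normalizer _ (mem_centralizer_iff.2 fun p hp => by
          obtain ⟨j, rfl⟩ := hp
          exact (Commute.zpow_left hcom j).eq)))
    obtain ⟨m, hm, hmT⟩ := Loc.exists_conj_into hTp inf_le_right (F.max_v hf) hp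
      (sup_le (zpowers_le.2 (mem_centralizer_singleton_iff.2 hxf)) (zpowers_le.2 hx'H))
    have h1 := hmT _ (mem_sup_left (mem_zpowers (τ 15)))
    have h2 := hmT _ (mem_sup_right (mem_zpowers x'))
    have e1 := F.sing_cent_v hf h1.1 (mem_centralizer_singleton_iff.1 h1.2)
    have h2' : m * k * τ 15 * (m * k)⁻¹ ∈ T := by
      rwa [show m * k * τ 15 * (m * k)⁻¹ = m * x' * m⁻¹ by simp only [x']; group]
    have e2 := F.sing_cent_v hf h2'.1 (mem_centralizer_singleton_iff.1 h2'.2)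
    refine Subtype.ext ?_
    show x' = τ 15
    have e3 : m * x' * m⁻¹ = m * τ 15 * m⁻¹ := by
      rw [e1, show m * x' * m⁻¹ = m * k * τ 15 * (m * k)⁻¹ by simp only [x']; group, e2]
    exact mul_left_cancel (mul_right_cancel e3)
  have hgH : g ∈ H := mem_centralizer_singleton_iff.2 hg
  set D := Loc.core (τ f)
  have hDodd := Loc.core_odd (τ f)
  have hXp : IsPGroup 2 (zpowers (τ 15)) := Loc.isPGroup_zpowers (i := 1) (by rw [F.order_x]; norm_num)
  have hXD : zpowers (τ 15) ≤ normalizer (D : Set Y) := zpowers_le.2 (Loc.core_normalizer hxf)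
  -- the centralizer of `f` is the core times the centralizer of `x`
  have hfr : ∀ k : Y, k * τ f = τ f * k → ∃ d ∈ D, d * k * τ 15 = τ 15 * (d * k) ∧ d * k * τ f = τ f * (d * k) := by
    intro k hk
    have hkH : k ∈ H := mem_centralizer_singleton_iff.2 hk
    have hz := ZStar.Main.commutator_mem_oddCore hiso ⟨k, hkH⟩
    have hz' : τ 15 * k * (τ 15)⁻¹ * k⁻¹ ∈ D := ⟨_, hz, rfl⟩
    have hkx : k * τ 15 * k⁻¹ ∈ zpowers (τ 15) ⊔ D := by
      have := mul_mem (mem_sup_left (T := D) (mem_zpowers (τ 15)))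
        (mem_sup_right (S := zpowers (τ 15)) (inv_mem hz'))
      have h4 : τ 15 * (τ 15 * k * (τ 15)⁻¹ * k⁻¹)⁻¹ = τ 15 * k * τ 15 * k⁻¹ * (τ 15)⁻¹ := by group
      rw [h4] at this
      have h5 := mul_mem (mul_mem (inv_mem (mem_sup_left (T := D) (mem_zpowers (τ 15)))) this)
        (mem_sup_left (T := D) (mem_zpowers (τ 15)))
      rwa [show (τ 15)⁻¹ * (τ 15 * k * τ 15 * k⁻¹ * (τ 15)⁻¹) * τ 15 = k * τ 15 * k⁻¹ by group] at h5
    obtain ⟨d, hd, hdn⟩ := Loc.exists_mul_normalizer (g := k) hXp hDodd hXD fun t ht => by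
      obtain ⟨j, rfl⟩ := ht
      show k * τ 15 ^ j * k⁻¹ ∈ zpowers (τ 15) ⊔ D
      rw [← conj_zpow]
      exact zpow_mem hkx j
    have hdf : d * k * τ f = τ f * (d * k) :=
      mem_centralizer_singleton_iff.1 (mul_mem (Loc.core_le _ hd) hkH)
    refine ⟨d, hd, ?_, hdf⟩
    obtain ⟨j, hj⟩ := (mem_normalizer_iff.1 hdn _).1 (mem_zpowers (τ 15))
    have hj' : τ 15 ^ j = d * k * τ 15 * (d * k)⁻¹ := hj
    rcases Int.even_or_odd j with ⟨m, hm⟩ | ⟨m, hm⟩
    · exfalso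
      rw [hm, ← two_mul, zpow_mul, zpow_two, Involutions.Basic.inv_sq_one F.order_x, one_zpow] at hj'
      exact Involutions.Basic.ne_one F.order_x (conj_eq_one_iff.1 hj'.symm)
    · rw [hm, zpow_add_one, zpow_mul, zpow_two, Involutions.Basic.inv_sq_one F.order_x, one_zpow, one_mul] at hj'
      exact (mul_inv_eq_iff_eq_mul.1 hj'.symm)
  obtain ⟨d, hd, hkx, hkf⟩ := hfr g hg
  set k := d * g
  obtain ⟨p, q, hp, hq, hpq, ⟨i, hi⟩, hqo⟩ := Loc.exists_parts k
  set Hx := centralizer ({τ 15} : Set Y)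
  have hzH : zpowers k ≤ H ⊓ Hx :=
    zpowers_le.2 ⟨mem_centralizer_singleton_iff.2 hkf, mem_centralizer_singleton_iff.2 hkx⟩
  have hqf : q * τ f = τ f * q := mem_centralizer_singleton_iff.1 (hzH hq).1
  have hqx : q * τ 15 = τ 15 * q := mem_centralizer_singleton_iff.1 (hzH hq).2
  have hN := F.enorm_x
  have hqD : q ∈ Loc.core (τ 15) := by
    refine F.rigid hN (F.le_normalizer_E (F.mem f hfs)) ((F.sq_one hfs).2 hf2) hxf.symm hqx hqf hqo
      fun b hb hbf => ?_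
    obtain ⟨a, ha, rfl⟩ := F.mem_E.1 hb
    have has := (qL_closed a ha).1
    by_cases haz : a ∈ [0, 16, 15, 31]
    · refine ⟨hqx, ?_⟩
      rw [(F.zpowers_x_fix hqx (F.mem_zpowers_x haz)).1, mul_inv_cancel]
      exact one_mem _
    have hap : a ∈ pL := by
      rcases qL_cases a ha with h | h | h
      · exact absurd (by rcases List.mem_pair.1 h with rfl | rfl <;> simp : a ∈ [0, 16, 15, 31]) haz
      · exfalso
        rcases cent_v_sing f hf a h ((F.comm hfs has).1 hbf.symm) with rfl | rfl <;> simp at haz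
      · exact h
    obtain ⟨e1, he1, d1, hd1, he⟩ := Loc.mem_sup_iff (F.E_le_normalizer_core hN) (hN.2 q hqx _ hb)
    obtain ⟨a', ha', rfl⟩ := F.mem_E.1 he1
    have has' := (qL_closed a' ha').1
    -- the image commutes with `f`
    have ha'f : τ a' * τ f = τ f * τ a' := by
      have h1 : τ f * (q * τ a * q⁻¹) = q * τ a * q⁻¹ * τ f := by
        have hqi : q⁻¹ * τ f = τ f * q⁻¹ := by
          rw [inv_mul_eq_iff_eq_mul, ← mul_assoc, hqf, mul_inv_cancel_right]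
        calc τ f * (q * τ a * q⁻¹) = (τ f * q) * τ a * q⁻¹ := by group
          _ = q * (τ f * τ a) * q⁻¹ := by rw [← hqf]; group
          _ = q * (τ a * τ f) * q⁻¹ := by rw [hbf]
          _ = q * τ a * (τ f * q⁻¹) := by group
          _ = q * τ a * (q⁻¹ * τ f) := by rw [hqi]
          _ = _ := by group
      rw [← he] at h1
      have hd2 : τ f * d1 * (τ f)⁻¹ ∈ Loc.core (τ 15) := Loc.core_conj_mem hxf.symm hd1
      have h2 : (τ a')⁻¹ * (τ f * τ a' * (τ f)⁻¹) = d1 * (τ f * d1 * (τ f)⁻¹)⁻¹ := by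
        have h3 : τ f * (τ a' * d1) * (τ f)⁻¹ = τ a' * d1 := by rw [h1, mul_inv_cancel_right]
        calc (τ a')⁻¹ * (τ f * τ a' * (τ f)⁻¹) = (τ a')⁻¹ * (τ f * (τ a' * d1) * (τ f)⁻¹) * (τ f * d1 * (τ f)⁻¹)⁻¹ := by
              group
          _ = _ := by rw [h3]; group
      have h4 := F.E_inf_core ((uE τ).mul_mem ((uE τ).inv_mem (mem_sub_of_mem ha'))
        ((mem_normalizer_iff.1 (F.le_normalizer_E (F.mem f hfs)) _).1 (mem_sub_of_mem ha')))
        (h2 ▸ mul_mem hd1 (inv_mem hd2))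
      have h5 := inv_mul_eq_one.1 h4
      exact mul_inv_eq_iff_eq_mul.1 h5.symm |>.symm
    -- the type is preserved
    obtain ⟨d2, hd2, hn2⟩ := F.centX hqx
    have hNE : d2 * q ∈ normalizer (uE τ : Set Y) := F.mem_normalizer_of_le fun t ht =>
      (mem_normalizer_iff.1 hn2 t).1 (F.E_le ht)
    obtain ⟨c, hc, hce⟩ := F.mem_E.1 ((mem_normalizer_iff.1 hNE _).1 (mem_sub_of_mem ha : τ a ∈ uE τ))
    have hca : τ c = τ a' := by
      have h6 : (τ a')⁻¹ * τ c ∈ Loc.core (τ 15) := by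
        rw [hce, show (τ a')⁻¹ * (d2 * q * τ a * (d2 * q)⁻¹) = (τ a')⁻¹ * d2 * (q * τ a * q⁻¹) * d2⁻¹ by group, ← he,
          show (τ a')⁻¹ * d2 * (τ a' * d1) * d2⁻¹ = (τ a')⁻¹ * d2 * τ a' * (d1 * d2⁻¹) by group]
        refine mul_mem ?_ (mul_mem hd1 (inv_mem hd2))
        have := (mem_normalizer_iff.1 (inv_mem (F.E_le_normalizer_core hN (mem_sub_of_mem ha'))) d2).1 hd2
        rwa [inv_inv] at this
      exact (inv_mul_eq_one.1 (F.E_inf_core (mul_mem (inv_mem (mem_sub_of_mem ha'))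
        (mem_sub_of_mem hc)) h6)).symm
    have hcp : a' ∈ pL := by
      refine F.pair a hap (d2 * q) a' has' ?_
      rw [← hca, hce]
    have hz := cent_v_pairs f hf a hap ((F.comm hfs has).1 hbf.symm) a' hcp ((F.comm hfs has').1 ha'f.symm)
    refine Loc.fixMod_of_sq hqo ?_
    set s := τ (mul a a')
    have hsX : s ∈ zpowers (τ 15) := F.mem_zpowers_x hz
    obtain ⟨hs1, hs2⟩ := F.zpowers_x_fix hqx hsX
    have ha's : τ a' = τ a * s := by
      simp only [s]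
      rw [F.mul_eq a has a' has', ← mul_assoc, (F.sq_one has).2 (types_sub.2.1 a hap).2.2.1, one_mul]
    refine ⟨by rw [mul_assoc, hqx, ← mul_assoc, hqx, mul_assoc], ?_⟩
    have hq2 : q * q * τ a * (q * q)⁻¹ * (τ a)⁻¹ = τ a * (s * d1 * s⁻¹) * (τ a)⁻¹ * (τ a * (s * s) * (τ a)⁻¹) *
        (τ a * (q * d1 * q⁻¹) * (τ a)⁻¹) := by
      calc q * q * τ a * (q * q)⁻¹ * (τ a)⁻¹ = q * (q * τ a * q⁻¹) * q⁻¹ * (τ a)⁻¹ := by group
        _ = q * (τ a * s * d1) * q⁻¹ * (τ a)⁻¹ := by rw [← he, ha's]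
        _ = q * τ a * q⁻¹ * (q * s * q⁻¹) * (q * d1 * q⁻¹) * (τ a)⁻¹ := by group
        _ = τ a * s * d1 * s * (q * d1 * q⁻¹) * (τ a)⁻¹ := by rw [hs1, ← he, ha's]
        _ = _ := by group
    rw [hq2, hs2, mul_one, mul_inv_cancel, mul_one]
    have hEn := F.E_le_normalizer_core hN
    have hsE : s ∈ uE τ := zpowers_le.2 (mem_sub_of_mem one_rL.2.2.2.2.2.2) hsX
    exact mul_mem ((mem_normalizer_iff.1 (hEn (mem_sub_of_mem ha)) _).1 ((mem_normalizer_iff.1 (hEn hsE) _).1 hd1))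
      ((mem_normalizer_iff.1 (hEn (mem_sub_of_mem ha)) _).1 (Loc.core_conj_mem hqx hd1))
  have hD1 : Loc.core (τ 15) ⊓ H ≤ D := by
    set D1 := Loc.core (τ 15) ⊓ H
    refine le_trans le_sup_left (Loc.le_core (X := D1 ⊔ D) (sup_le inf_le_right (Loc.core_le _))
      (Loc.odd_sup ((Loc.core_odd (τ 15)).of_dvd_nat (card_dvd_of_le inf_le_left)) hDodd
        fun t ht => Loc.core_normalizer (mem_centralizer_singleton_iff.1 ht.2)) ?_)
    intro h hh
    obtain ⟨e, he, hex, hef⟩ := hfr h hh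
    have heH : e * h ∈ H := mem_centralizer_singleton_iff.2 hef
    have hN1 : e * h ∈ normalizer (D1 : Set Y) := by
      refine mem_normalizer_iff.2 fun t => ⟨fun ht => ⟨Loc.core_conj_mem hex ht.1,
        H.mul_mem (H.mul_mem heH ht.2) (H.inv_mem heH)⟩, fun ht => ?_⟩
      have h1 : (e * h)⁻¹ * τ 15 = τ 15 * (e * h)⁻¹ := by
        rw [inv_mul_eq_iff_eq_mul, ← mul_assoc, hex, mul_inv_cancel_right]
      have h2 := Loc.core_conj_mem h1 ht.1
      have h3 := H.mul_mem (H.mul_mem (H.inv_mem heH) ht.2) heH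
      rw [show (e * h)⁻¹ * (e * h * t * (e * h)⁻¹) * ((e * h)⁻¹)⁻¹ = t by group] at h2
      rw [show (e * h)⁻¹ * (e * h * t * (e * h)⁻¹) * (e * h) = t by group] at h3
      exact ⟨h2, h3⟩
    have hN' : e * h ∈ normalizer ((D1 ⊔ D : Subgroup Y) : Set Y) :=
      SolvableSignalizer.le_normalizer_sup (H := zpowers (e * h)) (zpowers_le.2 hN1)
        (zpowers_le.2 (Loc.core_normalizer hef)) (mem_zpowers _)
    have he' : e ∈ normalizer ((D1 ⊔ D : Subgroup Y) : Set Y) := le_normalizer (mem_sup_right he)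
    have hh' : h ∈ normalizer ((D1 ⊔ D : Subgroup Y) : Set Y) := by simpa using mul_mem (inv_mem he') hN'
    exact fun t ht => (mem_normalizer_iff.1 hh' t).1 ht
  have hqDf : q ∈ D := hD1 ⟨hqD, (hzH hq).1⟩
  refine Loc.odd_mem_of_sup (Loc.isPGroup_zpowers hi) hDodd
    (zpowers_le.2 (Loc.core_normalizer (mem_centralizer_singleton_iff.1 (hzH hp).1))) ?_ hgo
  have h1 : k ∈ zpowers p ⊔ D := by
    rw [← hpq]
    exact mul_mem (mem_sup_left (mem_zpowers p)) (mem_sup_right hqDf)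
  have h2 := mul_mem (mem_sup_right (S := zpowers p) (inv_mem hd)) h1
  rwa [show d⁻¹ * k = g by simp only [k]; group] at h2

/-- The centralizer of an involution outside `E` is its core times its centralizer in `U`. -/
theorem cent_v_le {f : ℕ} (hf : f ∈ vL) :
    centralizer ({τ f} : Set Y) ≤ ((U : Subgroup Y) ⊓ centralizer ({τ f} : Set Y)) ⊔ Loc.core (τ f) :=
  Loc.centralizer_le_sup _ (U.isPGroup'.to_le inf_le_left) inf_le_right (fun _ hg hgo => F.cent_v_odd hf hg hgo)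
    (F.max_v hf)

end Hyp

end Cfsg.Agent.J2Type
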