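import Mathlib
import Cfsg.Agent.Lib.J2Type.Syl
import Cfsg.Agent.Lib.Involutions.Basic

/-!
Sylow subgroups of the centralizers of the central four group, and the elementary subgroups of order 16.
-/

set_option autoImplicit false
set_option linter.style.haveILetI false
set_option linter.unusedSectionVars false

namespace Cfsg.Agent.J2Type

open Subgroup
open Cfsg.Agent.J2Uniq (mul inv cj)

universe u

variable {G : Type u} [Group G]

/-- The first elementary subgroup of order 16. -/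
def subA (ρ : ℕ → G) : Subgroup G := sub ρ aL

/-- The second elementary subgroup of order 16. -/
def subB (ρ : ℕ → G) : Subgroup G := sub ρ bL

/-- The centralizer of `x` in the Sylow subgroup. -/
def subR (ρ : ℕ → G) : Subgroup G := sub ρ rL

/-- The centralizer of `z` and `x`. -/
def centZX (ρ : ℕ → G) : Subgroup G := centralizer ({ρ 16} : Set G) ⊓ centralizer ({ρ 15} : Set G)

theorem zero_mem_lists : 0 ∈ aL ∧ 0 ∈ bL ∧ 0 ∈ rL ∧ 0 ∈ zL ∧ rL.Nodup ∧ aL.length = 16 ∧ bL.length = 16 ∧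
    15 ∈ rL ∧ 16 ∈ rL ∧ 31 ∈ sL ∧ 15 ∈ sL ∧ mul 16 15 = 31 ∧ mul 15 15 = 0 ∧ mul 16 16 = 0 := by decide +kernel

namespace Syl

variable {S : Subgroup G} {ρ : ℕ → G} (F : Syl S ρ)

include F

theorem mem_A {g : G} : g ∈ subA ρ ↔ ∃ a ∈ aL, ρ a = g :=
  F.mem_sub zero_mem_lists.1 (fun a ha => (aL_sub a ha).2.1) (fun a ha => (aL_sub a ha).2.2.2.1.symm ▸ ha)
    fun a ha b hb => ((aL_sub a ha).2.2.2.2 b hb).1

theorem mem_B {g : G} : g ∈ subB ρ ↔ ∃ a ∈ bL, ρ a = g :=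
  F.mem_sub zero_mem_lists.2.1 (fun a ha => (bL_sub a ha).2.1) (fun a ha => (bL_sub a ha).2.2.2.1.symm ▸ ha)
    fun a ha b hb => ((bL_sub a ha).2.2.2.2 b hb).1

theorem mem_R {g : G} : g ∈ subR ρ ↔ ∃ a ∈ rL, ρ a = g :=
  F.mem_sub zero_mem_lists.2.2.1 (fun a ha => (rL_closed a ha).1) (fun a ha => (rL_closed a ha).2.1)
    fun a ha b hb => (rL_closed a ha).2.2 b hb

theorem card_A : Nat.card (subA ρ) = 16 :=
  (F.card_sub zero_mem_lists.1 (fun a ha => (aL_sub a ha).2.1) (fun a ha => (aL_sub a ha).2.2.2.1.symm ▸ ha)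
    (fun a ha b hb => ((aL_sub a ha).2.2.2.2 b hb).1) sL_count.2.2.2.1).trans zero_mem_lists.2.2.2.2.2.1

theorem card_B : Nat.card (subB ρ) = 16 :=
  (F.card_sub zero_mem_lists.2.1 (fun a ha => (bL_sub a ha).2.1) (fun a ha => (bL_sub a ha).2.2.2.1.symm ▸ ha)
    (fun a ha b hb => ((bL_sub a ha).2.2.2.2 b hb).1) sL_count.2.2.2.2).trans zero_mem_lists.2.2.2.2.2.2.1

theorem card_R : Nat.card (subR ρ) = 64 :=
  (F.card_sub zero_mem_lists.2.2.1 (fun a ha => (rL_closed a ha).1) (fun a ha => (rL_closed a ha).2.1)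
    (fun a ha b hb => (rL_closed a ha).2.2 b hb) zero_mem_lists.2.2.2.2.1).trans sL_count.2.2.1

theorem A_le_R : subA ρ ≤ subR ρ := fun g hg => by
  obtain ⟨a, ha, rfl⟩ := F.mem_A.1 hg
  exact mem_sub_of_mem (aL_sub a ha).1

theorem B_le_R : subB ρ ≤ subR ρ := fun g hg => by
  obtain ⟨a, ha, rfl⟩ := F.mem_B.1 hg
  exact mem_sub_of_mem (bL_sub a ha).1

theorem R_le : subR ρ ≤ S := fun g hg => by
  obtain ⟨a, ha, rfl⟩ := F.mem_R.1 hg
  exact F.mem a (rL_closed a ha).1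

theorem A_le : subA ρ ≤ S := (F.A_le_R).trans F.R_le

theorem B_le : subB ρ ≤ S := (F.B_le_R).trans F.R_le

theorem z_mem : ρ 16 ∈ S := F.mem 16 sixteen_central.1

theorem z_comm {s : G} (hs : s ∈ S) : s * ρ 16 = ρ 16 * s := by
  obtain ⟨a, ha, rfl⟩ := F.surj s hs
  exact ((F.comm sixteen_central.1 ha).2 (sixteen_central.2 a ha)).symm

theorem le_centralizer_z : S ≤ centralizer ({ρ 16} : Set G) := fun _ hs =>
  mem_centralizer_singleton_iff.2 (F.z_comm hs)

theorem order_z : orderOf (ρ 16) = 2 :=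
  F.orderOf_two sixteen_central.1 zero_mem_lists.2.2.2.2.2.2.2.2.2.2.2.2.2 (by norm_num)

theorem order_x : orderOf (ρ 15) = 2 :=
  F.orderOf_two zero_mem_lists.2.2.2.2.2.2.2.2.2.2.1 zero_mem_lists.2.2.2.2.2.2.2.2.2.2.2.2.1 (by norm_num)

theorem x_ne_z : ρ 15 ≠ ρ 16 := fun e =>
  absurd (F.inj 15 zero_mem_lists.2.2.2.2.2.2.2.2.2.2.1 16 sixteen_central.1 e) (by norm_num)

theorem code_xz : ρ 31 = ρ 16 * ρ 15 := by
  rw [← F.mul_eq 16 sixteen_central.1 15 zero_mem_lists.2.2.2.2.2.2.2.2.2.2.1,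
    zero_mem_lists.2.2.2.2.2.2.2.2.2.2.2.1]

theorem R_le_centZX : subR ρ ≤ centZX ρ := fun g hg => by
  obtain ⟨a, ha, rfl⟩ := F.mem_R.1 hg
  refine ⟨F.le_centralizer_z (F.mem a (rL_closed a ha).1), mem_centralizer_singleton_iff.2 ?_⟩
  exact ((F.comm zero_mem_lists.2.2.2.2.2.2.2.2.2.2.1 (rL_closed a ha).1).2
    ((cent_zL.1 a (rL_closed a ha).1).2 ha)).symm

/-- An elementary subgroup of order 16 of the Sylow subgroup is one of two. -/
theorem sixteen {H : Subgroup G} (hH : H ≤ S) (hc : Nat.card H = 16) (hsq : ∀ h ∈ H, h * h = 1) :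
    H = subA ρ ∨ H = subB ρ := by
  classical
  haveI : Finite H := Nat.finite_of_card_ne_zero (by omega)
  have hcomm : ∀ a ∈ H, ∀ b ∈ H, a * b = b * a := by
    intro a ha b hb
    have e1 : ∀ c ∈ H, c⁻¹ = c := fun c hcH => inv_eq_of_mul_eq_one_right (hsq c hcH)
    rw [← e1 (a * b) (mul_mem ha hb), mul_inv_rev, e1 a ha, e1 b hb]
  have key : ∃ a ∈ sL, ρ a ∈ H ∧ ((a ∈ aL ∧ a ∉ zL) ∨ (a ∈ bL ∧ a ∉ zL)) := by
    by_contra hno
    push Not at hno
    have hsub : ∀ h : H, ∃ a ∈ (zL ++ yL).toFinset, ρ a = (h : G) := by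
      intro h
      obtain ⟨a, ha, e⟩ := F.surj h (hH h.2)
      refine ⟨a, List.mem_toFinset.2 (List.mem_append.2 ?_), e⟩
      have hsq' : mul a a = 0 := (F.sq_one ha).1 (by rw [e]; exact hsq h h.2)
      obtain ⟨h1, h2⟩ := hno a ha (e.symm ▸ h.2)
      rcases invs_ok a ha hsq' with e1 | e1 | e1 | e1
      · exact Or.inl e1
      · exact Or.inr e1
      · exact absurd (h1 e1.1) e1.2
      · exact absurd (h2 e1.1) e1.2
    choose c hc' hce using hsub
    have hinj : Function.Injective fun h : H => (⟨c h, hc' h⟩ : (zL ++ yL).toFinset) := fun a b e =>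
      Subtype.ext (by
        have e1 : c a = c b := congrArg Subtype.val e
        rw [← hce a, ← hce b, e1])
    have h1 := Nat.card_le_card_of_injective _ hinj
    rw [hc, Nat.card_eq_finsetCard] at h1
    exact absurd h1 (by decide +kernel)
  obtain ⟨a, ha, haH, hcase⟩ := key
  have fin : ∀ (L : List ℕ) (K : Subgroup G), (∀ b ∈ sL, mul a b = mul b a → b ∈ L) → (∀ b ∈ L, ρ b ∈ K) →
      Nat.card K = 16 → H = K := by
    intro L K hL hK hK16
    haveI : Finite K := Nat.finite_of_card_ne_zero (by omega)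
    refine eq_of_le_of_card_ge (fun h hh => ?_) (by rw [hK16, hc])
    obtain ⟨b, hb, rfl⟩ := F.surj h (hH hh)
    exact hK b (hL b hb ((F.comm ha hb).1 (hcomm _ haH _ hh)))
  rcases hcase with ⟨h1, h2⟩ | ⟨h1, h2⟩
  · exact Or.inl (fin aL _ (cent_aL a h1 h2) (fun b hb => mem_sub_of_mem hb) F.card_A)
  · exact Or.inr (fin bL _ (cent_bL a h1 h2) (fun b hb => mem_sub_of_mem hb) F.card_B)

theorem A_sq {g : G} (hg : g ∈ subA ρ) : g * g = 1 := by
  obtain ⟨a, ha, rfl⟩ := F.mem_A.1 hg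
  exact (F.sq_one (aL_sub a ha).2.1).2 (aL_sub a ha).2.2.1

theorem B_sq {g : G} (hg : g ∈ subB ρ) : g * g = 1 := by
  obtain ⟨a, ha, rfl⟩ := F.mem_B.1 hg
  exact (F.sq_one (bL_sub a ha).2.1).2 (bL_sub a ha).2.2.1

theorem A_comm {a b : G} (ha : a ∈ subA ρ) (hb : b ∈ subA ρ) : a * b = b * a := by
  obtain ⟨a, ha', rfl⟩ := F.mem_A.1 ha
  obtain ⟨b, hb', rfl⟩ := F.mem_A.1 hb
  exact (F.comm (aL_sub a ha').2.1 (aL_sub b hb').2.1).2 ((aL_sub a ha').2.2.2.2 b hb').2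

theorem conj_x_outside {a : ℕ} (ha : a ∈ sL) (h : a ∉ rL) : ρ a * ρ 15 * (ρ a)⁻¹ = ρ 31 := by
  rw [← F.cj_eq ha zero_mem_lists.2.2.2.2.2.2.2.2.2.2.1, (outside_rL a ha h).1]

theorem one_conj_B {g : G} (hg : g ∈ subB ρ) : ρ 1 * g * (ρ 1)⁻¹ ∈ subA ρ := by
  obtain ⟨a, ha, rfl⟩ := F.mem_B.1 hg
  rw [← F.cj_eq one_facts.1 (bL_sub a ha).2.1]
  exact mem_sub_of_mem (one_facts.2.2.2.1 a ha)

end Syl

/-- A 2-subgroup is conjugate into a Sylow subgroup. -/
theorem exists_conj_le [Finite G] (S : Sylow 2 G) {P : Subgroup G} (hP : IsPGroup 2 P) :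
    ∃ k : G, P.map (MulAut.conj k).toMonoidHom ≤ (S : Subgroup G) := by
  obtain ⟨Q, hQ⟩ := hP.exists_le_sylow
  obtain ⟨k, hk⟩ := MulAction.exists_smul_eq G Q S
  refine ⟨k, (Subgroup.map_mono hQ).trans (le_of_eq ?_)⟩
  rw [← hk, Sylow.coe_subgroup_smul]
  rfl

/-- An element of 2-power order centralizing a Sylow 2-subgroup lies in it. -/
theorem mem_of_centralizes [Finite G] (S : Sylow 2 G) {a : G} (ha : orderOf a = 2)
    (hc : ∀ s ∈ (S : Subgroup G), s * a = a * s) : a ∈ (S : Subgroup G) := by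
  haveI : Fact (Nat.Prime 2) := ⟨Nat.prime_two⟩
  have h1 : IsPGroup 2 (zpowers a) := IsPGroup.of_card (n := 1) (by rw [Nat.card_zpowers, ha, pow_one])
  have hn : zpowers a ≤ normalizer ((S : Subgroup G) : Set G) := zpowers_le.2
    (centralizer_le_normalizer _ (mem_centralizer_iff.2 fun s hs => hc s hs))
  have h2 : IsPGroup 2 ((S : Subgroup G) ⊔ zpowers a : Subgroup G) := S.isPGroup'.to_sup_of_normal_left' h1 hn
  exact S.is_maximal' h2 le_sup_left ▸ mem_sup_right (mem_zpowers a)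

namespace Syl

variable [Finite G] {S : Sylow 2 G} {ρ : ℕ → G} (F : Syl (S : Subgroup G) ρ)

include F

/-- Two involutions centralizing a subgroup of order 128 are equal. -/
theorem two_central {P : Subgroup G} (hP : Nat.card P = 128) {a b : G} (ha : orderOf a = 2) (hb : orderOf b = 2)
    (hac : ∀ p ∈ P, p * a = a * p) (hbc : ∀ p ∈ P, p * b = b * p) : a = b := by
  obtain ⟨k, hk⟩ := exists_conj_le S (IsPGroup.of_card (n := 7) (by rw [hP]; norm_num) : IsPGroup 2 P)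
  have heq : P.map (MulAut.conj k).toMonoidHom = (S : Subgroup G) := eq_of_le_of_card_ge hk (by
    rw [F.card_eq, card_map_of_injective (MulAut.conj k).injective, hP])
  have key : ∀ c : G, orderOf c = 2 → (∀ p ∈ P, p * c = c * p) → k * c * k⁻¹ = ρ 16 := by
    intro c hc hcc
    have hcomm : ∀ s ∈ (S : Subgroup G), s * (k * c * k⁻¹) = k * c * k⁻¹ * s := by
      intro s hs
      rw [← heq] at hs
      obtain ⟨p, hp, rfl⟩ := hs
      show k * p * k⁻¹ * (k * c * k⁻¹) = k * c * k⁻¹ * (k * p * k⁻¹)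
      calc k * p * k⁻¹ * (k * c * k⁻¹) = k * (p * c) * k⁻¹ := by group
        _ = k * (c * p) * k⁻¹ := by rw [hcc p hp]
        _ = _ := by group
    have ho : orderOf (k * c * k⁻¹) = 2 := (Involutions.Basic.orderOf_conj k c).trans hc
    exact F.eq_z ho (mem_of_centralizes S ho hcomm) hcomm
  exact mul_left_cancel (mul_right_cancel ((key a ha hac).trans (key b hb hbc).symm))

/-- A 2-subgroup of the centralizer of `⟨z, x⟩` has order at most 64. -/
theorem card_le_centZX {P : Subgroup G} (hP : IsPGroup 2 P) (h : P ≤ centZX ρ) : Nat.card P ≤ 64 := by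
  haveI : Fact (Nat.Prime 2) := ⟨Nat.prime_two⟩
  obtain ⟨k, hk⟩ := exists_conj_le S hP
  have hd := card_dvd_of_le hk
  rw [card_map_of_injective (MulAut.conj k).injective, F.card_eq, show (128 : ℕ) = 2 ^ 7 by norm_num] at hd
  obtain ⟨i, hi, e⟩ := (Nat.dvd_prime_pow Nat.prime_two).1 hd
  rcases Nat.lt_or_ge i 7 with h7 | h7
  · rw [e]
    exact le_trans (Nat.pow_le_pow_right (by norm_num) (Nat.lt_succ_iff.1 h7)) (by norm_num)
  · exfalso
    refine F.x_ne_z (F.two_central (P := P) (by rw [e, show i = 7 by omega]; norm_num) F.order_x F.order_z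
      (fun p hp => mem_centralizer_singleton_iff.1 (h hp).2) (fun p hp => mem_centralizer_singleton_iff.1 (h hp).1))

/-- A 2-subgroup of the centralizer of `⟨z, x⟩` is conjugate there into `R`. -/
theorem conj_into_R {P : Subgroup G} (hP : IsPGroup 2 P) (h : P ≤ centZX ρ) :
    ∃ k ∈ centZX ρ, ∀ p ∈ P, k * p * k⁻¹ ∈ subR ρ := by
  classical
  haveI : Fact (Nat.Prime 2) := ⟨Nat.prime_two⟩
  set T := centZX ρ
  have hR : IsPGroup 2 (subR ρ) := IsPGroup.of_card (n := 6) (by rw [F.card_R]; norm_num)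
  have hP' : IsPGroup 2 (P.subgroupOf T) := hP.comap_subtype
  have hR' : IsPGroup 2 ((subR ρ).subgroupOf T) := hR.comap_subtype
  obtain ⟨P1, hP1⟩ := hP'.exists_le_sylow
  obtain ⟨R1, hR1⟩ := hR'.exists_le_sylow
  have hR1eq : ((R1 : Subgroup T).map T.subtype) = subR ρ := by
    refine (eq_of_le_of_card_ge ?_ ?_).symm
    · rw [← map_subgroupOf_eq_of_le F.R_le_centZX]
      exact Subgroup.map_mono hR1
    · rw [F.card_R]
      exact F.card_le_centZX (R1.isPGroup'.map _) (map_subtype_le _)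
  obtain ⟨k, hk⟩ := MulAction.exists_smul_eq T P1 R1
  refine ⟨k, k.2, fun p hp => ?_⟩
  rw [← hR1eq]
  refine ⟨k * ⟨p, h hp⟩ * k⁻¹, ?_, rfl⟩
  rw [← hk, Sylow.coe_subgroup_smul]
  exact ⟨⟨p, h hp⟩, hP1 (mem_subgroupOf.2 hp), rfl⟩

end Syl

end Cfsg.Agent.J2Type
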