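import Mathlib
import Cfsg.Agent.Lib.J2Type.CentV
import Cfsg.Agent.Lib.Coprime.Generation

/-!
The subgroup generated by the cores over the elementary subgroup `⟨x, V⟩`.
-/

set_option autoImplicit false
set_option linter.style.haveILetI false
set_option linter.unusedSectionVars false

namespace Cfsg.Agent.J2Type

open Subgroup
open Cfsg.Agent.J2Uniq (mul inv cj)

universe u

variable {Y : Type u} [Group Y] [Finite Y]

namespace Loc

/-- Conjugation maps cores to cores. -/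
theorem core_map {a g x : Y} (hx : x ∈ core a) : g * x * g⁻¹ ∈ core (g * a * g⁻¹) := by
  have hle : (core a).map (MulAut.conj g).toMonoidHom ≤ core (g * a * g⁻¹) := by
    refine le_core ?_ ?_ ?_
    · rintro _ ⟨y, hy, rfl⟩
      refine mem_centralizer_singleton_iff.2 ?_
      show g * y * g⁻¹ * (g * a * g⁻¹) = g * a * g⁻¹ * (g * y * g⁻¹)
      calc g * y * g⁻¹ * (g * a * g⁻¹) = g * (y * a) * g⁻¹ := by group
        _ = g * (a * y) * g⁻¹ := by rw [mem_centralizer_singleton_iff.1 (core_le a hy)]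
        _ = _ := by group
    · rw [card_map_of_injective (MulAut.conj g).injective]
      exact core_odd a
    · rintro c hc _ ⟨y, hy, rfl⟩
      refine ⟨g⁻¹ * c * g * y * (g⁻¹ * c * g)⁻¹, core_conj_mem ?_ hy, ?_⟩
      · calc g⁻¹ * c * g * a = g⁻¹ * (c * (g * a * g⁻¹)) * g := by group
          _ = g⁻¹ * (g * a * g⁻¹ * c) * g := by rw [hc]
          _ = _ := by group
      · show g * (g⁻¹ * c * g * y * (g⁻¹ * c * g)⁻¹) * g⁻¹ = c * (g * y * g⁻¹) * c⁻¹
        group
  exact hle ⟨x, hx, rfl⟩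

/-- A subgroup of odd order is generated by the centralizers in it of the involutions of a four group
acting on it. -/
theorem gen_four {s t : Y} (hs : orderOf s = 2) (ht : orderOf t = 2) (hne : s ≠ t) (hst : s * t = t * s)
    {K J : Subgroup Y} (hK : Odd (Nat.card K)) (hsK : s ∈ normalizer (K : Set Y)) (htK : t ∈ normalizer (K : Set Y))
    (h : ∀ x ∈ K, x * s = s * x ∨ x * t = t * x ∨ x * (s * t) = s * t * x → x ∈ J) : K ≤ J := by
  classical
  have hs2 := Involutions.Basic.inv_sq_one hs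
  have ht2 := Involutions.Basic.inv_sq_one ht
  have hs1 := Involutions.Basic.ne_one hs
  have ht1 := Involutions.Basic.ne_one ht
  have h4 : s * (s * t) = t := by rw [← mul_assoc, hs2, one_mul]
  have h5 : t * (s * t) = s := by rw [hst, ← mul_assoc, ht2, one_mul]
  have h6 : s * t * s = t := by rw [hst, mul_assoc, hs2, mul_one]
  have h7 : s * t * t = s := by rw [mul_assoc, ht2, mul_one]
  have h8 : s * t * (s * t) = 1 := by rw [← mul_assoc, h6, ht2]
  let A : Subgroup Y :=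
    { carrier := {1, s, t, s * t}
      one_mem' := Or.inl rfl
      mul_mem' := by
        intro a b ha hb
        simp only [Set.mem_insert_iff, Set.mem_singleton_iff] at ha hb ⊢
        rcases ha with rfl | rfl | rfl | rfl <;> rcases hb with rfl | rfl | rfl | rfl <;>
          simp [hs2, ht2, h4, h5, h6, h7, h8, ← hst]
      inv_mem' := by
        intro a ha
        simp only [Set.mem_insert_iff, Set.mem_singleton_iff] at ha ⊢
        rcases ha with rfl | rfl | rfl | rfl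
        · simp
        · exact Or.inr (Or.inl (inv_eq_of_mul_eq_one_right hs2))
        · exact Or.inr (Or.inr (Or.inl (inv_eq_of_mul_eq_one_right ht2)))
        · exact Or.inr (Or.inr (Or.inr (inv_eq_of_mul_eq_one_right h8))) }
  have hmem : ∀ {a : Y}, a ∈ A ↔ (a = 1 ∨ a = s ∨ a = t ∨ a = s * t) := fun {a} => by
    show a ∈ ({1, s, t, s * t} : Set Y) ↔ _
    simp
  have hsq : ∀ a : A, a ^ 2 = 1 := fun a => Subtype.ext (by
    rw [Subgroup.coe_pow, pow_two]
    rcases hmem.1 a.2 with e | e | e | e <;> rw [e]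
    · exact one_mul 1
    · exact hs2
    · exact ht2
    · exact h8)
  haveI : IsMulCommutative A := ⟨⟨fun a b => by
    have e : ∀ c : A, c⁻¹ = c := fun c => inv_eq_of_mul_eq_one_right (by rw [← pow_two, hsq c])
    rw [← e (a * b), mul_inv_rev, e a, e b]⟩⟩
  have hp : IsPGroup 2 A := fun a => ⟨1, by rw [pow_one]; exact hsq a⟩
  have hcyc : ¬ IsCyclic A := by
    intro hc
    obtain ⟨g, hg⟩ := hc.exists_generator
    obtain ⟨i, hi⟩ := mem_zpowers_iff.1 (hg ⟨s, hmem.2 (Or.inr (Or.inl rfl))⟩)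
    obtain ⟨j, hj⟩ := mem_zpowers_iff.1 (hg ⟨t, hmem.2 (Or.inr (Or.inr (Or.inl rfl)))⟩)
    have key : ∀ (n : ℤ) (c : Y), ((g ^ n : A) : Y) = c → c ≠ 1 → c = (g : Y) := by
      intro n c hn hc1
      rcases Int.even_or_odd n with ⟨m, hm⟩ | ⟨m, hm⟩
      · exfalso
        rw [hm, ← two_mul, zpow_mul, zpow_two, ← pow_two, hsq g, one_zpow] at hn
        exact hc1 hn.symm
      · rw [hm, zpow_add_one, zpow_mul, zpow_two, ← pow_two, hsq g, one_zpow, one_mul] at hn
        exact hn.symm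
    exact hne ((key i s (congrArg Subtype.val hi) hs1).trans (key j t (congrArg Subtype.val hj) ht1).symm)
  have hAK : A ≤ normalizer (K : Set Y) := fun a ha => by
    rcases hmem.1 ha with rfl | rfl | rfl | rfl
    · exact one_mem _
    · exact hsK
    · exact htK
    · exact mul_mem hsK htK
  have hcop : (Nat.card A).Coprime (Nat.card K) := by
    haveI : Fact (Nat.Prime 2) := ⟨Nat.prime_two⟩
    obtain ⟨k, hk⟩ := hp.exists_card_eq
    rw [hk]
    exact Nat.Coprime.pow_left _ (Nat.coprime_two_left.2 hK)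
  rw [← Coprime.fixedGen_eq hcyc hAK hcop]
  refine iSup₂_le fun a ha => ?_
  intro x hx
  refine h x hx.1 ?_
  have hxa := mem_centralizer_singleton_iff.1 hx.2
  rcases hmem.1 ha.1 with rfl | rfl | rfl | rfl
  · exact absurd rfl ha.2
  · exact Or.inl hxa
  · exact Or.inr (Or.inl hxa)
  · exact Or.inr (Or.inr hxa)

end Loc

theorem aL_rep : (aL.filter fun a => Nat.blt (a % 32) 16).Nodup ∧ (aL.filter fun a => Nat.blt (a % 32) 16).length = 8 ∧
    (∀ a ∈ aL.filter (fun a => Nat.blt (a % 32) 16), a ∈ repL ∧ a ∈ aL) ∧ 15 ∈ aL := by decide +kernel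

/-- The subgroup generated by the cores over `⟨x, V⟩`. -/
def uW (τ : ℕ → Y) : Subgroup Y := Loc.wJoin (uA τ)

/-- The normalizer of `E` times the join of cores. -/
def uM (τ : ℕ → Y) : Subgroup Y := normalizer ((uE τ ⊔ uW τ : Subgroup Y) : Set Y)

namespace Hyp

variable {U : Sylow 2 Y} {τ : ℕ → Y} (F : Hyp U τ)

include F

theorem code_x_eq {a : ℕ} (ha : a ∈ [0, 16, 15, 31]) (h1 : τ a ≠ 1) : τ a = τ 15 := by
  have h31 : τ 31 = τ 15 := by
    rw [← List.mem_singleton.1 x_facts.2.2.2.2.2.2.2.2.2, F.mul_eq 16 sixteen_central.1 15 x_facts.1, F.z_one, one_mul]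
  fin_cases ha
  · exact absurd F.zero h1
  · exact absurd F.z_one h1
  · rfl
  · exact h31

theorem order_v {f : ℕ} (hf : f ∈ vL) : orderOf (τ f) = 2 :=
  F.orderOf_two (types_sub.2.2 f hf).2.1 (types_sub.2.2 f hf).2.2.1 (types_sub.2.2 f hf).2.2.2.1
    (types_sub.2.2 f hf).2.2.2.2

theorem comm_x_v {f : ℕ} (hf : f ∈ vL) : τ f * τ 15 = τ 15 * τ f :=
  (F.comm (types_sub.2.2 f hf).2.1 x_facts.1).2 (vL_x_facts.1 f hf)

theorem A_cases {a : Y} (ha : a ∈ uA τ) (h1 : a ≠ 1) : a = τ 15 ∨ ∃ f ∈ vL, f ∈ aL ∧ τ f = a := by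
  obtain ⟨c, hc, rfl⟩ := F.mem_A.1 ha
  rcases aL_types.1 c hc with h | h
  · exact Or.inl (F.code_x_eq h h1)
  · exact Or.inr ⟨c, h, hc, rfl⟩

theorem A_elem : Cfsg.IsElementaryAbelian 2 (uA τ) := by
  refine ⟨⟨⟨fun a b => Subtype.ext ?_⟩⟩, fun a ha => ?_⟩
  · obtain ⟨i, hi, hie⟩ := F.mem_A.1 a.2
    obtain ⟨j, hj, hje⟩ := F.mem_A.1 b.2
    show (a : Y) * b = b * a
    rw [← hie, ← hje, ← F.mul_eq i (aL_sub i hi).2.1 j (aL_sub j hj).2.1, ((aL_sub i hi).2.2.2.2 j hj).2,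
      F.mul_eq j (aL_sub j hj).2.1 i (aL_sub i hi).2.1]
  · obtain ⟨i, hi, rfl⟩ := F.mem_A.1 ha
    rw [pow_two, F.sq_one (aL_sub i hi).2.1, (aL_sub i hi).2.2.1]
    simp

theorem A_le_U : uA τ ≤ (U : Subgroup Y) := fun a ha => by
  obtain ⟨c, hc, rfl⟩ := F.mem_A.1 ha
  exact F.mem c (aL_sub c hc).2.1

theorem card_A : 8 ≤ Nat.card (uA τ) := by
  obtain ⟨hn, hl, hs, -⟩ := aL_rep
  rw [← hl]
  exact F.card_ge hn (fun a ha => (hs a ha).1) fun a ha => mem_sub_of_mem (hs a ha).2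

/-- An odd subgroup of the centralizer of an involution `a`, cut by the centralizer of a constrained `b`. -/
theorem inf_core_le {a b : Y} (hN : ENorm τ b) (ha : a ∈ normalizer (uE τ : Set Y)) (ha2 : a * a = 1)
    (hab : a * b = b * a) : Loc.core a ⊓ centralizer ({b} : Set Y) ≤ Loc.core b := by
  refine F.balance hN ha ha2 hab inf_le_right (inf_le_left.trans (Loc.core_le a))
    ((Loc.core_odd a).of_dvd_nat (card_dvd_of_le inf_le_left)) ?_
  intro c hc hca x hx
  exact ⟨Loc.core_conj_mem hca hx.1, (centralizer ({b} : Set Y)).mul_mem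
    ((centralizer ({b} : Set Y)).mul_mem (hN.1 hc) hx.2) ((centralizer ({b} : Set Y)).inv_mem (hN.1 hc))⟩

theorem bal_A : ∀ a ∈ uA τ, a ≠ 1 → ∀ b ∈ uA τ, b ≠ 1 → Loc.core a ⊓ centralizer ({b} : Set Y) ≤ Loc.core b := by
  intro a ha ha1 b hb hb1
  rcases F.A_cases hb hb1 with rfl | ⟨f, hf, -, rfl⟩
  · refine F.inf_core_le F.enorm_x (F.le_normalizer_E (F.A_le_U ha)) ?_ (F.x_comm (F.A_le_U ha))
    rw [← pow_two]
    exact F.A_elem.2 a ha
  · intro x hx
    exact F.cent_v_odd hf (mem_centralizer_singleton_iff.1 hx.2) (Loc.odd_orderOf (Loc.core_odd a) hx.1)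

theorem W_odd : Odd (Nat.card (uW τ)) := Loc.wJoin_odd F.A_elem F.card_A F.bal_A

theorem core_x_le_W : Loc.core (τ 15) ≤ uW τ :=
  Loc.le_wJoin (mem_sub_of_mem aL_rep.2.2.2) (Involutions.Basic.ne_one F.order_x)

theorem core_v_le_W {f : ℕ} (hf : f ∈ vL) : Loc.core (τ f) ≤ uW τ := by
  obtain ⟨v, hva, hv, hcm, hxv⟩ := aL_types.2.2 f hf
  have hfs := (types_sub.2.2 f hf).2.1
  have hvs := (types_sub.2.2 v hv).2.1
  have hxe : τ 15 * τ v = τ (mul 15 v) := (F.mul_eq 15 x_facts.1 v hvs).symm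
  have hne : τ 15 ≠ τ v := fun e => by
    have := F.strong (g := 1) (mem_sub_of_mem qL_lists.2.2.2.2.2 : τ 15 ∈ uE τ)
      (by simpa using F.mem 15 x_facts.1)
    rw [one_mul, inv_one, mul_one, e, F.mem_E_code hvs] at this
    exact (types_sub.2.2 v hv).1 this
  refine Loc.gen_four F.order_x (F.order_v hv) hne (F.comm_x_v hv).symm (Loc.core_odd _)
    (Loc.core_normalizer (F.comm_x_v hf).symm) (Loc.core_normalizer ((F.comm hvs hfs).2 hcm)) fun x hx h => ?_
  rcases h with h | h | h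
  · exact F.core_x_le_W (F.inf_core_le F.enorm_x (F.le_normalizer_E (F.mem f hfs))
      (Involutions.Basic.inv_sq_one (F.order_v hf)) (F.comm_x_v hf) ⟨hx, mem_centralizer_singleton_iff.2 h⟩)
  · exact Loc.le_wJoin (mem_sub_of_mem hva) (Involutions.Basic.ne_one (F.order_v hv))
      (F.cent_v_odd hv h (Loc.odd_orderOf (Loc.core_odd _) hx))
  · rw [hxe] at h
    have hA : τ (mul 15 v) ∈ uA τ := mem_sub_of_mem ((aL_sub 15 aL_rep.2.2.2).2.2.2.2 v hva).1
    exact Loc.le_wJoin hA (Involutions.Basic.ne_one (F.order_v hxv))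
      (F.cent_v_odd hxv h (Loc.odd_orderOf (Loc.core_odd _) hx))

theorem conj_x {n : Y} (hn : n ∈ normalizer ((U : Subgroup Y) : Set Y)) : n * τ 15 * n⁻¹ = τ 15 := by
  obtain ⟨b, hb, hbe⟩ := F.surj _ ((mem_normalizer_iff.1 hn _).1 (F.mem 15 x_facts.1))
  have hbz : b ∈ [0, 16, 15, 31] := by
    refine center_U b hb fun a ha => (F.comm hb ha).1 ?_
    have h1 : n⁻¹ * τ a * n⁻¹⁻¹ ∈ (U : Subgroup Y) := (mem_normalizer_iff.1 (inv_mem hn) _).1 (F.mem a ha)
    have h2 := F.x_comm h1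
    rw [hbe]
    calc n * τ 15 * n⁻¹ * τ a = n * (τ 15 * (n⁻¹ * τ a * n⁻¹⁻¹)) * n⁻¹ := by group
      _ = n * (n⁻¹ * τ a * n⁻¹⁻¹ * τ 15) * n⁻¹ := by rw [h2]
      _ = τ a * (n * τ 15 * n⁻¹) := by group
  rw [← hbe]
  refine F.code_x_eq hbz fun e => Involutions.Basic.ne_one F.order_x ?_
  rw [hbe] at e
  exact conj_eq_one_iff.1 e

theorem conj_W {n : Y} (hn : n ∈ normalizer ((U : Subgroup Y) : Set Y)) : ∀ x ∈ uW τ, n * x * n⁻¹ ∈ uW τ := by
  have hle : uW τ ≤ (uW τ).comap (MulAut.conj n).toMonoidHom := iSup_le fun a y hy => by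
    have h1 : n * y * n⁻¹ ∈ Loc.core (n * (a : Y) * n⁻¹) := Loc.core_map hy
    rcases F.A_cases a.2.1 a.2.2 with e | ⟨f, hf, -, e⟩
    · rw [e, F.conj_x hn] at h1
      exact F.core_x_le_W h1
    · rw [← e] at h1
      obtain ⟨b, hb, hbe⟩ := F.surj _ ((mem_normalizer_iff.1 hn _).1 (F.mem f (types_sub.2.2 f hf).2.1))
      rw [← hbe] at h1
      exact F.core_v_le_W (F.vtype hf hb hbe.symm) h1
  exact fun x hx => hle hx

theorem NU_le_M : normalizer ((U : Subgroup Y) : Set Y) ≤ uM τ := by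
  refine SolvableSignalizer.le_normalizer_sup (fun n hn => F.mem_normalizer_of_le fun t ht =>
    (mem_normalizer_iff.1 hn t).1 (F.E_le ht)) fun n hn => mem_normalizer_iff.2 fun x => ⟨F.conj_W hn x, fun hx => ?_⟩
  have := F.conj_W (inv_mem hn) _ hx
  rwa [show n⁻¹ * (n * x * n⁻¹) * n⁻¹⁻¹ = x by group] at this

theorem U_le_M : (U : Subgroup Y) ≤ uM τ := le_trans le_normalizer F.NU_le_M

theorem W_le_M : uW τ ≤ uM τ := le_trans le_sup_right le_normalizer

theorem cent_x_le_M : centralizer ({τ 15} : Set Y) ≤ uM τ := fun g hg => by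
  obtain ⟨d, hd, hn⟩ := F.centX (mem_centralizer_singleton_iff.1 hg)
  have := mul_mem (inv_mem (F.W_le_M (F.core_x_le_W hd))) (F.NU_le_M hn)
  rwa [inv_mul_cancel_left] at this

theorem cent_v_le_M {f : ℕ} (hf : f ∈ vL) : centralizer ({τ f} : Set Y) ≤ uM τ :=
  (F.cent_v_le hf).trans (sup_le (inf_le_left.trans F.U_le_M) ((F.core_v_le_W hf).trans F.W_le_M))

end Hyp

end Cfsg.Agent.J2Type
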