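import Mathlib
import Cfsg.Agent.Lib.J2Type.CoreW
import Cfsg.Agent.Lib.Transfer.Fusion

/-!
In the centralizer of a pair involution, the conjugates of `x` lie in the normalizer of the join of cores.
-/

set_option autoImplicit false
set_option linter.style.haveILetI false
set_option linter.unusedSectionVars false

namespace Cfsg.Agent.J2Type

open Subgroup
open scoped commutatorElement
open Cfsg.Agent.J2Uniq (mul inv cj)

universe u

variable {Y : Type u} [Group Y] [Finite Y]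

theorem qL_rep : (qL.filter fun a => Nat.blt (a % 32) 16).Nodup ∧ (qL.filter fun a => Nat.blt (a % 32) 16).length = 16 ∧
    (∀ a ∈ qL.filter (fun a => Nat.blt (a % 32) 16), a ∈ repL ∧ a ∈ qL) ∧
    (∀ a ∈ qL, a ∈ qL.filter (fun a => Nat.blt (a % 32) 16) ∨ mul 16 a ∈ qL.filter fun a => Nat.blt (a % 32) 16) ∧
    3 ∈ qL ∧ 416 ∈ sL ∧ 3 ∈ sL ∧ 12 ∈ sL := by decide +kernel

namespace Hyp

variable {U : Sylow 2 Y} {τ : ℕ → Y} (F : Hyp U τ)

include F

theorem card_E : Nat.card (uE τ) = 16 := by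
  obtain ⟨hn, hl, hs, hc, -⟩ := qL_rep
  refine le_antisymm ?_ ?_
  · rw [← hl]
    refine F.card_le fun e he => ?_
    obtain ⟨a, ha, rfl⟩ := F.mem_E.1 he
    rcases hc a ha with h | h
    · exact ⟨a, h, rfl⟩
    · exact ⟨_, h, by rw [F.mul_eq 16 sixteen_central.1 a (qL_closed a ha).1, F.z_one, one_mul]⟩
  · rw [← hl]
    exact F.card_ge hn (fun a ha => (hs a ha).1) fun a ha => mem_sub_of_mem (hs a ha).2

theorem max_w : ∀ P : Subgroup Y, IsPGroup 2 P → P ≤ centralizer ({τ 3} : Set Y) →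
    Nat.card P ≤ Nat.card ((U : Subgroup Y) ⊓ centralizer ({τ 3} : Set Y) : Subgroup Y) := fun P hP hPc => by
  refine le_trans (F.card_two_cent qL_rep.2.2.2.2.2.2.1 (L := pL)
    (fun g b hb e => F.pair 3 small_facts.2.2.2.2.2.2.2.1 g b hb e) cent_p hP hPc) ?_
  rw [← cent_w.2.1]
  exact F.card_cent qL_rep.2.2.2.2.2.2.1

theorem E_le_cent_w : uE τ ≤ centralizer ({τ 3} : Set Y) := fun _ he =>
  mem_centralizer_singleton_iff.2 (F.E_comm he (mem_sub_of_mem qL_rep.2.2.2.2.1))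

theorem T_cases {g : Y} (hg : g ∈ (U : Subgroup Y)) (hgw : g * τ 3 = τ 3 * g) :
    g ∈ uE τ ∨ τ 416 * g ∈ uE τ := by
  obtain ⟨b, hb, rfl⟩ := F.surj g hg
  rcases cent_w.1 b hb ((F.comm qL_rep.2.2.2.2.2.2.1 hb).1 hgw.symm) with h | h
  · exact Or.inl (mem_sub_of_mem h)
  · right
    rw [← F.mul_eq 416 qL_rep.2.2.2.2.2.1 b hb]
    exact mem_sub_of_mem h

/-- The centralizer of the pair has a subgroup of index two missing `v`, with a homomorphism to `E` fixing the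
pair. -/
theorem exists_phi : ∃ (L : Subgroup Y) (φ : Y → Y), uE τ ≤ L ∧ L ≤ centralizer ({τ 3} : Set Y) ∧
    (∀ g ∈ centralizer ({τ 3} : Set Y), g ∈ L ∨ g * τ 416 ∈ L) ∧
    (∀ g ∈ centralizer ({τ 3} : Set Y), ∀ l ∈ L, g * l * g⁻¹ ∈ L) ∧
    (∀ a ∈ L, ∀ b ∈ L, φ (a * b) = φ a * φ b) ∧ (∀ a, φ a ∈ uE τ) ∧ φ (τ 3) = τ 3 := by
  classical
  haveI : Fact (Nat.Prime 2) := ⟨Nat.prime_two⟩
  set C := centralizer ({τ 3} : Set Y)
  set T := (U : Subgroup Y) ⊓ C
  have hTp : IsPGroup 2 T := U.isPGroup'.to_le inf_le_left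
  have hv : τ 416 ∈ T := ⟨F.mem 416 qL_rep.2.2.2.2.2.1, mem_centralizer_singleton_iff.2
    ((F.comm qL_rep.2.2.2.2.2.2.1 qL_rep.2.2.2.2.2.1).2 cent_w.2.2.1).symm⟩
  have hvE : τ 416 ∉ uE τ := by
    rw [F.mem_E_code qL_rep.2.2.2.2.2.1]
    exact (types_sub.2.2 416 small_facts.2.2.2.2.2.1).1
  obtain ⟨T0, hT0⟩ := (hTp.comap_subtype : IsPGroup 2 (T.subgroupOf C)).exists_le_sylow
  have hT0T : ∀ p : C, p ∈ (T0 : Subgroup C) ↔ (p : Y) ∈ T := by
    have heq : T = (T0 : Subgroup C).map C.subtype := eq_of_le_of_card_ge (fun s hs => ⟨⟨s, hs.2⟩, hT0 hs, rfl⟩)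
      (F.max_w _ (T0.isPGroup'.map _) (map_subtype_le _))
    intro p
    rw [heq]
    exact ⟨fun hp => ⟨p, hp, rfl⟩, fun ⟨q, hq, e⟩ => by rwa [← Subtype.ext e]⟩
  set EC := (uE τ).subgroupOf C
  have hfoc : commutator C ⊓ (T0 : Subgroup C) ≤ EC := by
    refine Transfer.Fusion.focal_le_of_fusion T0 fun x hx g hgx => ⟨g, rfl, mem_subgroupOf.2 ?_⟩
    have hxT := (hT0T x).1 hx
    have hyT := (hT0T _).1 hgx
    have hxC := mem_centralizer_singleton_iff.1 hxT.2
    have hyC := mem_centralizer_singleton_iff.1 hyT.2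
    set y := ((g * x * g⁻¹ : C) : Y) with hy
    show ((⁅x, g⁆ : C) : Y) ∈ uE τ
    rw [show ((⁅x, g⁆ : C) : Y) = (x : Y) * y⁻¹ by
      rw [hy, commutatorElement_def]; simp only [Subgroup.coe_mul, Subgroup.coe_inv]; group]
    rcases F.T_cases hxT.1 hxC with h | h
    · exact mul_mem h (inv_mem (F.strong h hyT.1))
    rcases F.T_cases hyT.1 hyC with h' | h'
    · exfalso
      have hxE : (x : Y) ∈ uE τ := by
        have h1 : (g : Y)⁻¹ * y * (g : Y)⁻¹⁻¹ = x := by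
          rw [hy]; simp only [Subgroup.coe_mul, Subgroup.coe_inv]; group
        rw [← h1]
        exact F.strong h' (by rw [h1]; exact hxT.1)
      exact hvE (by simpa using mul_mem h (inv_mem hxE))
    · have hn := F.le_normalizer_E (F.mem 416 qL_rep.2.2.2.2.2.1)
      have h1 := (mem_normalizer_iff.1 (inv_mem hn) _).1 (mul_mem h (inv_mem h'))
      rwa [show (τ 416)⁻¹ * (τ 416 * (x : Y) * (τ 416 * y)⁻¹) * (τ 416)⁻¹⁻¹ = (x : Y) * y⁻¹ by group] at h1
  set N := commutator C ⊔ EC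
  haveI hNn : N.Normal := ⟨fun n hn g => by
    have h1 : g * n * g⁻¹ * n⁻¹ ∈ commutator C := by
      rw [← commutatorElement_def]
      exact commutator_mem_commutator (mem_top g) (mem_top n)
    have := mul_mem (mem_sup_left (T := EC) h1) hn
    rwa [inv_mul_cancel_right] at this⟩
  set π := QuotientGroup.mk' N
  have hcomm : ∀ a b : C ⧸ N, Commute a b := fun a b => by
    obtain ⟨a, rfl⟩ := QuotientGroup.mk_surjective a
    obtain ⟨b, rfl⟩ := QuotientGroup.mk_surjective b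
    show (QuotientGroup.mk (a * b) : C ⧸ N) = QuotientGroup.mk (b * a)
    rw [QuotientGroup.eq]
    refine mem_sup_left ?_
    rw [show (a * b)⁻¹ * (b * a) = ⁅b⁻¹, a⁻¹⁆ by rw [commutatorElement_def]; group]
    exact commutator_mem_commutator (mem_top _) (mem_top _)
  set v : C := ⟨τ 416, hv.2⟩
  have hvN : v ∉ N := by
    intro h
    obtain ⟨c, hc, e, he, hce⟩ := mem_sup_of_normal_left.1 h
    have hcT : c ∈ (T0 : Subgroup C) := by
      rw [hT0T]
      have : (c : Y) = τ 416 * (e : Y)⁻¹ := by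
        have := congrArg Subtype.val hce
        simp only [Subgroup.coe_mul, v] at this
        rw [← this, mul_inv_cancel_right]
      rw [this]
      exact mul_mem hv (inv_mem ⟨F.E_le he, F.E_le_cent_w he⟩)
    have := mul_mem (mem_subgroupOf.1 (hfoc ⟨hc, hcT⟩)) (mem_subgroupOf.1 he)
    rw [← Subgroup.coe_mul, hce] at this
    exact hvE this
  obtain ⟨i, m, hm, hord⟩ := Nat.exists_eq_pow_mul_and_not_dvd (Nat.card_pos (α := C ⧸ N)).ne' 2 (by norm_num)
  set χ : C →* C ⧸ N := MonoidHom.mk' (fun g => π g ^ m) fun a b => by rw [map_mul, (hcomm _ _).mul_pow]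
  have hv2 : π v * π v = 1 := by
    rw [← map_mul, show v * v = 1 from Subtype.ext
      (Involutions.Basic.inv_sq_one (F.order_v small_facts.2.2.2.2.2.1)), map_one]
  have hπv : π v ≠ 1 := fun e => hvN ((QuotientGroup.eq_one_iff v).1 e)
  have hmo : m % 2 = 1 := by omega
  have hχv : χ v = π v := by
    show π v ^ m = π v
    obtain ⟨j, hj⟩ : ∃ j, m = 2 * j + 1 := ⟨m / 2, by omega⟩
    rw [hj, pow_succ, pow_mul, pow_two, hv2, one_pow, one_mul]
  let TQ := T0.mapSurjective (f := π) (QuotientGroup.mk'_surjective _)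
  have hTQ : ∀ q ∈ (TQ : Subgroup (C ⧸ N)), q = 1 ∨ q = π v := by
    rintro _ ⟨p, hp, rfl⟩
    have hpT := (hT0T p).1 hp
    rcases F.T_cases hpT.1 (mem_centralizer_singleton_iff.1 hpT.2) with h | h
    · exact Or.inl ((QuotientGroup.eq_one_iff p).2 (mem_sup_right (mem_subgroupOf.2 h)))
    · right
      have h1 : π (v * p) = 1 := (QuotientGroup.eq_one_iff _).2 (mem_sup_right (mem_subgroupOf.2 h))
      rw [map_mul] at h1
      exact (mul_left_cancel (hv2.trans h1.symm)).symm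
  have hrange : ∀ g : C, χ g = 1 ∨ χ g = π v := by
    intro g
    refine hTQ _ ?_
    have ho : orderOf (χ g) ∣ 2 ^ i := orderOf_dvd_of_pow_eq_one (by
      show (π g ^ m) ^ 2 ^ i = 1
      rw [← pow_mul, mul_comm, ← hord]
      exact pow_card_eq_one')
    have hsup : IsPGroup 2 ((TQ : Subgroup (C ⧸ N)) ⊔ zpowers (χ g) : Subgroup (C ⧸ N)) :=
      IsPGroup.to_sup_of_normal_left' TQ.isPGroup' (Loc.isPGroup_zpowers ho) (zpowers_le.2 (mem_normalizer_iff.2
        fun q => by rw [(hcomm (χ g) q).eq, mul_inv_cancel_right]))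
    exact (TQ.3 hsup le_sup_left).le (mem_sup_right (mem_zpowers _))
  set L := χ.ker.map C.subtype
  have hLC : L ≤ C := map_subtype_le _
  have hEL : uE τ ≤ L := fun e he => ⟨⟨e, F.E_le_cent_w he⟩, by
    show π _ ^ m = 1
    rw [show π ⟨e, F.E_le_cent_w he⟩ = 1 from (QuotientGroup.eq_one_iff _).2 (mem_sup_right (mem_subgroupOf.2 he)),
      one_pow], rfl⟩
  have hvL : τ 416 ∉ L := by
    rintro ⟨c, hc, e⟩
    rw [show c = v from Subtype.ext e, SetLike.mem_coe, MonoidHom.mem_ker, hχv] at hc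
    exact hπv hc
  have hLn : ∀ g ∈ C, ∀ l ∈ L, g * l * g⁻¹ ∈ L := by
    rintro g hg _ ⟨l, hl, rfl⟩
    exact ⟨⟨g, hg⟩ * l * ⟨g, hg⟩⁻¹, χ.normal_ker.conj_mem l hl _, rfl⟩
  have hcov : ∀ g ∈ C, g ∈ L ∨ g * τ 416 ∈ L := fun g hg => by
    rcases hrange ⟨g, hg⟩ with h | h
    · exact Or.inl ⟨⟨g, hg⟩, h, rfl⟩
    · refine Or.inr ⟨⟨g, hg⟩ * v, ?_, rfl⟩
      rw [SetLike.mem_coe, MonoidHom.mem_ker, map_mul, h, hχv, hv2]
  -- the transfer to `E`
  set H := (uE τ).subgroupOf L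
  have hHp : IsPGroup 2 H := (F.E_p).comap_subtype
  obtain ⟨P, hP⟩ := hHp.exists_le_sylow
  have hPH : H = (P : Subgroup L) := by
    refine eq_of_le_of_card_ge hP ?_
    rw [show Nat.card H = 16 from (Nat.card_congr (subgroupOfEquivOfLe hEL).toEquiv).trans F.card_E]
    obtain ⟨k, hk, hkT⟩ := Loc.exists_conj_into hTp inf_le_right F.max_w (P.isPGroup'.map L.subtype)
      ((map_subtype_le _).trans hLC)
    have hle : ((P : Subgroup L).map L.subtype).map (MulAut.conj k).toMonoidHom ≤ uE τ := by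
      rintro _ ⟨p, hp, rfl⟩
      show k * p * k⁻¹ ∈ uE τ
      have hpT := hkT p hp
      rcases F.T_cases hpT.1 (mem_centralizer_singleton_iff.1 hpT.2) with h | h
      · exact h
      · exfalso
        refine hvL ?_
        have := L.mul_mem (hEL h) (L.inv_mem (hLn k hk p (map_subtype_le _ hp)))
        rwa [mul_inv_cancel_right] at this
    have := card_le_of_le hle
    rwa [card_map_of_injective (MulAut.conj k).injective, card_map_of_injective L.subtype_injective, F.card_E] at this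
  have hodd : Odd H.index := by
    rw [hPH]
    exact Nat.odd_iff.2 (Nat.two_dvd_ne_zero.1 P.not_dvd_index)
  letI : CommGroup (uE τ) := { (inferInstance : Group (uE τ)) with
    mul_comm := fun a b => Subtype.ext (F.E_comm a.2 b.2) }
  haveI : H.FiniteIndex := ⟨index_ne_zero_of_finite⟩
  let ϕ : H →* uE τ := MonoidHom.mk' (fun h => ⟨((h : L) : Y), h.2⟩) fun a b => Subtype.ext rfl
  set tr := MonoidHom.transfer ϕ
  refine ⟨L, fun g => if h : g ∈ L then (tr ⟨g, h⟩ : Y) else 1, hEL, hLC, hcov, hLn, fun a ha b hb => ?_,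
    fun a => ?_, ?_⟩
  · simp only [dif_pos ha, dif_pos hb, dif_pos (mul_mem ha hb)]
    rw [← Subgroup.coe_mul, ← map_mul]
    rfl
  · show (if h : a ∈ L then (tr ⟨a, h⟩ : Y) else 1) ∈ uE τ
    split
    · exact SetLike.coe_mem _
    · exact one_mem _
  · have hw : τ 3 ∈ L := hEL (mem_sub_of_mem qL_rep.2.2.2.2.1)
    show (if h : τ 3 ∈ L then (tr ⟨τ 3, h⟩ : Y) else 1) = τ 3
    rw [dif_pos hw]
    have key : ∀ (k : ℕ) (g₀ : L), g₀⁻¹ * (⟨τ 3, hw⟩ : L) ^ k * g₀ ∈ H →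
        g₀⁻¹ * (⟨τ 3, hw⟩ : L) ^ k * g₀ = (⟨τ 3, hw⟩ : L) ^ k := fun k g₀ _ => by
      have hc : Commute g₀ ((⟨τ 3, hw⟩ : L) ^ k) :=
        Commute.pow_right (Subtype.ext (mem_centralizer_singleton_iff.1 (hLC g₀.2))) k
      rw [mul_assoc, ← hc.eq, inv_mul_cancel_left]
    rw [MonoidHom.transfer_eq_pow ϕ _ key]
    show ((((⟨τ 3, hw⟩ : L) ^ H.index : L)) : Y) = τ 3
    obtain ⟨j, hj⟩ := hodd
    rw [Subgroup.coe_pow, hj, pow_succ, pow_mul, pow_two, F.E_sq (mem_sub_of_mem qL_rep.2.2.2.2.1), one_pow, one_mul]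

/-- Conjugates of `x` in the centralizer of the pair lie in `uM`. -/
theorem conj_x_mem_M {h : Y} (hh : h * τ 3 = τ 3 * h) : h * τ 15 * h⁻¹ ∈ uM τ := by
  classical
  obtain ⟨L, φ, hEL, hLC, hcov, hLn, hφ, hφE, hφw⟩ := F.exists_phi
  set C := centralizer ({τ 3} : Set Y)
  set x' := h * τ 15 * h⁻¹
  have hhC : h ∈ C := mem_centralizer_singleton_iff.2 hh
  have hvs := qL_rep.2.2.2.2.2.1
  have hvC : τ 416 ∈ C := mem_centralizer_singleton_iff.2 ((F.comm qL_rep.2.2.2.2.2.2.1 hvs).2 cent_w.2.2.1).symm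
  have hxE : τ 15 ∈ uE τ := mem_sub_of_mem qL_lists.2.2.2.2.2
  have hxC : τ 15 ∈ C := F.E_le_cent_w hxE
  have hx'C : x' ∈ C := mul_mem (mul_mem hhC hxC) (inv_mem hhC)
  have hw2 : τ 3 * τ 3 = 1 := F.E_sq (mem_sub_of_mem qL_rep.2.2.2.2.1)
  have hv := F.order_v small_facts.2.2.2.2.2.1
  have hx' : orderOf x' = 2 := by rw [Involutions.Basic.orderOf_conj, F.order_x]
  have hnc : ¬ IsConj (τ 416) x' := by
    intro hc
    obtain ⟨g, hg⟩ := isConj_iff.1 hc
    have e : h⁻¹ * g * τ 416 * (h⁻¹ * g)⁻¹ = τ 15 := by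
      rw [show h⁻¹ * g * τ 416 * (h⁻¹ * g)⁻¹ = h⁻¹ * (g * τ 416 * g⁻¹) * h by group, hg]
      simp only [x']; group
    exact absurd (F.vtype small_facts.2.2.2.2.2.1 x_facts.1 e) (by decide +kernel)
  obtain ⟨ht2, htv, htx⟩ := Involutions.Basic.middle_involution hv hx'
    (Involutions.Basic.even_orderOf_mul_of_not_isConj hv hx' hnc)
  set c := τ 416 * x'
  set t := c ^ (orderOf c / 2)
  have hφ1 : φ 1 = 1 := by
    have := hφ 1 (one_mem L) 1 (one_mem L)
    rw [one_mul] at this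
    exact mul_eq_left.1 this.symm
  have hconj : ∀ g ∈ C, φ (g * τ 15 * g⁻¹) = φ (τ 15) := by
    intro g hg
    have hxL := hEL hxE
    have hin : ∀ l ∈ L, φ (l * τ 15 * l⁻¹) = φ (τ 15) := fun l hl => by
      rw [hφ _ (mul_mem hl hxL) _ (inv_mem hl), hφ _ hl _ hxL, F.E_comm (hφE l) (hφE (τ 15)), mul_assoc,
        ← hφ _ hl _ (inv_mem hl), mul_inv_cancel, hφ1, mul_one]
    rcases hcov g hg with h1 | h1
    · exact hin g h1
    · have e : g * τ 416 * τ 15 * (g * τ 416)⁻¹ = g * τ 15 * g⁻¹ := by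
        rw [show g * τ 416 * τ 15 * (g * τ 416)⁻¹ = g * (τ 416 * τ 15 * (τ 416)⁻¹) * g⁻¹ by group,
          F.comm_x_v small_facts.2.2.2.2.2.1, mul_inv_cancel_right]
      rw [← e]
      exact hin _ h1
  -- the middle involution is not the pair
  have htw : t ≠ τ 3 := by
    intro he
    obtain ⟨m, hm⟩ : ∃ m, orderOf c = 2 * m := by
      obtain ⟨j, hj⟩ := Involutions.Basic.even_orderOf_mul_of_not_isConj hv hx' hnc
      exact ⟨j, by rw [hj]; ring⟩
    have ht' : c ^ m = τ 3 := by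
      rw [← he]
      show c ^ m = c ^ (orderOf c / 2)
      rw [hm, Nat.mul_div_cancel_left _ (by norm_num)]
    rcases Nat.even_or_odd m with ⟨j, hj⟩ | hmodd
    · have hL1 : τ 416 * x' * (τ 416)⁻¹ ∈ L := hLn _ hvC _ (hLn h hhC _ (hEL hxE))
      have hx'L : x' ∈ L := hLn h hhC _ (hEL hxE)
      have hc2 : c * c = τ 416 * x' * (τ 416)⁻¹ * x' := by
        rw [Involutions.Basic.inv_eq hv]
        simp only [c]; group
      have h2 : φ (c * c) = 1 := by
        rw [hc2, hφ _ hL1 _ hx'L, show τ 416 * x' * (τ 416)⁻¹ = τ 416 * h * τ 15 * (τ 416 * h)⁻¹ by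
          simp only [x']; group, hconj _ (mul_mem hvC hhC), hconj h hhC, F.E_sq (hφE _)]
      have hccL : c * c ∈ L := by rw [hc2]; exact mul_mem hL1 hx'L
      have h3 : ∀ n : ℕ, φ ((c * c) ^ n) = 1 := fun n => by
        induction n with
        | zero => rw [pow_zero, hφ1]
        | succ n ih => rw [pow_succ, hφ _ (pow_mem hccL n) _ hccL, ih, h2, one_mul]
      have h4 := h3 j
      rw [← pow_two, ← pow_mul, show 2 * j = m by omega, ht', hφw] at h4
      exact absurd ((F.eq_one qL_rep.2.2.2.2.2.2.1).1 h4) (by decide +kernel)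
    · -- the product with the pair is odd
      have hcw : Commute c (τ 3) :=
        (mem_centralizer_singleton_iff.1 (mul_mem hvC hx'C) : c * τ 3 = τ 3 * c)
      have hxw : x' * τ 3 = τ 3 * x' := mem_centralizer_singleton_iff.1 hx'C
      have hxw15 : τ 15 * τ 3 = τ 3 * τ 15 := mem_centralizer_singleton_iff.1 hxC
      have hy2 : orderOf (x' * τ 3) = 2 := by
        refine orderOf_eq_prime ?_ fun e => ?_
        · rw [pow_two, show x' * τ 3 * (x' * τ 3) = x' * (τ 3 * x') * τ 3 by group, ← hxw,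
            show x' * (x' * τ 3) * τ 3 = (x' * x') * (τ 3 * τ 3) by group, Involutions.Basic.inv_sq_one hx', hw2,
            one_mul]
        · have e' : x' = τ 3 := by
            rw [← mul_one x', ← hw2, ← mul_assoc, e, one_mul]
          have e2 : h⁻¹ * τ 3 * h⁻¹⁻¹ = τ 15 := by rw [← e']; simp only [x']; group
          exact absurd (F.pair 3 small_facts.2.2.2.2.2.2.2.1 h⁻¹ 15 x_facts.1 e2) (by decide +kernel)
      have hodd : Odd (orderOf (τ 416 * (x' * τ 3))) := by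
        refine hmodd.of_dvd_nat (orderOf_dvd_of_pow_eq_one ?_)
        rw [← mul_assoc, hcw.mul_pow, ht']
        obtain ⟨j, hj⟩ := hmodd
        rw [hj, pow_succ, pow_mul, pow_two, hw2, one_pow, one_mul, hw2]
      obtain ⟨d, -, hd⟩ := Involutions.Basic.exists_conj_of_odd hv hy2 hodd
      have e2 : h⁻¹ * d * τ 416 * (h⁻¹ * d)⁻¹ = τ (mul 15 3) := by
        rw [F.mul_eq 15 x_facts.1 3 qL_rep.2.2.2.2.2.2.1,
          show h⁻¹ * d * τ 416 * (h⁻¹ * d)⁻¹ = h⁻¹ * (d * τ 416 * d⁻¹) * h by group, hd,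
          show h⁻¹ * (x' * τ 3) * h = τ 15 * (h⁻¹ * (τ 3 * h)) by simp only [x']; group, ← hh, inv_mul_cancel_left]
      exact absurd (F.vtype small_facts.2.2.2.2.2.1 (by decide +kernel) e2) (by decide +kernel)
  -- the middle involution lies in the centralizer of `v`
  have htv' : t * τ 416 = τ 416 * t := htv
  have htC : t ∈ C := pow_mem (mul_mem hvC hx'C) _
  set D := Loc.core (τ 416)
  have hf : (416 : ℕ) ∈ vL := small_facts.2.2.2.2.2.1
  have hTD : ((U : Subgroup Y) ⊓ centralizer ({τ 416} : Set Y)) ≤ normalizer (D : Set Y) := fun s hs =>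
    Loc.core_normalizer (mem_centralizer_singleton_iff.1 hs.2)
  obtain ⟨c0, hc0, d0, hd0, hcd⟩ := Loc.mem_sup_iff hTD
    (F.cent_v_le hf (mem_centralizer_singleton_iff.2 htv'))
  obtain ⟨b, hb, rfl⟩ := F.surj c0 hc0.1
  have hTp : IsPGroup 2 ((U : Subgroup Y) ⊓ centralizer ({τ 416} : Set Y) : Subgroup Y) :=
    U.isPGroup'.to_le inf_le_left
  -- squares and commutators with the pair fall in the two-group
  have hb2 : τ b * τ b = 1 := by
    refine Loc.inf_eq_bot hTp (Loc.core_odd (τ 416)) (mul_mem hc0 hc0) ?_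
    have h1 := Involutions.Basic.inv_sq_one ht2
    rw [← hcd] at h1
    have h2 : τ b * τ b = ((τ b)⁻¹ * d0 * (τ b)⁻¹⁻¹ * d0)⁻¹ := by
      refine eq_inv_of_mul_eq_one_left ?_
      rw [← h1]; group
    rw [h2]
    exact inv_mem (mul_mem ((mem_normalizer_iff.1 (inv_mem (hTD hc0)) _).1 hd0) hd0)
  have hw416 : τ 3 * τ 416 = τ 416 * τ 3 := (F.comm qL_rep.2.2.2.2.2.2.1 hvs).2 cent_w.2.2.1
  have hbw : τ b * τ 3 = τ 3 * τ b := by
    have hwT : τ 3 ∈ ((U : Subgroup Y) ⊓ centralizer ({τ 416} : Set Y)) :=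
      ⟨F.mem 3 qL_rep.2.2.2.2.2.2.1, mem_centralizer_singleton_iff.2 hw416⟩
    have h1 : t * τ 3 = τ 3 * t := mem_centralizer_singleton_iff.1 htC
    rw [← hcd] at h1
    have h2 : (τ b)⁻¹ * τ 3 * τ b * (τ 3)⁻¹ = 1 := by
      refine Loc.inf_eq_bot hTp (Loc.core_odd (τ 416))
        (mul_mem (mul_mem (mul_mem (inv_mem hc0) hwT) hc0) (inv_mem hwT)) ?_
      have h3 : (τ b)⁻¹ * τ 3 * τ b * (τ 3)⁻¹ = d0 * (τ 3 * d0⁻¹ * (τ 3)⁻¹) := by
        calc (τ b)⁻¹ * τ 3 * τ b * (τ 3)⁻¹ = (τ b)⁻¹ * (τ 3 * (τ b * d0)) * d0⁻¹ * (τ 3)⁻¹ := by group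
          _ = (τ b)⁻¹ * (τ b * d0 * τ 3) * d0⁻¹ * (τ 3)⁻¹ := by rw [h1]
          _ = _ := by group
      rw [h3]
      exact mul_mem hd0 ((mem_normalizer_iff.1 (hTD hwT) _).1 (inv_mem hd0))
    have h4 := mul_inv_eq_one.1 h2
    rw [mul_assoc, inv_mul_eq_iff_eq_mul] at h4
    exact h4.symm
  have hb1 : τ b ≠ 1 := fun e => by
    rw [e, one_mul] at hcd
    have := Loc.odd_orderOf (Loc.core_odd _) hd0
    rw [hcd, ht2] at this
    exact absurd this (by decide)
  have hbo : orderOf (τ b) = 2 := orderOf_eq_prime (by rw [pow_two, hb2]) hb1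
  obtain ⟨e, he, hee⟩ : ∃ e ∈ zpowers (τ b * t), e * τ b * e⁻¹ = t :=
    Involutions.Basic.exists_conj_of_odd hbo ht2 (by
      rw [← hcd, ← mul_assoc, hb2, one_mul]
      exact Loc.odd_orderOf (Loc.core_odd _) hd0)
  have heD : e ∈ D := by
    rw [← hcd, ← mul_assoc, hb2, one_mul] at he
    exact zpowers_le.2 hd0 he
  have heC : e ∈ C := zpowers_le.2 (mul_mem (mem_centralizer_singleton_iff.2 hbw : τ b ∈ C) htC) he
  have heM : e ∈ uM τ := F.W_le_M (F.core_v_le_W hf heD)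
  have hx't : x' * t = t * x' := htx.eq.symm
  have fin : ∀ a, centralizer ({a} : Set Y) ≤ uM τ → x' * (e * a * e⁻¹) = e * a * e⁻¹ * x' → x' ∈ uM τ := by
    intro a ha hc'
    have h1 : e⁻¹ * x' * e ∈ centralizer ({a} : Set Y) := mem_centralizer_singleton_iff.2 (by
      calc e⁻¹ * x' * e * a = e⁻¹ * (x' * (e * a * e⁻¹)) * e := by group
        _ = e⁻¹ * (e * a * e⁻¹ * x') * e := by rw [hc']
        _ = _ := by group)
    have := (uM τ).mul_mem ((uM τ).mul_mem heM (ha h1)) ((uM τ).inv_mem heM)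
    rwa [show e * (e⁻¹ * x' * e) * e⁻¹ = x' by group] at this
  have hcm : cm b 416 = true := (F.comm hb hvs).1 (mem_centralizer_singleton_iff.1 hc0.2)
  rcases cent_416 b hb hcm ((F.comm hb qL_rep.2.2.2.2.2.2.1).1 hbw) ((F.sq_one hb).1 hb2) with hbz | hbv
  · have hz' : τ b = τ 15 ∨ τ b = τ 3 ∨ τ b = τ 12 := by
      have h19 : τ 19 = τ 3 := (F.eq_iff 19 (by decide +kernel) 3 (by decide +kernel)).2 (Or.inr (by decide +kernel))
      have h28 : τ 28 = τ 12 := (F.eq_iff 28 (by decide +kernel) 12 (by decide +kernel)).2 (Or.inr (by decide +kernel))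
      simp only [List.mem_cons, List.not_mem_nil, or_false] at hbz
      rcases hbz with rfl | rfl | rfl | rfl | rfl | rfl | rfl | rfl
      · exact absurd F.zero hb1
      · exact absurd F.z_one hb1
      · exact Or.inl rfl
      · exact Or.inl (F.code_x_eq (by simp) hb1)
      · exact Or.inr (Or.inl rfl)
      · exact Or.inr (Or.inl h19)
      · exact Or.inr (Or.inr rfl)
      · exact Or.inr (Or.inr h28)
    rcases hz' with e1 | e1 | e1
    · rw [e1] at hee
      exact fin _ F.cent_x_le_M (by rw [hee]; exact hx't)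
    · exfalso
      rw [e1, mem_centralizer_singleton_iff.1 heC, mul_inv_cancel_right] at hee
      exact htw hee.symm
    · rw [e1] at hee
      refine fin _ F.cent_x_le_M ?_
      have h12 : τ 15 = τ 3 * τ 12 := by
        rw [← F.mul_eq 3 qL_rep.2.2.2.2.2.2.1 12 qL_rep.2.2.2.2.2.2.2]
        exact ((F.eqv_eq ((sL_closed 3 qL_rep.2.2.2.2.2.2.1).2.2 12 qL_rep.2.2.2.2.2.2.2) x_facts.1).2
          small_facts.1).symm
      have he3 : e * τ 3 * e⁻¹ = τ 3 := by
        rw [mem_centralizer_singleton_iff.1 heC, mul_inv_cancel_right]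
      rw [h12, show e * (τ 3 * τ 12) * e⁻¹ = e * τ 3 * e⁻¹ * (e * τ 12 * e⁻¹) by group, he3, hee, ← mul_assoc,
        mem_centralizer_singleton_iff.1 hx'C, mul_assoc, hx't, mul_assoc]
  · exact fin _ (F.cent_v_le_M hbv) (by rw [hee]; exact hx't)

end Hyp

end Cfsg.Agent.J2Type
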