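import Mathlib
import Cfsg.Agent.Lib.J2Type.CentW

/-!
The image of the extraspecial subgroup is normal when there is no odd core.
-/

set_option autoImplicit false
set_option linter.style.haveILetI false
set_option linter.unusedSectionVars false

namespace Cfsg.Agent.J2Type

open Subgroup
open Cfsg.Agent.J2Uniq (mul inv cj)

universe u

variable {Y : Type u} [Group Y] [Finite Y]

theorem main_facts : (∀ c ∈ sL, cm c 416 = true → mul c c ∈ [0, 16] →
      c ∈ [0, 16, 15, 31, 3, 19, 12, 28] ∨ c ∈ vL) ∧ (2 : ℕ) ∈ qL ∧ (∀ b ∈ [2, 4, 8], b ∈ sgL ∧ b ∈ sL) ∧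
    (∀ b ∈ [2, 4, 8], eqv 1 b = false) ∧ (∀ p ∈ pL, p ∉ [0, 16, 15, 31]) ∧
    (∀ p ∈ pL, mul 15 p ∈ qL) := by decide +kernel

namespace Hyp

variable {U : Sylow 2 Y} {τ : ℕ → Y} (F : Hyp U τ)

include F

theorem x_mem_E : τ 15 ∈ uE τ := mem_sub_of_mem qL_lists.2.2.2.2.2

theorem code_31 : τ 31 = τ 15 := by
  rw [← List.mem_singleton.1 x_facts.2.2.2.2.2.2.2.2.2, F.mul_eq 16 sixteen_central.1 15 x_facts.1, F.z_one, one_mul]

theorem sing_cases {b : ℕ} (hb : b ∈ sgL) : τ b = τ 15 ∨ ∃ s ∈ (U : Subgroup Y), s * τ 1 * s⁻¹ = τ b := by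
  rcases sing_orbit b hb with rfl | rfl | ⟨s, hs, he⟩
  · exact Or.inl rfl
  · exact Or.inl F.code_31
  · exact Or.inr ⟨τ s, F.mem s hs, by
      rw [← F.cj_eq hs x_facts.2.2.1]
      exact (F.eqv_eq (F.cj_mem hs x_facts.2.2.1) (types_sub.1 b hb).2.1).2 he⟩

/-- The image of a singular involution under a normalizer of `E` is singular. -/
theorem conj_sing {n : Y} (hn : n ∈ normalizer (uE τ : Set Y)) {a : ℕ} (ha : a ∈ sgL) :
    ∃ b ∈ sgL, τ b = n * τ a * n⁻¹ := by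
  obtain ⟨b, hb, hbe⟩ := F.mem_E.1 ((mem_normalizer_iff.1 hn _).1 (mem_sub_of_mem (types_sub.1 a ha).1))
  exact ⟨b, F.sing a ha n b (qL_closed b hb).1 hbe.symm, hbe⟩

theorem exists_n0 : ∃ n ∈ normalizer (uE τ : Set Y), n * τ 1 * n⁻¹ = τ 15 := by
  obtain ⟨g, hg⟩ := F.fus
  obtain ⟨n, -, hn, he⟩ := F.fusion_E (K := ⊤) le_top (mem_sub_of_mem qL_lists.2.2.1) F.x_mem_E (mem_top g) hg
  exact ⟨n, hn, he⟩

theorem exists_trans {a : ℕ} (ha : a ∈ sgL) : ∃ g ∈ normalizer (uE τ : Set Y), g * τ 15 * g⁻¹ = τ a := by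
  rcases F.sing_cases ha with e | ⟨s, hs, e⟩
  · exact ⟨1, one_mem _, by rw [e, one_mul, inv_one, mul_one]⟩
  · obtain ⟨n, hn, hne⟩ := F.exists_n0
    refine ⟨s * n⁻¹, mul_mem (F.le_normalizer_E hs) (inv_mem hn), ?_⟩
    rw [← hne, ← e]; group

/-- If some element of `uM` normalizing `E` moves `x`, all of them lie in `uM`. -/
theorem NE_le_of_move {g : Y} (hgM : g ∈ uM τ) (hgN : g ∈ normalizer (uE τ : Set Y))
    (hgx : g * τ 15 * g⁻¹ ≠ τ 15) : normalizer (uE τ : Set Y) ≤ uM τ := by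
  obtain ⟨a, ha, hae⟩ := F.conj_sing hgN small_facts.2.2.2.2.2.2.2.2.2.2.1
  obtain ⟨s, hs, hse⟩ : ∃ s ∈ (U : Subgroup Y), s * τ 1 * s⁻¹ = τ a := by
    rcases F.sing_cases ha with e | h
    · exact absurd (hae.symm.trans e) hgx
    · exact h
  set m0 := s⁻¹ * g
  have hm0 : m0 * τ 15 * m0⁻¹ = τ 1 := by
    rw [show m0 * τ 15 * m0⁻¹ = s⁻¹ * (g * τ 15 * g⁻¹) * s by simp only [m0]; group, ← hae, ← hse]; group
  intro n hn
  obtain ⟨b, hb, hbe⟩ := F.conj_sing hn small_facts.2.2.2.2.2.2.2.2.2.2.1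
  rcases F.sing_cases hb with e | ⟨s', hs', hse'⟩
  · exact F.cent_x_le_M (mem_centralizer_singleton_iff.2 (mul_inv_eq_iff_eq_mul.1 (hbe.symm.trans e)))
  · have hm : s' * m0 ∈ uM τ := mul_mem (F.U_le_M hs') (mul_mem (inv_mem (F.U_le_M hs)) hgM)
    have hc : (s' * m0)⁻¹ * n ∈ centralizer ({τ 15} : Set Y) := by
      refine mem_centralizer_singleton_iff.2 (mul_inv_eq_iff_eq_mul.1 ?_)
      rw [show (s' * m0)⁻¹ * n * τ 15 * ((s' * m0)⁻¹ * n)⁻¹ = m0⁻¹ * (s'⁻¹ * (n * τ 15 * n⁻¹) * s') * m0 by group,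
        ← hbe, ← hse', show m0⁻¹ * (s'⁻¹ * (s' * τ 1 * s'⁻¹) * s') * m0 = m0⁻¹ * τ 1 * m0 by group, ← hm0]
      group
    have := mul_mem hm (F.cent_x_le_M hc)
    rwa [mul_inv_cancel_left] at this

/-- If the normalizer of `E` in `uM` fixes `x`, then `E` is normal modulo the core in the centralizer of the
pair. -/
theorem enorm_w (hfix : ∀ g ∈ uM τ, g ∈ normalizer (uE τ : Set Y) → g * τ 15 * g⁻¹ = τ 15) : ENorm τ (τ 3) := by
  classical
  haveI : Fact (Nat.Prime 2) := ⟨Nat.prime_two⟩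
  refine ⟨F.E_le_cent_w, fun g hg => ?_⟩
  set C := centralizer ({τ 3} : Set Y)
  set T := (U : Subgroup Y) ⊓ C
  have hTp : IsPGroup 2 T := U.isPGroup'.to_le inf_le_left
  set D := Loc.core (τ 3)
  have hDodd := Loc.core_odd (τ 3)
  have hED : uE τ ≤ normalizer (D : Set Y) := fun e he =>
    Loc.core_normalizer (mem_centralizer_singleton_iff.1 (F.E_le_cent_w he))
  set K := uM τ ⊓ C
  have hTK : T ≤ K := le_inf (inf_le_left.trans F.U_le_M) inf_le_right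
  have hxC : τ 15 ∈ C := F.E_le_cent_w F.x_mem_E
  have hxK : τ 15 ∈ K := ⟨F.U_le_M (F.mem 15 x_facts.1), hxC⟩
  have hEK : uE τ ≤ K := fun e he => hTK ⟨F.E_le he, F.E_le_cent_w he⟩
  have hiso : Cfsg.IsIsolatedInvolution (⟨τ 15, hxK⟩ : K) := by
    refine ⟨by rw [← Subgroup.orderOf_coe]; exact F.order_x, fun k hk => ?_⟩
    set x' := (k : Y) * τ 15 * (k : Y)⁻¹
    have hx'K : x' ∈ K := K.mul_mem (K.mul_mem k.2 hxK) (K.inv_mem k.2)
    have hcom : τ 15 * x' = x' * τ 15 := congrArg Subtype.val hk.eq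
    have hp : IsPGroup 2 (zpowers (τ 15) ⊔ zpowers x' : Subgroup Y) :=
      IsPGroup.to_sup_of_normal_left' (Loc.isPGroup_zpowers (i := 1) (by rw [F.order_x]; norm_num))
        (Loc.isPGroup_zpowers (i := 1) (by rw [Involutions.Basic.orderOf_conj, F.order_x]; norm_num))
        (zpowers_le.2 (centralizer_le_normalizer _ (mem_centralizer_iff.2 fun p hp => by
          obtain ⟨j, rfl⟩ := hp
          exact (Commute.zpow_left hcom j).eq)))
    obtain ⟨m, hm, hmT⟩ := Loc.exists_conj_into hTp hTK (fun P hP hPK => F.max_w P hP (hPK.trans inf_le_right)) hp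
      (sup_le (zpowers_le.2 hxK) (zpowers_le.2 hx'K))
    have back : ∀ c ∈ K, c * τ 15 * c⁻¹ ∈ T → c * τ 15 * c⁻¹ = τ 15 := fun c hc hcT => by
      obtain ⟨n, hnK, hn, hne⟩ := F.fusion_E hEK F.x_mem_E (F.strong F.x_mem_E hcT.1) hc rfl
      rw [← hne]
      exact hfix n hnK.1 hn
    have e1 := back m hm (hmT _ (mem_sup_left (mem_zpowers (τ 15))))
    have e2 : m * k * τ 15 * (m * k)⁻¹ = τ 15 := back _ (K.mul_mem hm k.2) (by
      rw [show m * k * τ 15 * (m * k)⁻¹ = m * x' * m⁻¹ by simp only [x']; group]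
      exact hmT _ (mem_sup_right (mem_zpowers x')))
    refine Subtype.ext ?_
    show x' = τ 15
    have e3 : m * x' * m⁻¹ = m * τ 15 * m⁻¹ := by
      rw [e1, show m * x' * m⁻¹ = m * k * τ 15 * (m * k)⁻¹ by simp only [x']; group, e2]
    exact mul_left_cancel (mul_right_cancel e3)
  set OK := (Cfsg.oddCore K).map K.subtype
  have hOKodd : Odd (Nat.card OK) := by
    rw [card_map_of_injective K.subtype_injective]; exact InvChar.Core.odd_card_oddCore
  have hOKn : ∀ k ∈ K, ∀ d ∈ OK, k * d * k⁻¹ ∈ OK := by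
    rintro k hk _ ⟨d, hd, rfl⟩
    exact ⟨⟨k, hk⟩ * d * ⟨k, hk⟩⁻¹, (Loc.oddCore_normal _).conj_mem d hd _, rfl⟩
  -- the normal closure of `x`
  set N1 := closure {p : Y | ∃ h ∈ C, p = h * τ 15 * h⁻¹}
  have hgen : ∀ h ∈ C, h * τ 15 * h⁻¹ ∈ N1 := fun h hh => subset_closure ⟨h, hh, rfl⟩
  have hN1K : N1 ≤ K := by
    refine (closure_le _).2 ?_
    rintro _ ⟨h, hh, rfl⟩
    exact ⟨F.conj_x_mem_M (mem_centralizer_singleton_iff.1 hh), C.mul_mem (C.mul_mem hh hxC) (C.inv_mem hh)⟩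
  have hN1i : ∀ c ∈ C, ∀ p ∈ N1, c * p * c⁻¹ ∈ N1 := by
    intro c hc p hp
    have hle : N1 ≤ N1.comap (MulAut.conj c).toMonoidHom := (closure_le _).2 (by
      rintro _ ⟨h, hh, rfl⟩
      show c * (h * τ 15 * h⁻¹) * c⁻¹ ∈ N1
      rw [show c * (h * τ 15 * h⁻¹) * c⁻¹ = c * h * τ 15 * (c * h)⁻¹ by group]
      exact hgen _ (C.mul_mem hc hh))
    exact hle hp
  have hcomm : ∀ h ∈ C, ∀ b ∈ N1, h * τ 15 * h⁻¹ * b * (h * τ 15 * h⁻¹)⁻¹ * b⁻¹ ∈ D := by
    have hO1 : OK ⊓ N1 ≤ D :=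
      Loc.le_core_of_invariant (hN1K.trans inf_le_right) (fun c hc => hN1i c (mem_centralizer_singleton_iff.2 hc))
        inf_le_right (hOKodd.of_dvd_nat (card_dvd_of_le inf_le_left))
        fun k hk d hd => ⟨hOKn k (hN1K hk) d hd.1, N1.mul_mem (N1.mul_mem hk hd.2) (N1.inv_mem hk)⟩
    intro h hh b hb
    have hb' : h⁻¹ * b * h ∈ N1 := by simpa using hN1i h⁻¹ (C.inv_mem hh) b hb
    have hz := ZStar.Main.commutator_mem_oddCore hiso ⟨_, hN1K hb'⟩
    have hx1 : τ 15 ∈ N1 := by simpa using hgen 1 C.one_mem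
    have h1 : τ 15 * (h⁻¹ * b * h) * (τ 15)⁻¹ * (h⁻¹ * b * h)⁻¹ ∈ D :=
      hO1 ⟨⟨_, hz, rfl⟩, N1.mul_mem (N1.mul_mem (N1.mul_mem hx1 hb') (N1.inv_mem hx1)) (N1.inv_mem hb')⟩
    have h2 := Loc.core_conj_mem (mem_centralizer_singleton_iff.1 hh) h1
    rwa [show h * (τ 15 * (h⁻¹ * b * h) * (τ 15)⁻¹ * (h⁻¹ * b * h)⁻¹) * h⁻¹ =
      h * τ 15 * h⁻¹ * b * (h * τ 15 * h⁻¹)⁻¹ * b⁻¹ by group] at h2
  -- every conjugate of `x` lies in `E` modulo the core
  haveI : (D.subgroupOf C).Normal :=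
    ⟨fun y hy c => Loc.core_conj_mem (mem_centralizer_singleton_iff.1 c.2) hy⟩
  set π := QuotientGroup.mk' (D.subgroupOf C)
  have hπ : ∀ a : C, π a = 1 ↔ (a : Y) ∈ D := fun a => (QuotientGroup.eq_one_iff a).trans Iff.rfl
  set P := (N1.subgroupOf C).map π
  haveI hPn : P.Normal := by
    haveI : (N1.subgroupOf C).Normal := ⟨fun y hy c => hN1i c c.2 y hy⟩
    exact Subgroup.Normal.map inferInstance π (QuotientGroup.mk'_surjective _)
  have hPsq : ∀ a : Y, a ∈ N1 → a * a ∈ D ∧ ∀ b ∈ N1, a * b * a⁻¹ * b⁻¹ ∈ D := by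
    intro a ha
    induction ha using closure_induction with
    | mem p hp =>
      obtain ⟨h, hh, rfl⟩ := hp
      refine ⟨?_, hcomm h hh⟩
      rw [show h * τ 15 * h⁻¹ * (h * τ 15 * h⁻¹) = h * (τ 15 * τ 15) * h⁻¹ by group,
        Involutions.Basic.inv_sq_one F.order_x, mul_one, mul_inv_cancel]
      exact one_mem D
    | one => exact ⟨by simp, fun b _ => by simp⟩
    | mul a b ha hb iha ihb =>
      have hac : a ∈ C := (hN1K ha).2
      have hconjD : ∀ d ∈ D, a * d * a⁻¹ ∈ D := fun d hd =>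
        Loc.core_conj_mem (mem_centralizer_singleton_iff.1 hac) hd
      refine ⟨?_, fun c hc => ?_⟩
      · have hbC : b ∈ C := (hN1K hb).2
        have h1 : b * a * b⁻¹ * a⁻¹ ∈ D := ihb.2 a ha
        have h2 := D.mul_mem (D.mul_mem (hconjD _ h1) iha.1) ihb.1
        rwa [show a * (b * a * b⁻¹ * a⁻¹) * a⁻¹ * (a * a) * (b * b) = a * b * (a * b) by group] at h2
      · have h2 := D.mul_mem (hconjD _ (ihb.2 c hc)) (iha.2 c hc)
        rwa [show a * (b * c * b⁻¹ * c⁻¹) * a⁻¹ * (a * c * a⁻¹ * c⁻¹) = a * b * c * (a * b)⁻¹ * c⁻¹ by group] at h2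
    | inv a ha iha =>
      have hac : a⁻¹ ∈ C := C.inv_mem (hN1K ha).2
      refine ⟨?_, fun c hc => ?_⟩
      · simpa [mul_inv_rev] using D.inv_mem iha.1
      · have h2 := Loc.core_conj_mem (mem_centralizer_singleton_iff.1 hac) (D.inv_mem (iha.2 c hc))
        rwa [show a⁻¹ * (a * c * a⁻¹ * c⁻¹)⁻¹ * a⁻¹⁻¹ = a⁻¹ * c * a⁻¹⁻¹ * c⁻¹ by group] at h2
  obtain ⟨T0, hT0⟩ := (hTp.comap_subtype : IsPGroup 2 (T.subgroupOf C)).exists_le_sylow
  have hT0T : ∀ p : C, p ∈ (T0 : Subgroup C) → (p : Y) ∈ T := by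
    intro p hp
    have heq : T = (T0 : Subgroup C).map C.subtype := eq_of_le_of_card_ge (fun s hs => ⟨⟨s, hs.2⟩, hT0 hs, rfl⟩)
      (F.max_w _ (T0.isPGroup'.map _) (map_subtype_le _))
    rw [heq]; exact ⟨p, hp, rfl⟩
  have hPT : P ≤ (T0.mapSurjective (f := π) (QuotientGroup.mk'_surjective _) : Subgroup (C ⧸ D.subgroupOf C)) := by
    have hP2 : IsPGroup 2 P := by
      refine fun q => ⟨1, Subtype.ext ?_⟩
      obtain ⟨p, hp, hpe⟩ := q.2
      rw [Subgroup.coe_pow, pow_one, pow_two, ← hpe, ← map_mul, Subgroup.coe_one, hπ]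
      exact (hPsq p hp).1
    have h := IsPGroup.to_sup_of_normal_right (T0.mapSurjective (f := π) (QuotientGroup.mk'_surjective _)).isPGroup' hP2
    exact le_sup_right.trans ((T0.mapSurjective (f := π) (QuotientGroup.mk'_surjective _)).3 h le_sup_left).le
  have hxE : ∀ h ∈ C, ∃ e ∈ uE τ, e⁻¹ * (h * τ 15 * h⁻¹) ∈ D := by
    intro h hh
    set x' := h * τ 15 * h⁻¹
    have hx'C : x' ∈ C := C.mul_mem (C.mul_mem hh hxC) (C.inv_mem hh)
    obtain ⟨t, ht, hte⟩ := hPT ⟨⟨x', hx'C⟩, hgen h hh, rfl⟩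
    have htT := hT0T t ht
    have hd : (t : Y)⁻¹ * x' ∈ D := mem_subgroupOf.1 (QuotientGroup.eq.1 hte)
    refine ⟨t, ?_, hd⟩
    have hx'2 : orderOf x' = 2 := by rw [Involutions.Basic.orderOf_conj, F.order_x]
    have hTD : T ≤ normalizer (D : Set Y) := fun s hs => Loc.core_normalizer (mem_centralizer_singleton_iff.1 hs.2)
    have ht2 : (t : Y) * t = 1 := by
      refine Loc.inf_eq_bot hTp hDodd (T.mul_mem htT htT) ?_
      have h1 := (mem_normalizer_iff.1 (hTD htT) _).1 (D.mul_mem hd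
        ((mem_normalizer_iff.1 (Loc.core_normalizer (mem_centralizer_singleton_iff.1 hx'C)) _).1 hd))
      rw [show (t : Y) * ((t : Y)⁻¹ * x' * (x' * ((t : Y)⁻¹ * x') * x'⁻¹)) * (t : Y)⁻¹ =
        x' * x' * (t : Y)⁻¹ * (t : Y)⁻¹ by group, Involutions.Basic.inv_sq_one hx'2, one_mul] at h1
      have h2 := D.inv_mem h1
      rwa [mul_inv_rev, inv_inv] at h2
    have ht1 : (t : Y) ≠ 1 := fun e => by
      rw [e, inv_one, one_mul] at hd
      have := Loc.odd_orderOf hDodd hd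
      rw [hx'2] at this
      exact absurd this (by decide)
    have hto : orderOf (t : Y) = 2 := orderOf_eq_prime (by rw [pow_two, ht2]) ht1
    obtain ⟨d, -, hde⟩ := Involutions.Basic.exists_conj_of_odd hx'2 hto (by
      have h3 := D.inv_mem hd
      rw [mul_inv_rev, inv_inv, Involutions.Basic.inv_eq hx'2] at h3
      exact Loc.odd_orderOf hDodd h3)
    have h4 : d * h * τ 15 * (d * h)⁻¹ = (t : Y) := by rw [← hde]; simp only [x']; group
    rw [← h4]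
    exact F.strong F.x_mem_E (by rw [h4]; exact htT.1)
  -- the centralizer of the normal closure modulo the core
  set C1 : Subgroup Y := ⨅ h : C, Loc.fixMod (τ 3) ((h : Y) * τ 15 * (h : Y)⁻¹)
  have hC1C : C1 ≤ C := fun c hc => mem_centralizer_singleton_iff.2 ((mem_iInf.1 hc) 1).1
  have hC1i : ∀ c ∈ C, ∀ k ∈ C1, c * k * c⁻¹ ∈ C1 := by
    intro c hc k hk
    refine mem_iInf.2 fun h => ⟨mem_centralizer_singleton_iff.1 (C.mul_mem (C.mul_mem hc (hC1C hk)) (C.inv_mem hc)), ?_⟩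
    have h1 := ((mem_iInf.1 hk) ⟨c⁻¹ * h, C.mul_mem (C.inv_mem hc) h.2⟩).2
    have h2 := Loc.core_conj_mem (mem_centralizer_singleton_iff.1 hc) h1
    rwa [show c * (k * (c⁻¹ * (h : Y) * τ 15 * (c⁻¹ * (h : Y))⁻¹) * k⁻¹ * (c⁻¹ * (h : Y) * τ 15 * (c⁻¹ * (h : Y))⁻¹)⁻¹) * c⁻¹ =
      c * k * c⁻¹ * ((h : Y) * τ 15 * (h : Y)⁻¹) * (c * k * c⁻¹)⁻¹ * ((h : Y) * τ 15 * (h : Y)⁻¹)⁻¹ by group] at h2
  have hEC1 : uE τ ≤ C1 := by
    intro e he
    refine mem_iInf.2 fun h => ⟨mem_centralizer_singleton_iff.1 (F.E_le_cent_w he), ?_⟩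
    obtain ⟨t, ht, htd⟩ := hxE h h.2
    set d := t⁻¹ * ((h : Y) * τ 15 * (h : Y)⁻¹)
    have h1 := (mem_normalizer_iff.1 (hED ht) _).1
      (D.mul_mem ((mem_normalizer_iff.1 (hED he) _).1 htd) (D.inv_mem htd))
    rw [show t * (e * d * e⁻¹ * d⁻¹) * t⁻¹ = t * e * (d * e⁻¹ * d⁻¹) * t⁻¹ by group, ← F.E_comm he ht] at h1
    rwa [show e * t * (d * e⁻¹ * d⁻¹) * t⁻¹ =
      e * ((h : Y) * τ 15 * (h : Y)⁻¹) * e⁻¹ * ((h : Y) * τ 15 * (h : Y)⁻¹)⁻¹ by simp only [d]; group] at h1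
  have hXp : IsPGroup 2 (zpowers (τ 15)) := Loc.isPGroup_zpowers (i := 1) (by rw [F.order_x]; norm_num)
  have hXD : zpowers (τ 15) ≤ normalizer (D : Set Y) :=
    zpowers_le.2 (Loc.core_normalizer (mem_centralizer_singleton_iff.1 hxC))
  -- elements of `C1` are in the core times the centralizer of `x`
  have hfr : ∀ c ∈ C1, ∃ d ∈ D, d * c * τ 15 = τ 15 * (d * c) := by
    intro c hc
    have h1 := ((mem_iInf.1 hc) 1).2
    simp only [OneMemClass.coe_one, one_mul, inv_one, mul_one] at h1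
    have h2 : c * τ 15 * c⁻¹ ∈ zpowers (τ 15) ⊔ D := by
      have := mul_mem (mem_sup_right (S := zpowers (τ 15)) h1) (mem_sup_left (T := D) (mem_zpowers (τ 15)))
      rwa [inv_mul_cancel_right] at this
    obtain ⟨d, hd, hdn⟩ := Loc.exists_mul_normalizer (g := c) hXp hDodd hXD fun t ht => by
      obtain ⟨j, rfl⟩ := ht
      show c * τ 15 ^ j * c⁻¹ ∈ zpowers (τ 15) ⊔ D
      rw [← conj_zpow]
      exact zpow_mem h2 j
    refine ⟨d, hd, ?_⟩
    obtain ⟨j, hj⟩ := (mem_normalizer_iff.1 hdn _).1 (mem_zpowers (τ 15))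
    have hj' : τ 15 ^ j = d * c * τ 15 * (d * c)⁻¹ := hj
    rcases Int.even_or_odd j with ⟨m, hm⟩ | ⟨m, hm⟩
    · exfalso
      rw [hm, ← two_mul, zpow_mul, zpow_two, Involutions.Basic.inv_sq_one F.order_x, one_zpow] at hj'
      exact Involutions.Basic.ne_one F.order_x (conj_eq_one_iff.1 hj'.symm)
    · rw [hm, zpow_add_one, zpow_mul, zpow_two, Involutions.Basic.inv_sq_one F.order_x, one_zpow, one_mul] at hj'
      exact (mul_inv_eq_iff_eq_mul.1 hj'.symm)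
  set D2 := Loc.core (τ 15) ⊓ C1
  have hD2 : D2 ≤ D := by
    have hN2 : D2 ⊔ D ≤ C := sup_le (inf_le_right.trans hC1C) (Loc.core_le _)
    have hDC1 : D ≤ C1 := fun d hd => mem_iInf.2 fun h => ⟨mem_centralizer_singleton_iff.1 (Loc.core_le _ hd), by
      have hx'C : (h : Y) * τ 15 * (h : Y)⁻¹ ∈ C := C.mul_mem (C.mul_mem h.2 hxC) (C.inv_mem h.2)
      have h1 := D.mul_mem hd (Loc.core_conj_mem (mem_centralizer_singleton_iff.1 hx'C) (D.inv_mem hd))
      rwa [show d * ((h : Y) * τ 15 * (h : Y)⁻¹ * d⁻¹ * ((h : Y) * τ 15 * (h : Y)⁻¹)⁻¹) =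
        d * ((h : Y) * τ 15 * (h : Y)⁻¹) * d⁻¹ * ((h : Y) * τ 15 * (h : Y)⁻¹)⁻¹ by group] at h1⟩
    refine le_trans le_sup_left (Loc.le_core_of_invariant (K := C1) hC1C
      (fun c hc => hC1i c (mem_centralizer_singleton_iff.2 hc)) (sup_le inf_le_right hDC1)
      (Loc.odd_sup ((Loc.core_odd (τ 15)).of_dvd_nat (card_dvd_of_le inf_le_left)) hDodd fun t ht =>
        Loc.core_normalizer (mem_centralizer_singleton_iff.1 (hC1C ht.2))) ?_)
    intro c hc
    obtain ⟨d, hd, hdc⟩ := hfr c hc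
    have hdc1 : d * c ∈ C1 := C1.mul_mem (hDC1 hd) hc
    have hN : d * c ∈ normalizer (D2 : Set Y) := by
      refine mem_normalizer_iff.2 fun t => ⟨fun ht => ⟨Loc.core_conj_mem hdc ht.1,
        C1.mul_mem (C1.mul_mem hdc1 ht.2) (C1.inv_mem hdc1)⟩, fun ht => ?_⟩
      have h1 : (d * c)⁻¹ * τ 15 = τ 15 * (d * c)⁻¹ := by
        rw [inv_mul_eq_iff_eq_mul, ← mul_assoc, hdc, mul_inv_cancel_right]
      have h2 := Loc.core_conj_mem h1 ht.1
      have h3 := C1.mul_mem (C1.mul_mem (C1.inv_mem hdc1) ht.2) hdc1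
      rw [show (d * c)⁻¹ * (d * c * t * (d * c)⁻¹) * ((d * c)⁻¹)⁻¹ = t by group] at h2
      rw [show (d * c)⁻¹ * (d * c * t * (d * c)⁻¹) * (d * c) = t by group] at h3
      exact ⟨h2, h3⟩
    have hN' : d * c ∈ normalizer ((D2 ⊔ D : Subgroup Y) : Set Y) :=
      SolvableSignalizer.le_normalizer_sup (H := zpowers (d * c)) (zpowers_le.2 hN)
        (zpowers_le.2 (Loc.core_normalizer (mem_centralizer_singleton_iff.1 (hC1C hdc1)))) (mem_zpowers _)
    have hd' : d ∈ normalizer ((D2 ⊔ D : Subgroup Y) : Set Y) := le_normalizer (mem_sup_right hd)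
    have hc' : c ∈ normalizer ((D2 ⊔ D : Subgroup Y) : Set Y) := by simpa using mul_mem (inv_mem hd') hN'
    exact fun t ht => (mem_normalizer_iff.1 hc' t).1 ht
  -- `C1` normalizes `E` modulo the core
  have hC1E : ∀ c ∈ C1, ∀ e ∈ uE τ, c * e * c⁻¹ ∈ uE τ ⊔ D := by
    intro c hc e he
    obtain ⟨d, hd, hdc⟩ := hfr c hc
    set k := d * c
    have hNx := F.enorm_x
    obtain ⟨e1, he1, d1, hd1, he1d⟩ := Loc.mem_sup_iff (F.E_le_normalizer_core hNx) (hNx.2 k hdc e he)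
    have hd1D : d1 ∈ D := hD2 ⟨hd1, by
      have hdC1 : d ∈ C1 := mem_iInf.2 fun h => ⟨mem_centralizer_singleton_iff.1 (Loc.core_le _ hd), by
        have hx'C : (h : Y) * τ 15 * (h : Y)⁻¹ ∈ C := C.mul_mem (C.mul_mem h.2 hxC) (C.inv_mem h.2)
        have h1 := D.mul_mem hd (Loc.core_conj_mem (mem_centralizer_singleton_iff.1 hx'C) (D.inv_mem hd))
        rwa [show d * ((h : Y) * τ 15 * (h : Y)⁻¹ * d⁻¹ * ((h : Y) * τ 15 * (h : Y)⁻¹)⁻¹) =
          d * ((h : Y) * τ 15 * (h : Y)⁻¹) * d⁻¹ * ((h : Y) * τ 15 * (h : Y)⁻¹)⁻¹ by group] at h1⟩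
      have hk1 : k ∈ C1 := C1.mul_mem hdC1 hc
      have h1 := C1.mul_mem (C1.inv_mem (hEC1 he1))
        (C1.mul_mem (C1.mul_mem hk1 (hEC1 he)) (C1.inv_mem hk1))
      rwa [← he1d, inv_mul_cancel_left] at h1⟩
    have := mul_mem (mul_mem (mem_sup_right (S := uE τ) (D.inv_mem hd))
      (mul_mem (mem_sup_left (T := D) he1) (mem_sup_right (S := uE τ) hd1D))) (mem_sup_right (S := uE τ) hd)
    rwa [he1d, show d⁻¹ * (k * e * k⁻¹) * d = c * e * c⁻¹ by simp only [k]; group] at this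
  -- conjugates of `E` inside `C1`
  intro e he
  have hgC : g ∈ C := mem_centralizer_singleton_iff.2 hg
  set y := g * e * g⁻¹
  have hy : y ∈ C1 := hC1i g hgC e (hEC1 he)
  obtain ⟨P2, hP2⟩ := ((F.E_p).comap_subtype : IsPGroup 2 ((uE τ).subgroupOf C1)).exists_le_sylow
  obtain ⟨i, hi⟩ : ∃ i, orderOf y ∣ 2 ^ i :=
    ⟨1, orderOf_dvd_of_pow_eq_one (by
      rw [pow_one, pow_two, show y * y = g * (e * e) * g⁻¹ by simp only [y]; group, F.E_sq he, mul_one,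
        mul_inv_cancel])⟩
  obtain ⟨Q, hQ⟩ := ((Loc.isPGroup_zpowers hi).comap_subtype :
    IsPGroup 2 ((zpowers y).subgroupOf C1)).exists_le_sylow
  obtain ⟨k, hk⟩ := MulAction.exists_smul_eq C1 Q P2
  have hk2 : (k : Y) * y * (k : Y)⁻¹ ∈ (P2 : Subgroup C1).map C1.subtype := by
    refine ⟨k * ⟨y, hy⟩ * k⁻¹, ?_, rfl⟩
    rw [← hk, Sylow.coe_subgroup_smul]
    exact ⟨_, hQ (mem_subgroupOf.2 (mem_zpowers y)), rfl⟩
  obtain ⟨m, hm⟩ := F.exists_conj_le (P2.isPGroup'.map C1.subtype)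
  have hEm : ∀ t ∈ uE τ, t ∈ (P2 : Subgroup C1).map C1.subtype := fun t ht =>
    ⟨⟨t, hEC1 ht⟩, hP2 (mem_subgroupOf.2 ht), rfl⟩
  have hmN : m ∈ normalizer (uE τ : Set Y) := F.mem_normalizer_of_le fun t ht => hm ⟨t, hEm t ht, rfl⟩
  have hmy : m * ((k : Y) * y * (k : Y)⁻¹) * m⁻¹ ∈ uE τ := by
    have h1 : m * (k : Y) * g * e * (m * (k : Y) * g)⁻¹ = m * ((k : Y) * y * (k : Y)⁻¹) * m⁻¹ := by
      simp only [y]; group
    rw [← h1]
    exact F.strong he (by rw [h1]; exact hm ⟨_, hk2, rfl⟩)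
  have hkE : (k : Y) * y * (k : Y)⁻¹ ∈ uE τ := (mem_normalizer_iff.1 hmN _).2 hmy
  have hres := hC1E _ (C1.inv_mem k.2) _ hkE
  rwa [show (k : Y)⁻¹ * ((k : Y) * y * (k : Y)⁻¹) * (k : Y)⁻¹⁻¹ = y by group] at hres

theorem enorm_conj {a n : Y} (hN : ENorm τ a) (hn : n ∈ normalizer (uE τ : Set Y)) : ENorm τ (n * a * n⁻¹) := by
  have hback : ∀ e ∈ uE τ, n⁻¹ * e * n ∈ uE τ := fun e he => by
    have := (mem_normalizer_iff.1 (inv_mem hn) e).1 he
    rwa [inv_inv] at this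
  refine ⟨fun e he => mem_centralizer_singleton_iff.2 ?_, fun g hg e he => ?_⟩
  · have h1 := mem_centralizer_singleton_iff.1 (hN.1 (hback e he))
    calc e * (n * a * n⁻¹) = n * (n⁻¹ * e * n * a) * n⁻¹ := by group
      _ = n * (a * (n⁻¹ * e * n)) * n⁻¹ := by rw [h1]
      _ = _ := by group
  · have hg' : n⁻¹ * g * n * a = a * (n⁻¹ * g * n) := by
      calc n⁻¹ * g * n * a = n⁻¹ * (g * (n * a * n⁻¹)) * n := by group
        _ = n⁻¹ * (n * a * n⁻¹ * g) * n := by rw [hg]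
        _ = _ := by group
    obtain ⟨t, ht, d, hd, htd⟩ := Loc.mem_sup_iff (F.E_le_normalizer_core hN) (hN.2 _ hg' _ (hback e he))
    have h2 := mul_mem (mem_sup_left (T := Loc.core (n * a * n⁻¹)) ((mem_normalizer_iff.1 hn t).1 ht))
      (mem_sup_right (S := uE τ) (Loc.core_map (g := n) hd))
    rwa [show n * t * n⁻¹ * (n * d * n⁻¹) = n * (t * d) * n⁻¹ by group, htd,
      show n * (n⁻¹ * g * n * (n⁻¹ * e * n) * (n⁻¹ * g * n)⁻¹) * n⁻¹ = g * e * g⁻¹ by group] at h2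

theorem pair_trans {p : ℕ} (hp : p ∈ pL) : ∃ g ∈ normalizer (uE τ : Set Y), g * τ 3 * g⁻¹ = τ p := by
  obtain ⟨n, hn, hne⟩ := F.exists_n0
  obtain ⟨-, h12, -, -, -, -, -, -, h1s, h2s, h15s, -⟩ := small_facts
  have him : ∀ j ∈ [2, 4, 8], ∃ b ∈ sgL, b ∉ [15, 31] ∧ n * (τ 1 * τ j) * n⁻¹ = τ (mul 15 b) := by
    intro j hj
    obtain ⟨hjs, hjS⟩ := main_facts.2.2.1 j hj
    obtain ⟨b, hb, hbe⟩ := F.conj_sing hn hjs
    refine ⟨b, hb, fun h => ?_, ?_⟩
    · have hb15 : τ b = τ 15 := by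
        rcases List.mem_pair.1 h with rfl | rfl
        · rfl
        · exact F.code_31
      rw [hb15, ← hne] at hbe
      have h5 := (F.eqv_eq x_facts.2.2.1 hjS).1 (mul_left_cancel (mul_right_cancel hbe))
      rw [main_facts.2.2.2.1 j hj] at h5
      exact Bool.false_ne_true h5
    · rw [F.mul_eq 15 x_facts.1 b (types_sub.1 b hb).2.1, show n * (τ 1 * τ j) * n⁻¹ = n * τ 1 * n⁻¹ * (n * τ j * n⁻¹) by
        group, hne, hbe]
  have h3 : τ 3 = τ 1 * τ 2 := by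
    rw [← F.mul_eq 1 x_facts.2.2.1 2 (types_sub.1 2 h2s).2.1]
    exact ((F.eqv_eq ((sL_closed 1 x_facts.2.2.1).2.2 2 (types_sub.1 2 h2s).2.1) qL_rep.2.2.2.2.2.2.1).2 h12).symm
  obtain ⟨b0, hb0, hb0n, he0⟩ := him 2 (by simp)
  rw [← h3] at he0
  have hconjp : ∀ q ∈ pL, (∃ c ∈ sgL, c ∉ [15, 31] ∧ eqv (mul 15 c) q = true) →
      ∃ g ∈ normalizer (uE τ : Set Y), g * τ 3 * g⁻¹ = τ q := by
    intro q hq hc
    obtain ⟨s, hs, he⟩ := pair_x b0 hb0 hb0n q hq hc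
    have hbs := (sL_closed 15 x_facts.1).2.2 b0 (types_sub.1 b0 hb0).2.1
    refine ⟨τ s * n, mul_mem (F.le_normalizer_E (F.mem s hs)) hn, ?_⟩
    rw [show τ s * n * τ 3 * (τ s * n)⁻¹ = τ s * (n * τ 3 * n⁻¹) * (τ s)⁻¹ by group, he0, ← F.cj_eq hs hbs]
    exact (F.eqv_eq (F.cj_mem hs hbs) (types_sub.2.1 q hq).2.1).2 he
  rcases pair_cases p hp with h | ⟨s, hs, j, hj, he⟩
  · exact hconjp p hp h
  · obtain ⟨b, hb, hbn, hbe⟩ := him j hj
    have hjS := (main_facts.2.2.1 j hj).2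
    have hbs := (sL_closed 15 x_facts.1).2.2 b (types_sub.1 b hb).2.1
    have hq : mul 15 b ∈ pL := by
      have h1 : mul 1 j ∈ sL := (sL_closed 1 x_facts.2.2.1).2.2 j hjS
      refine F.pair (mul 1 j) (mul_one_pair j hj) n _ hbs ?_
      rw [F.mul_eq 1 x_facts.2.2.1 j hjS, hbe]
    obtain ⟨g, hg, hge⟩ := hconjp _ hq ⟨b, hb, hbn, eqv_iff.2 (Or.inl rfl)⟩
    refine ⟨τ s * (n⁻¹ * g), mul_mem (F.le_normalizer_E (F.mem s hs)) (mul_mem (inv_mem hn) hg), ?_⟩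
    rw [show τ s * (n⁻¹ * g) * τ 3 * (τ s * (n⁻¹ * g))⁻¹ = τ s * (n⁻¹ * (g * τ 3 * g⁻¹) * n) * (τ s)⁻¹ by group,
      hge, ← hbe, show n⁻¹ * (n * (τ 1 * τ j) * n⁻¹) * n = τ 1 * τ j by group,
      ← F.mul_eq 1 x_facts.2.2.1 j hjS, ← F.cj_eq hs ((sL_closed 1 x_facts.2.2.1).2.2 j hjS)]
    exact (F.eqv_eq (F.cj_mem hs ((sL_closed 1 x_facts.2.2.1).2.2 j hjS)) (types_sub.2.1 p hp).2.1).2 he
where
  mul_one_pair : ∀ j ∈ [2, 4, 8], mul 1 j ∈ pL := by decide +kernel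

/-- The normalizer of `E` lies in `uM`. -/
theorem NE_le_M : normalizer (uE τ : Set Y) ≤ uM τ := by
  classical
  by_cases hmove : ∃ g ∈ uM τ, g ∈ normalizer (uE τ : Set Y) ∧ g * τ 15 * g⁻¹ ≠ τ 15
  · obtain ⟨g, hg, hgN, hgx⟩ := hmove
    exact F.NE_le_of_move hg hgN hgx
  push Not at hmove
  have hw := F.enorm_w hmove
  have hall : ∀ b ∈ uE τ, b ≠ 1 → ENorm τ b := by
    intro b hb hb1
    obtain ⟨a, ha, rfl⟩ := F.mem_E.1 hb
    rcases qL_cases a ha with h | h | h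
    · exact absurd ((F.eq_one (qL_closed a ha).1).2 h) hb1
    · obtain ⟨g, hg, hge⟩ := F.exists_trans h
      rw [← hge]
      exact F.enorm_conj F.enorm_x hg
    · obtain ⟨g, hg, hge⟩ := F.pair_trans h
      rw [← hge]
      exact F.enorm_conj hw hg
  have hEel : Cfsg.IsElementaryAbelian 2 (uE τ) :=
    ⟨⟨⟨fun a b => Subtype.ext (F.E_comm a.2 b.2)⟩⟩, fun a ha => by rw [pow_two, F.E_sq ha]⟩
  set WE := Loc.wJoin (uE τ)
  have hWEo : Odd (Nat.card WE) := Loc.wJoin_odd hEel (by rw [F.card_E]; norm_num) fun a ha _ b hb hb1 =>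
    F.inf_core_le (hall b hb hb1) (le_normalizer ha) (F.E_sq ha) (F.E_comm ha hb)
  have hNWE : ∀ n ∈ normalizer (uE τ : Set Y), n ∈ normalizer (WE : Set Y) := fun n hn =>
    mem_normalizer_iff.2 fun x => ⟨Loc.normalizes_wJoin (fun a ha => (mem_normalizer_iff.1 hn a).1 ha) x, fun hx => by
      have := Loc.normalizes_wJoin (g := n⁻¹) (fun a ha => (mem_normalizer_iff.1 (inv_mem hn) a).1 ha) _ hx
      rwa [show n⁻¹ * (n * x * n⁻¹) * n⁻¹⁻¹ = x by group] at this⟩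
  have hle : uW τ ≤ WE := by
    refine iSup_le fun a => ?_
    rcases F.A_cases a.2.1 a.2.2 with e | ⟨f, hf, -, e⟩
    · rw [e]; exact Loc.le_wJoin F.x_mem_E (Involutions.Basic.ne_one F.order_x)
    · rw [← e]
      obtain ⟨p, hp, hcp⟩ := cent_pair f hf
      have hfs := (types_sub.2.2 f hf).2.1
      obtain ⟨hpq, hps, hp2, hp0, hp16⟩ := types_sub.2.1 p hp
      have hpE : τ p ∈ uE τ := mem_sub_of_mem hpq
      have hpo := F.orderOf_two hps hp2 hp0 hp16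
      have hne : τ 15 ≠ τ p := fun e' => by
        have h5 := (F.eq_iff 15 x_facts.1 p hps).1 e'
        rcases h5 with rfl | h5
        · exact main_facts.2.2.2.2.1 15 hp (by simp)
        · rw [← h5] at hp
          exact main_facts.2.2.2.2.1 _ hp (by decide +kernel)
      have hfE : τ f ∈ normalizer (uE τ : Set Y) := F.le_normalizer_E (F.mem f hfs)
      have hf2 := Involutions.Basic.inv_sq_one (F.order_v hf)
      have hfp : τ f * τ p = τ p * τ f := (F.comm hfs hps).2 hcp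
      refine Loc.gen_four F.order_x hpo hne (F.E_comm F.x_mem_E hpE) (Loc.core_odd _)
        (Loc.core_normalizer (F.comm_x_v hf).symm) (Loc.core_normalizer hfp.symm) fun x hx h => ?_
      have key : ∀ b ∈ uE τ, b ≠ 1 → τ f * b = b * τ f → x * b = b * x → x ∈ WE := fun b hb hb1 hfb hxb =>
        Loc.le_wJoin hb hb1 (F.inf_core_le (hall b hb hb1) hfE hf2 hfb ⟨hx, mem_centralizer_singleton_iff.2 hxb⟩)
      rcases h with h | h | h
      · exact key _ F.x_mem_E (Involutions.Basic.ne_one F.order_x) (F.comm_x_v hf) h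
      · exact key _ hpE (Involutions.Basic.ne_one hpo) hfp h
      · refine key _ (mul_mem F.x_mem_E hpE) (fun e' => hne ?_) ?_ h
        · rw [← inv_eq_of_mul_eq_one_right e', Involutions.Basic.inv_eq F.order_x]
        · rw [← mul_assoc, F.comm_x_v hf, mul_assoc, hfp, mul_assoc]
  have hge : WE ≤ uW τ := by
    have h4 : (416 : ℕ) ∈ vL := small_facts.2.2.2.2.2.1
    have hxv : mul 15 416 ∈ vL := x_facts.2.2.2.2.2.2.2.2.1
    have hxW := F.x_mem_E
    have hne : τ 15 ≠ τ 416 := fun e => by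
      have := hxW
      rw [e, F.mem_E_code qL_rep.2.2.2.2.2.1] at this
      exact (types_sub.2.2 416 h4).1 this
    refine Loc.gen_four F.order_x (F.order_v h4) hne (F.comm_x_v h4).symm hWEo
      (hNWE _ (le_normalizer hxW)) (hNWE _ (F.le_normalizer_E (F.mem 416 qL_rep.2.2.2.2.2.1))) fun x hx h => ?_
    rcases h with h | h | h
    · refine F.core_x_le_W (F.balance F.enorm_x (f := 1) (one_mem _) (one_mul 1) (by simp)
        (X := WE ⊓ centralizer ({τ 15} : Set Y)) inf_le_right ?_ (hWEo.of_dvd_nat (card_dvd_of_le inf_le_left)) ?_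
        ⟨hx, mem_centralizer_singleton_iff.2 h⟩)
      · intro y _; exact mem_centralizer_singleton_iff.2 (by simp)
      · intro b hb _ y hy
        exact ⟨(mem_normalizer_iff.1 (hNWE b (le_normalizer hb)) y).1 hy.1,
          (centralizer ({τ 15} : Set Y)).mul_mem ((centralizer ({τ 15} : Set Y)).mul_mem (F.enorm_x.1 hb) hy.2)
            ((centralizer ({τ 15} : Set Y)).inv_mem (F.enorm_x.1 hb))⟩
    · exact F.core_v_le_W h4 (F.cent_v_odd h4 h (Loc.odd_orderOf hWEo hx))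
    · rw [← F.mul_eq 15 x_facts.1 416 qL_rep.2.2.2.2.2.1] at h
      exact F.core_v_le_W hxv (F.cent_v_odd hxv h (Loc.odd_orderOf hWEo hx))
  have heq : uW τ = WE := le_antisymm hle hge
  unfold uM
  rw [heq]
  exact SolvableSignalizer.le_normalizer_sup le_rfl hNWE

theorem mem_M_of_conj {g : Y} (h : g * τ 15 * g⁻¹ ∈ (U : Subgroup Y)) : g ∈ uM τ := by
  obtain ⟨n, -, hn, hne⟩ := F.fusion_E (K := ⊤) le_top F.x_mem_E (F.strong F.x_mem_E h) (mem_top g) rfl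
  have hc : n⁻¹ * g ∈ centralizer ({τ 15} : Set Y) := by
    refine mem_centralizer_singleton_iff.2 (mul_inv_eq_iff_eq_mul.1 ?_)
    rw [show n⁻¹ * g * τ 15 * (n⁻¹ * g)⁻¹ = n⁻¹ * (g * τ 15 * g⁻¹) * n by group, ← hne]
    group
  simpa using mul_mem (F.NE_le_M hn) (F.cent_x_le_M hc)

theorem cent_w_le_M : centralizer ({τ 3} : Set Y) ≤ uM τ := by
  intro h hh
  set C := centralizer ({τ 3} : Set Y)
  have hx' : h * τ 15 * h⁻¹ ∈ uM τ ⊓ C := ⟨F.conj_x_mem_M (mem_centralizer_singleton_iff.1 hh),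
    C.mul_mem (C.mul_mem hh (F.E_le_cent_w F.x_mem_E)) (C.inv_mem hh)⟩
  obtain ⟨k, hk, hkT⟩ := Loc.exists_conj_into (H := uM τ ⊓ C) (T := (U : Subgroup Y) ⊓ C)
    (U.isPGroup'.to_le inf_le_left) (inf_le_inf_right _ F.U_le_M)
    (fun P hP hPK => F.max_w P hP (hPK.trans inf_le_right))
    (Loc.isPGroup_zpowers (a := h * τ 15 * h⁻¹) (i := 1) (by rw [Involutions.Basic.orderOf_conj, F.order_x]; norm_num))
    (zpowers_le.2 hx')
  have h1 := hkT _ (mem_zpowers _)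
  have hkh : k * h ∈ uM τ := F.mem_M_of_conj (by
    rw [show k * h * τ 15 * (k * h)⁻¹ = k * (h * τ 15 * h⁻¹) * k⁻¹ by group]; exact h1.1)
  simpa using (uM τ).mul_mem ((uM τ).inv_mem hk.1) hkh

theorem uM_eq_top : uM τ = ⊤ := by
  classical
  refine eq_top_iff.2 fun g _ => ?_
  set x' := g * τ 15 * g⁻¹
  have h4 : (416 : ℕ) ∈ vL := small_facts.2.2.2.2.2.1
  have hv := F.order_v h4
  have hx' : orderOf x' = 2 := by rw [Involutions.Basic.orderOf_conj, F.order_x]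
  have hx'M : x' ∈ uM τ := by
    have hnc : ¬ IsConj (τ 416) x' := by
      intro hc
      obtain ⟨k, hk⟩ := isConj_iff.1 hc
      have e : g⁻¹ * k * τ 416 * (g⁻¹ * k)⁻¹ = τ 15 := by
        rw [show g⁻¹ * k * τ 416 * (g⁻¹ * k)⁻¹ = g⁻¹ * (k * τ 416 * k⁻¹) * g by group, hk]
        simp only [x']; group
      exact absurd (F.vtype h4 x_facts.1 e) (by decide +kernel)
    obtain ⟨ht2, htv, htx⟩ := Involutions.Basic.middle_involution hv hx'
      (Involutions.Basic.even_orderOf_mul_of_not_isConj hv hx' hnc)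
    set t := (τ 416 * x') ^ (orderOf (τ 416 * x') / 2)
    have htC : t ∈ centralizer ({τ 416} : Set Y) := mem_centralizer_singleton_iff.2 htv
    obtain ⟨k, hk, hkT⟩ := Loc.exists_conj_into (H := centralizer ({τ 416} : Set Y))
      (T := (U : Subgroup Y) ⊓ centralizer ({τ 416} : Set Y)) (U.isPGroup'.to_le inf_le_left) inf_le_right
      (F.max_v h4) (Loc.isPGroup_zpowers (a := t) (i := 1) (by rw [ht2]; norm_num)) (zpowers_le.2 htC)
    have hkM : k ∈ uM τ := F.cent_v_le_M h4 hk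
    obtain ⟨h1, h2⟩ := hkT t (mem_zpowers t)
    obtain ⟨b, hb, hbe⟩ := F.surj _ h1
    have hb2 : mul b b ∈ [0, 16] := (F.sq_one hb).1 (by
      rw [hbe]
      exact Involutions.Basic.inv_sq_one (by rw [Involutions.Basic.orderOf_conj, ht2]))
    have hb1 : τ b ≠ 1 := fun e => by
      rw [hbe] at e
      exact Involutions.Basic.ne_one ht2 (conj_eq_one_iff.1 e)
    have hbc : cm b 416 = true := (F.comm hb qL_rep.2.2.2.2.2.1).1 (by
      rw [hbe]; exact mem_centralizer_singleton_iff.1 h2)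
    have hcM : centralizer ({τ b} : Set Y) ≤ uM τ := by
      rcases main_facts.1 b hb hbc hb2 with hbz | hbv
      · have h12 : centralizer ({τ 12} : Set Y) ≤ uM τ := by
          intro c hc
          have h960 := F.U_le_M (F.mem 960 small_facts.2.2.2.1)
          have he : τ 960 * τ 3 * (τ 960)⁻¹ = τ 12 := by
            rw [← F.cj_eq small_facts.2.2.2.1 qL_rep.2.2.2.2.2.2.1]
            exact (F.eqv_eq (F.cj_mem small_facts.2.2.2.1 qL_rep.2.2.2.2.2.2.1) qL_rep.2.2.2.2.2.2.2).2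
              small_facts.2.2.1
          have h3 : (τ 960)⁻¹ * c * τ 960 ∈ centralizer ({τ 3} : Set Y) := mem_centralizer_singleton_iff.2 (by
            calc (τ 960)⁻¹ * c * τ 960 * τ 3 = (τ 960)⁻¹ * (c * (τ 960 * τ 3 * (τ 960)⁻¹)) * τ 960 := by group
              _ = (τ 960)⁻¹ * (τ 960 * τ 3 * (τ 960)⁻¹ * c) * τ 960 := by
                rw [he, mem_centralizer_singleton_iff.1 hc]
              _ = _ := by group)
          have := mul_mem (mul_mem h960 (F.cent_w_le_M h3)) (inv_mem h960)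
          rwa [show τ 960 * ((τ 960)⁻¹ * c * τ 960) * (τ 960)⁻¹ = c by group] at this
        have h19 : τ 19 = τ 3 := (F.eq_iff 19 (by decide +kernel) 3 (by decide +kernel)).2 (Or.inr (by decide +kernel))
        have h28 : τ 28 = τ 12 := (F.eq_iff 28 (by decide +kernel) 12 (by decide +kernel)).2 (Or.inr (by decide +kernel))
        simp only [List.mem_cons, List.not_mem_nil, or_false] at hbz
        rcases hbz with rfl | rfl | rfl | rfl | rfl | rfl | rfl | rfl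
        · exact absurd F.zero hb1
        · exact absurd F.z_one hb1
        · exact F.cent_x_le_M
        · rw [F.code_31]; exact F.cent_x_le_M
        · exact F.cent_w_le_M
        · rw [h19]; exact F.cent_w_le_M
        · exact h12
        · rw [h28]; exact h12
      · exact F.cent_v_le_M hbv
    have h5 : k * x' * k⁻¹ ∈ centralizer ({τ b} : Set Y) := by
      rw [hbe]
      refine mem_centralizer_singleton_iff.2 ?_
      calc k * x' * k⁻¹ * (k * t * k⁻¹) = k * (x' * t) * k⁻¹ := by group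
        _ = k * (t * x') * k⁻¹ := by rw [htx.eq.symm]
        _ = _ := by group
    have h6 := mul_mem (mul_mem (inv_mem hkM) (hcM h5)) hkM
    rwa [show k⁻¹ * (k * x' * k⁻¹) * k = x' by group] at h6
  obtain ⟨m, hm, hmU⟩ := Loc.exists_conj_into (H := uM τ) U.isPGroup' F.U_le_M (fun P hP _ => by
      obtain ⟨j, hj⟩ := F.exists_conj_le hP
      have := card_le_of_le hj
      rwa [card_map_of_injective (MulAut.conj j).injective] at this)
    (Loc.isPGroup_zpowers (a := x') (i := 1) (by rw [hx']; norm_num)) (zpowers_le.2 hx'M)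
  have hmg : m * g ∈ uM τ := F.mem_M_of_conj (by
    rw [show m * g * τ 15 * (m * g)⁻¹ = m * x' * m⁻¹ by simp only [x']; group]
    exact hmU x' (mem_zpowers _))
  simpa using mul_mem (inv_mem hm) hmg

/-- Without odd core, the image of the extraspecial subgroup is normal. -/
theorem E_normal (hO : Cfsg.oddCore Y = ⊥) : (uE τ).Normal := by
  have hU : uE τ ≤ normalizer (uW τ : Set Y) := fun e he => mem_normalizer_iff.2 fun x =>
    ⟨F.conj_W (le_normalizer (F.E_le he)) x, fun hx => by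
      have := F.conj_W (inv_mem (le_normalizer (F.E_le he))) _ hx
      rwa [show e⁻¹ * (e * x * e⁻¹) * e⁻¹⁻¹ = x by group] at this⟩
  have hn : ∀ g : Y, g ∈ normalizer ((uE τ ⊔ uW τ : Subgroup Y) : Set Y) := fun g => by
    have h := mem_top (G := Y) g
    rwa [← F.uM_eq_top] at h
  have hW : uW τ = ⊥ := by
    refine le_bot_iff.1 (hO ▸ InvChar.Core.le_oddCore (N := uW τ) ⟨fun x hx g => ?_⟩ F.W_odd)
    refine Loc.odd_mem_of_sup F.E_p F.W_odd hU ((mem_normalizer_iff.1 (hn g) x).1 (mem_sup_right hx)) ?_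
    rw [Involutions.Basic.orderOf_conj]
    exact Loc.odd_orderOf F.W_odd hx
  refine ⟨fun e he g => ?_⟩
  have := (mem_normalizer_iff.1 (hn g) e).1 (mem_sup_left he)
  rwa [hW, sup_bot_eq] at this

end Hyp

end Cfsg.Agent.J2Type
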