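import Mathlib
import Cfsg.Agent.Lib.J2Type.Model

/-!
How the Sylow subgroup moves the elementary subgroup of order 16.
-/

set_option autoImplicit false
set_option maxRecDepth 100000
set_option maxHeartbeats 1000000

namespace Cfsg.Agent.J2Type

open Cfsg.Agent.J2Uniq (mul inv cj)

theorem cj_rL : ∀ t ∈ rL, ∀ w ∈ aL, cj t w ∈ aL ∧ mul (cj t w) w ∈ zL := by decide +kernel

theorem cj_rL_fix : ∀ t ∈ rL, ∀ w ∈ zL, cj t w = w := by decide +kernel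

theorem square_rL : ∀ a ∈ rL, mul a a ∈ aL := by decide +kernel

theorem shift_x : ∀ p ∈ aL, p ∉ zL → ∃ t ∈ rL, cj t p = mul p 15 := by decide +kernel

theorem shift_mod : ∀ q ∈ aL, q ∉ zL → ∃ t ∈ rL, ∃ w ∈ aL,
    mul (cj t q) q ∈ [0, 16] ∧ mul (cj t w) w ∈ [15, 31] := by decide +kernel

theorem aL_facts : 15 ∈ aL ∧ 16 ∈ aL ∧ 31 ∈ aL ∧ 416 ∈ aL ∧ 416 ∉ zL ∧ mul 16 15 = 31 ∧
    (∀ q ∈ aL, ∀ c ∈ aL, mul (mul c q) q = c ∧ mul q (mul c q) = c) ∧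
    (∀ c ∈ aL, c ∈ zL → c = 0 ∨ c = 16 ∨ c = 15 ∨ c = 31) := by decide +kernel

end Cfsg.Agent.J2Type
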