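import Mathlib
import Cfsg.Agent.Lib.J2Type.Local
import Cfsg.Agent.Lib.J2Type.NormChecks

/-!
An element centralizing `z` and normalizing an elementary subgroup of order 16 fixes the pair `x, xz`.
-/

set_option autoImplicit false
set_option linter.style.haveILetI false
set_option linter.unusedSectionVars false

namespace Cfsg.Agent.J2Type

open Subgroup
open Cfsg.Agent.J2Uniq (mul inv cj)

universe u

variable {G : Type u} [Group G]

theorem x_zL : (15 : ℕ) ∈ zL := by decide +kernel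

theorem swap_bL : ∀ b ∈ aL, ∃ c ∈ bL, cj 1 c = b := by decide +kernel

theorem cj_aL_sL : ∀ w ∈ aL, w ∈ sL := fun w hw => (aL_sub w hw).2.1

/-- The centralizer of `z` in the normalizer of `A`. -/
def normA (ρ : ℕ → G) : Subgroup G := centralizer ({ρ 16} : Set G) ⊓ normalizer (subA ρ : Set G)

namespace Syl

variable [Finite G] {S : Sylow 2 G} {ρ : ℕ → G} (F : Syl (S : Subgroup G) ρ)

include F

theorem R_le_normA : subR ρ ≤ normA ρ := fun g hg => by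
  refine ⟨(F.R_le_centZX hg).1, ?_⟩
  obtain ⟨t, ht, rfl⟩ := F.mem_R.1 hg
  have ht' := (rL_closed t ht).1
  refine mem_normalizer_iff.2 fun a => ⟨fun ha => ?_, fun ha => ?_⟩
  · obtain ⟨w, hw, rfl⟩ := F.mem_A.1 ha
    rw [← F.cj_eq ht' (cj_aL_sL w hw)]
    exact mem_sub_of_mem (cj_rL t ht w hw).1
  · obtain ⟨w, hw, e⟩ := F.mem_A.1 ha
    have hi := (rL_closed t ht).2.1
    have : a = ρ (cj (inv t) w) := by
      rw [F.cj_eq (rL_closed _ hi).1 (cj_aL_sL w hw), F.inv_eq ht', e]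
      group
    rw [this]
    exact mem_sub_of_mem (cj_rL _ hi w hw).1

theorem sq_centralizes {g : G} (hg : g ∈ normA ρ) {i : ℕ} (hi : orderOf g = 2 ^ i) :
    ∀ a ∈ subA ρ, g * g * a = a * (g * g) := by
  classical
  haveI : Fact (Nat.Prime 2) := ⟨Nat.prime_two⟩
  set N := normA ρ
  have hR : IsPGroup 2 (subR ρ) := IsPGroup.of_card (n := 6) (by rw [F.card_R]; norm_num)
  obtain ⟨R1, hR1⟩ := (hR.comap_subtype : IsPGroup 2 ((subR ρ).subgroupOf N)).exists_le_sylow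
  have hcardR1 : Nat.card ((R1 : Subgroup N).map N.subtype) ≤ 64 := by
    obtain ⟨k, hk⟩ := exists_conj_le S (R1.isPGroup'.map N.subtype)
    have hd := card_dvd_of_le hk
    rw [card_map_of_injective (MulAut.conj k).injective, F.card_eq, show (128 : ℕ) = 2 ^ 7 by norm_num] at hd
    obtain ⟨j, hj, e⟩ := (Nat.dvd_prime_pow Nat.prime_two).1 hd
    rcases Nat.lt_or_ge j 7 with h7 | h7
    · rw [e]
      exact le_trans (Nat.pow_le_pow_right (by norm_num) (Nat.lt_succ_iff.1 h7)) (by norm_num)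
    · exfalso
      have heq : ((R1 : Subgroup N).map N.subtype).map (MulAut.conj k).toMonoidHom = (S : Subgroup G) :=
        eq_of_le_of_card_ge hk (by
          rw [card_map_of_injective (MulAut.conj k).injective, e, F.card_eq, show j = 7 by omega]; norm_num)
      set H := (subA ρ).map (MulAut.conj k).toMonoidHom with hH
      have hHS : H ≤ (S : Subgroup G) := by
        rw [hH, ← heq]
        exact Subgroup.map_mono fun a ha => ⟨⟨a, F.R_le_normA (F.A_le_R ha)⟩, hR1 (F.A_le_R ha), rfl⟩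
      have hnorm : ∀ s ∈ (S : Subgroup G), ∀ a ∈ H, s * a * s⁻¹ ∈ H := by
        intro s hs a ha
        rw [← heq] at hs
        obtain ⟨n, ⟨n', -, rfl⟩, rfl⟩ := hs
        obtain ⟨b, hb, rfl⟩ := ha
        refine ⟨(n' : G) * b * (n' : G)⁻¹, (mem_normalizer_iff.1 n'.2.2 b).1 hb, ?_⟩
        show k * ((n' : G) * b * (n' : G)⁻¹) * k⁻¹ = k * n' * k⁻¹ * (k * b * k⁻¹) * (k * n' * k⁻¹)⁻¹
        group
      have h16 : Nat.card H = 16 := by rw [hH, card_map_of_injective (MulAut.conj k).injective, F.card_A]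
      have hsq : ∀ h ∈ H, h * h = 1 := by
        rintro _ ⟨b, hb, rfl⟩
        rw [← map_mul, F.A_sq hb, map_one]
      have h1 := one_facts.1
      rcases F.sixteen hHS h16 hsq with e1 | e1
      · have hin : ∀ a ∈ aL, cj 1 a ∈ aL := fun a ha => by
          obtain ⟨b, hb, e2⟩ := F.mem_A.1 (e1 ▸ hnorm _ (F.mem 1 h1) _ (by rw [e1]; exact mem_sub_of_mem ha))
          rw [← F.cj_eq h1 (cj_aL_sL a ha)] at e2
          have hc : cj 1 a ∈ sL := (sL_closed _ ((sL_closed 1 h1).2.2 a (cj_aL_sL a ha))).2.2 _ (sL_closed 1 h1).2.1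
          rwa [F.inj b (cj_aL_sL b hb) _ hc e2] at hb
        exact one_facts.2.1 ((norm_aL 1 h1).1 hin)
      · have hconj : ∀ a ∈ bL, ρ 1 * ρ a * (ρ 1)⁻¹ ∈ subB ρ := fun a ha =>
          e1 ▸ hnorm _ (F.mem 1 h1) _ (by rw [e1]; exact mem_sub_of_mem ha)
        have hAB : subA ρ = subB ρ := by
          refine eq_of_le_of_card_ge (fun g hg => ?_) (by rw [F.card_A, F.card_B])
          obtain ⟨b, hb, rfl⟩ := F.mem_A.1 hg
          obtain ⟨c, hc, hc'⟩ := swap_bL b hb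
          rw [← hc', F.cj_eq h1 (bL_sub c hc).2.1]
          exact hconj c hc
        obtain ⟨b, hb, e2⟩ := F.mem_B.1 (hAB ▸ mem_sub_of_mem (aL_facts.2.2.2.1) : ρ 416 ∈ subB ρ)
        have := F.inj b (bL_sub b hb).2.1 416 (cj_aL_sL _ aL_facts.2.2.2.1) e2
        subst this
        exact absurd hb (by decide +kernel)
  have hR1eq : (R1 : Subgroup N).map N.subtype = subR ρ := by
    refine (eq_of_le_of_card_ge ?_ (by rw [F.card_R]; exact hcardR1)).symm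
    rw [← map_subgroupOf_eq_of_le F.R_le_normA]
    exact Subgroup.map_mono hR1
  have hgp : IsPGroup 2 ((zpowers g).subgroupOf N) :=
    (IsPGroup.of_card (n := i) (by rw [Nat.card_zpowers, hi]) : IsPGroup 2 (zpowers g)).comap_subtype
  obtain ⟨P1, hP1⟩ := hgp.exists_le_sylow
  obtain ⟨k, hk⟩ := MulAction.exists_smul_eq N P1 R1
  have hkR : (k : G) * g * (k : G)⁻¹ ∈ subR ρ := by
    rw [← hR1eq]
    refine ⟨k * ⟨g, hg⟩ * k⁻¹, ?_, rfl⟩
    rw [← hk, Sylow.coe_subgroup_smul]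
    exact ⟨⟨g, hg⟩, hP1 (mem_subgroupOf.2 (mem_zpowers g)), rfl⟩
  intro a ha
  obtain ⟨t, ht, e⟩ := F.mem_R.1 hkR
  have hsqA : (k : G) * (g * g) * (k : G)⁻¹ ∈ subA ρ := by
    rw [show (k : G) * (g * g) * (k : G)⁻¹ = (k : G) * g * (k : G)⁻¹ * ((k : G) * g * (k : G)⁻¹) by group, ← e,
      ← F.mul_eq t (rL_closed t ht).1 t (rL_closed t ht).1]
    exact mem_sub_of_mem (square_rL t ht)
  have hgA : g * g ∈ subA ρ := (mem_normalizer_iff.1 k.2.2 (g * g)).2 hsqA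
  exact F.A_comm hgA ha

/-- An element centralizing `z` and normalizing `A` fixes `{x, xz}`. -/
theorem normA_fix {n : G} (hn : n ∈ normA ρ) :
    n * ρ 15 * n⁻¹ = ρ 15 ∨ n * ρ 15 * n⁻¹ = ρ 31 := by
  classical
  obtain ⟨h15, h16, h31, -, -, hxz, hcancel, hzcases⟩ := aL_facts
  have hzn : n * ρ 16 * n⁻¹ = ρ 16 := by
    rw [mem_centralizer_singleton_iff.1 hn.1, mul_inv_cancel_right]
  by_contra hcon
  push Not at hcon
  obtain ⟨p, hp, hpe⟩ := F.mem_A.1 ((mem_normalizer_iff.1 hn.2 _).1 (mem_sub_of_mem h15))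
  obtain ⟨q, hq, hqe⟩ := F.mem_A.1 ((mem_normalizer_iff.1 (inv_mem hn.2) _).1 (mem_sub_of_mem h15))
  rw [inv_inv] at hqe
  have hpz : p ∉ zL := by
    intro h
    rcases hzcases p hp h with rfl | rfl | rfl | rfl
    · rw [F.zero] at hpe
      exact Involutions.Basic.ne_one F.order_x (conj_eq_one_iff.1 hpe.symm)
    · exact F.x_ne_z (mul_left_cancel (mul_right_cancel (hpe.symm.trans hzn.symm)))
    · exact hcon.1 hpe.symm
    · exact hcon.2 hpe.symm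
  have hxn : n * ρ q * n⁻¹ = ρ 15 := by rw [hqe]; group
  have hqz : q ∉ zL := by
    intro h
    rcases hzcases q hq h with rfl | rfl | rfl | rfl
    · rw [F.zero, mul_one, mul_inv_cancel] at hxn
      exact Involutions.Basic.ne_one F.order_x hxn.symm
    · exact F.x_ne_z (hxn.symm.trans hzn)
    · exact hcon.1 hxn
    · refine hcon.2 ?_
      rw [F.code_xz, show n * (ρ 16 * ρ 15) * n⁻¹ = n * ρ 16 * n⁻¹ * (n * ρ 15 * n⁻¹) by group, hzn] at hxn
      rw [F.code_xz]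
      conv_rhs => rw [← hxn, ← mul_assoc, Involutions.Basic.inv_sq_one F.order_z, one_mul]
  obtain ⟨t1, ht1, ht1e⟩ := shift_x p hp hpz
  obtain ⟨t2, ht2, w, hw, hd, he⟩ := shift_mod q hq hqz
  have hsA : ∀ c ∈ aL, c ∈ sL := fun c hc => (aL_sub c hc).2.1
  have hA : ∀ c ∈ aL, ρ c ∈ subA ρ := fun c hc => mem_sub_of_mem hc
  -- the shifts
  have shift : ∀ t ∈ rL, ∀ c ∈ aL, ∀ s, mul (cj t c) c = s → s ∈ aL → ρ t * ρ c * (ρ t)⁻¹ = ρ s * ρ c := by
    intro t ht c hc s hs hsL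
    rw [← F.cj_eq (rL_closed t ht).1 (hsA c hc), ← F.mul_eq s (hsA s hsL) c (hsA c hc), ← hs,
      (hcancel c hc (cj t c) (cj_rL t ht c hc).1).1]
  obtain ⟨d, hdm, hdmul⟩ : ∃ d ∈ ({1, ρ 16} : Set G), ρ t2 * ρ q * (ρ t2)⁻¹ = d * ρ q := by
    rcases List.mem_pair.1 hd with e | e
    · exact ⟨1, Or.inl rfl, by rw [shift t2 ht2 q hq 0 e zero_mem_lists.1, F.zero]⟩
    · exact ⟨ρ 16, Or.inr rfl, shift t2 ht2 q hq 16 e h16⟩
  obtain ⟨e, hem, hemul⟩ : ∃ e ∈ ({1, ρ 16} : Set G), ρ t2 * ρ w * (ρ t2)⁻¹ = e * ρ 15 * ρ w := by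
    rcases List.mem_pair.1 he with e1 | e1
    · exact ⟨1, Or.inl rfl, by rw [shift t2 ht2 w hw 15 e1 h15, one_mul]⟩
    · exact ⟨ρ 16, Or.inr rfl, by rw [shift t2 ht2 w hw 31 e1 h31, F.code_xz]⟩
  have hpmul : ρ t1 * ρ p * (ρ t1)⁻¹ = ρ p * ρ 15 := by
    rw [← F.cj_eq (rL_closed t1 ht1).1 (hsA p hp), ht1e, F.mul_eq p (hsA p hp) 15 (hsA _ h15)]
  have hfix : ∀ t ∈ rL, ∀ c ∈ zL, ρ t * ρ c * (ρ t)⁻¹ = ρ c := fun t ht c hc => by
    rw [← F.cj_eq (rL_closed t ht).1 (cent_zL.2.2 c hc).2.1, cj_rL_fix t ht c hc]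
  have hcz : ∀ c : G, c ∈ ({1, ρ 16} : Set G) → ∀ h ∈ normA ρ, h * c * h⁻¹ = c := by
    rintro c (rfl | rfl) h hh
    · group
    · rw [mem_centralizer_singleton_iff.1 hh.1, mul_inv_cancel_right]
  set g := ρ t1 * (n * ρ t2 * n⁻¹) with hg
  have hgN : g ∈ normA ρ := mul_mem (F.R_le_normA (mem_sub_of_mem ht1))
    (mul_mem (mul_mem hn (F.R_le_normA (mem_sub_of_mem ht2))) (inv_mem hn))
  set c := fun a : G => g * a * g⁻¹ with hc
  have cmul : ∀ a b : G, c (a * b) = c a * c b := fun a b => by simp only [hc]; group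
  set W := n * ρ w * n⁻¹
  obtain ⟨w', hw', hw'e⟩ := F.mem_A.1 ((mem_normalizer_iff.1 hn.2 _).1 (hA w hw))
  have hζ := cj_rL t1 ht1 w' hw'
  set ζ := ρ (mul (cj t1 w') w')
  have hζA : mul (cj t1 w') w' ∈ aL := ((aL_sub _ hζ.1).2.2.2.2 w' hw').1
  have hW1 : ρ t1 * W * (ρ t1)⁻¹ = ζ * W := by
    rw [show W = ρ w' from hw'e.symm]
    exact shift t1 ht1 w' hw' _ rfl hζA
  have cW : c W = e * ρ p * ρ 15 * ζ * W := by
    have h1 : n * ρ t2 * n⁻¹ * W * (n * ρ t2 * n⁻¹)⁻¹ = e * ρ p * W := by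
      rw [show n * ρ t2 * n⁻¹ * W * (n * ρ t2 * n⁻¹)⁻¹ = n * (ρ t2 * ρ w * (ρ t2)⁻¹) * n⁻¹ by
        simp only [W]; group, hemul, show n * (e * ρ 15 * ρ w) * n⁻¹ = n * e * n⁻¹ * (n * ρ 15 * n⁻¹) * W by
        simp only [W]; group, hcz e hem n hn, ← hpe]
    show g * W * g⁻¹ = _
    rw [hg, show ρ t1 * (n * ρ t2 * n⁻¹) * W * (ρ t1 * (n * ρ t2 * n⁻¹))⁻¹ =
      ρ t1 * (n * ρ t2 * n⁻¹ * W * (n * ρ t2 * n⁻¹)⁻¹) * (ρ t1)⁻¹ by group, h1,
      show ρ t1 * (e * ρ p * W) * (ρ t1)⁻¹ = ρ t1 * e * (ρ t1)⁻¹ * (ρ t1 * ρ p * (ρ t1)⁻¹) * (ρ t1 * W * (ρ t1)⁻¹)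
      by group, hcz e hem _ (F.R_le_normA (mem_sub_of_mem ht1)), hpmul, hW1]
    simp only [mul_assoc]
  have cX : c (ρ 15) = d * ρ 15 := by
    show g * ρ 15 * g⁻¹ = _
    rw [← hxn, hg, show ρ t1 * (n * ρ t2 * n⁻¹) * (n * ρ q * n⁻¹) * (ρ t1 * (n * ρ t2 * n⁻¹))⁻¹ =
      ρ t1 * (n * (ρ t2 * ρ q * (ρ t2)⁻¹) * n⁻¹) * (ρ t1)⁻¹ by group, hdmul,
      show n * (d * ρ q) * n⁻¹ = n * d * n⁻¹ * (n * ρ q * n⁻¹) by group, hxn, hcz d hdm n hn,
      show ρ t1 * (d * ρ 15) * (ρ t1)⁻¹ = ρ t1 * d * (ρ t1)⁻¹ * (ρ t1 * ρ 15 * (ρ t1)⁻¹) by group,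
      hcz d hdm _ (F.R_le_normA (mem_sub_of_mem ht1)), hfix t1 ht1 15 x_zL]
  have cP : c (ρ p) = ρ p * ρ 15 := by
    show g * ρ p * g⁻¹ = _
    rw [hpe, hg, show ρ t1 * (n * ρ t2 * n⁻¹) * (n * ρ 15 * n⁻¹) * (ρ t1 * (n * ρ t2 * n⁻¹))⁻¹ =
      ρ t1 * (n * (ρ t2 * ρ 15 * (ρ t2)⁻¹) * n⁻¹) * (ρ t1)⁻¹ by group, hfix t2 ht2 15 x_zL, ← hpe, hpmul]
  have cZ : c (ρ 16) = ρ 16 := hcz _ (Or.inr rfl) g hgN
  have cOne : ∀ a : G, a ∈ ({1, ρ 16} : Set G) → c a = a := fun a ha => hcz a ha g hgN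
  obtain ⟨σ, hσ, cζ⟩ : ∃ σ ∈ ({1, ρ 16} : Set G), c ζ = σ * ζ := by
    rcases hzcases _ hζA hζ.2 with e1 | e1 | e1 | e1
    · exact ⟨1, Or.inl rfl, by simp only [ζ, e1, F.zero, hc, mul_one, mul_inv_cancel]⟩
    · exact ⟨1, Or.inl rfl, by simp only [ζ, e1]; rw [cZ, one_mul]⟩
    · exact ⟨d, hdm, by simp only [ζ, e1]; rw [cX]⟩
    · refine ⟨d, hdm, ?_⟩
      simp only [ζ, e1]
      rw [F.code_xz, cmul, cZ, cX, ← mul_assoc, ← mul_assoc]
      congr 1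
      rcases hdm with rfl | rfl
      · simp
      · rfl
  -- everything happens in the abelian group `A`
  have h01 : ∀ a : G, a ∈ ({1, ρ 16} : Set G) → a ∈ subA ρ := by
    rintro a (rfl | rfl)
    · exact one_mem _
    · exact hA 16 h16
  let inA : G → Prop := fun a => a ∈ subA ρ
  haveI : IsMulCommutative (subA ρ) := ⟨⟨fun a b => Subtype.ext (F.A_comm a.2 b.2)⟩⟩
  let E : subA ρ := ⟨e, h01 e hem⟩
  let D : subA ρ := ⟨d, h01 d hdm⟩
  let Sg : subA ρ := ⟨σ, h01 σ hσ⟩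
  let X : subA ρ := ⟨ρ 15, hA 15 h15⟩
  let P : subA ρ := ⟨ρ p, hA p hp⟩
  let Zt : subA ρ := ⟨ζ, hA _ hζA⟩
  have hWA : W ∈ subA ρ := by
    rw [show W = ρ w' from hw'e.symm]; exact hA w' hw'
  let Ww : subA ρ := ⟨W, hWA⟩
  have sqA : ∀ a : subA ρ, a * a = 1 := fun a => Subtype.ext (F.A_sq a.2)
  have key : c (c W) = ((D * Sg * X * Ww : subA ρ) : G) := by
    have h1 : c (c W) = ((E * (P * X) * (D * X) * (Sg * Zt) * (E * P * X * Zt * Ww) : subA ρ) : G) := by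
      simp only [Subgroup.coe_mul, E, P, X, D, Sg, Zt, Ww]
      rw [cW, cmul, cmul, cmul, cmul, cOne e hem, cP, cX, cζ, cW]
    rw [h1]
    congr 1
    letI : CommGroup (subA ρ) := { (inferInstance : Group (subA ρ)) with
      mul_comm := fun a b => Subtype.ext (F.A_comm a.2 b.2) }
    calc E * (P * X) * (D * X) * (Sg * Zt) * (E * P * X * Zt * Ww)
        = (E * E) * (P * P) * (X * X) * (Zt * Zt) * (D * Sg * X * Ww) := by ac_rfl
      _ = D * Sg * X * Ww := by rw [sqA E, sqA P, sqA X, sqA Zt, one_mul, one_mul, one_mul, one_mul]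
  obtain ⟨δ, hδ, hδe⟩ : ∃ δ ∈ ({1, ρ 16} : Set G), d * σ = δ := by
    refine ⟨d * σ, ?_, rfl⟩
    rcases hdm with rfl | rfl <;> rcases hσ with rfl | rfl <;>
      simp [Involutions.Basic.inv_sq_one F.order_z]
  have key' : c (c W) = δ * ρ 15 * W := by
    rw [key, ← hδe]
    rfl
  have cccc : c (c (c (c W))) = W := by
    have e1 : c (c (δ * ρ 15 * W)) = δ * (d * (d * ρ 15)) * c (c W) := by
      rw [cmul (δ * ρ 15) W, cmul δ (ρ 15), cOne δ hδ, cX, cmul (δ * (d * ρ 15)) (c W),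
        cmul δ (d * ρ 15), cOne δ hδ, cmul d (ρ 15), cOne d hdm, cX]
    rw [key', e1, key', ← mul_assoc d d, show d * d = 1 from F.A_sq (h01 d hdm), one_mul,
      show δ * ρ 15 * (δ * ρ 15 * W) = δ * ρ 15 * (δ * ρ 15) * W by simp only [mul_assoc],
      show δ * ρ 15 * (δ * ρ 15) = 1 from F.A_sq (mul_mem (h01 δ hδ) (hA 15 h15)), one_mul]
  have hpow4 : g ^ 4 * W = W * g ^ 4 := by
    refine mul_inv_eq_iff_eq_mul.1 ?_
    calc g ^ 4 * W * (g ^ 4)⁻¹ = c (c (c (c W))) := by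
          simp only [hc]; rw [pow_succ, pow_succ, pow_succ, pow_one]; group
      _ = W := cccc
  have hne : g ^ 2 * W ≠ W * g ^ 2 := by
    intro h
    have h' : c (c W) = W := by
      simp only [hc]
      rw [show g * (g * W * g⁻¹) * g⁻¹ = g ^ 2 * W * (g ^ 2)⁻¹ by rw [pow_two]; group, h, mul_inv_cancel_right]
    rw [key', mul_eq_right] at h'
    rcases hδ with rfl | rfl
    · rw [one_mul] at h'
      exact Involutions.Basic.ne_one F.order_x h'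
    · exact F.x_ne_z (mul_left_cancel (h'.trans (Involutions.Basic.inv_sq_one F.order_z).symm))
  obtain ⟨i, m, hm, hord⟩ := Nat.exists_eq_pow_mul_and_not_dvd (orderOf_pos g).ne' 2 (by norm_num)
  have hgm : orderOf (g ^ m) = 2 ^ i := by
    rw [orderOf_pow_of_dvd (by rintro rfl; exact hm (dvd_zero 2)) (hord ▸ dvd_mul_left m (2 ^ i)), hord,
      Nat.mul_div_cancel _ (Nat.pos_of_ne_zero (by rintro rfl; exact hm (dvd_zero 2)))]
  have hsum := F.sq_centralizes (pow_mem hgN m) hgm W hWA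
  obtain ⟨k, hk⟩ : ∃ k, m + m = 4 * k + 2 := ⟨m / 2, by omega⟩
  rw [← pow_add, hk, pow_add] at hsum
  have h4k : (g ^ (4 * k)) * W = W * g ^ (4 * k) := by
    rw [pow_mul]
    exact (Commute.pow_left hpow4 k).eq
  refine hne ?_
  rw [← mul_assoc W, ← h4k, mul_assoc, mul_assoc] at hsum
  exact mul_left_cancel hsum

end Syl

end Cfsg.Agent.J2Type
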