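import Mathlib
import Cfsg.Agent.Lib.J2Type.NormFix
import Cfsg.Agent.Lib.Involutions.ThompsonTransfer

/-!
Fusion of the involutions of a Sylow 2-subgroup of Hall–Janko type in the centralizer of `z`.
-/

set_option autoImplicit false
set_option linter.style.haveILetI false
set_option linter.unusedSectionVars false

namespace Cfsg.Agent.J2Type

open Subgroup
open Cfsg.Agent.J2Uniq (mul inv cj)

universe u

variable {G : Type u} [Group G]

theorem fusion_facts : (∀ a ∈ yL, a ∉ zL) ∧ (∀ a ∈ [15, 31], a ∈ zL ∧ a ∈ sL ∧ mul 16 a ∈ [15, 31] ∧ mul 16 a ≠ a ∧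
      mul a (mul 16 a) = 16 ∧ mul (mul 16 a) a = 16) ∧ (∀ a ∈ zL, a = 0 ∨ a = 16 ∨ a ∈ [15, 31]) ∧
    (∀ a ∈ zL, ∀ b ∈ [15, 31], a ≠ 16 → a ≠ 0 → a ≠ b → a = mul 16 b) ∧ 15 ∈ zL ∧ 16 ∈ zL ∧
    cj 1 15 = 31 ∧ cj 1 31 = 15 := by decide +kernel

theorem cent_small : ∀ b ∈ sL, mul b b = 0 → b ∉ zL → (sL.filter (comm b)).length ≤ 16 := by decide +kernel

theorem mul_z_z : ∀ a ∈ [15, 31], mul 16 (mul 16 a) = a := by decide +kernel

namespace Syl

variable [Finite G] {S : Sylow 2 G} {ρ : ℕ → G} (F : Syl (S : Subgroup G) ρ)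

include F

theorem code_R {a : ℕ} (ha : a ∈ sL) : ρ a ∈ subR ρ ↔ a ∈ rL := by
  refine ⟨fun h => ?_, mem_sub_of_mem⟩
  obtain ⟨b, hb, e⟩ := F.mem_R.1 h
  exact F.inj b (rL_closed b hb).1 a ha e ▸ hb

theorem code_A {a : ℕ} (ha : a ∈ sL) : ρ a ∈ subA ρ ↔ a ∈ aL := by
  refine ⟨fun h => ?_, mem_sub_of_mem⟩
  obtain ⟨b, hb, e⟩ := F.mem_A.1 h
  exact F.inj b (aL_sub b hb).2.1 a ha e ▸ hb

theorem one_mem_centralizer : ρ 1 ∈ centralizer ({ρ 16} : Set G) := F.le_centralizer_z (F.mem 1 one_facts.1)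

/-- Conjugation by `ρ 1` exchanges `x` and `xz`. -/
theorem one_swap : ρ 1 * ρ 15 * (ρ 1)⁻¹ = ρ 31 ∧ ρ 1 * ρ 31 * (ρ 1)⁻¹ = ρ 15 := by
  obtain ⟨-, -, -, -, -, -, e1, e2⟩ := fusion_facts
  rw [← F.cj_eq one_facts.1 zero_mem_lists.2.2.2.2.2.2.2.2.2.2.1, ← F.cj_eq one_facts.1
    zero_mem_lists.2.2.2.2.2.2.2.2.2.1, e1, e2]
  exact ⟨rfl, rfl⟩

/-- No involution of `A` outside `⟨z, x⟩` is conjugate to `x` or `xz` in the centralizer of `z`. -/
theorem A_not_x {g : G} (hg : g ∈ centralizer ({ρ 16} : Set G)) {a : ℕ} (ha : a ∈ aL) (haz : a ∉ zL) :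
    g * ρ a * g⁻¹ ≠ ρ 15 ∧ g * ρ a * g⁻¹ ≠ ρ 31 := by
  have main : ∀ g ∈ centralizer ({ρ 16} : Set G), g * ρ a * g⁻¹ ≠ ρ 15 := by
    intro g hg e
    have hT : (subA ρ).map (MulAut.conj g).toMonoidHom ≤ centZX ρ := by
      rintro _ ⟨b, hb, rfl⟩
      refine ⟨(centralizer ({ρ 16} : Set G)).mul_mem ((centralizer ({ρ 16} : Set G)).mul_mem hg
          (F.le_centralizer_z (F.A_le hb))) ((centralizer ({ρ 16} : Set G)).inv_mem hg),
        mem_centralizer_singleton_iff.2 ?_⟩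
      show g * b * g⁻¹ * ρ 15 = ρ 15 * (g * b * g⁻¹)
      rw [← e, show g * b * g⁻¹ * (g * ρ a * g⁻¹) = g * (b * ρ a) * g⁻¹ by group,
        F.A_comm hb (mem_sub_of_mem ha)]
      group
    obtain ⟨k, hk, hkR⟩ := F.conj_into_R
      ((IsPGroup.of_card (n := 4) (by rw [F.card_A]; norm_num) : IsPGroup 2 (subA ρ)).map _) hT
    set n := k * g
    have hn : n ∈ centralizer ({ρ 16} : Set G) := mul_mem hk.1 hg
    have hnx : n * ρ a * n⁻¹ = ρ 15 := by
      rw [show n * ρ a * n⁻¹ = k * (g * ρ a * g⁻¹) * k⁻¹ by simp only [n]; group, e,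
        mem_centralizer_singleton_iff.1 hk.2, mul_inv_cancel_right]
    have hHR : (subA ρ).map (MulAut.conj n).toMonoidHom ≤ (S : Subgroup G) := by
      rintro _ ⟨b, hb, rfl⟩
      refine F.R_le ?_
      have := hkR _ ⟨b, hb, rfl⟩
      simpa [n, mul_assoc] using this
    have fin : ∀ n : G, n ∈ centralizer ({ρ 16} : Set G) → (subA ρ).map (MulAut.conj n).toMonoidHom = subA ρ →
        n * ρ a * n⁻¹ = ρ 15 ∨ n * ρ a * n⁻¹ = ρ 31 → False := by
      intro n hn hA hx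
      have hn' : n ∈ normA ρ := ⟨hn, mem_normalizer_iff.2 fun b => by
        constructor
        · intro hb
          rw [← hA]
          exact ⟨b, hb, rfl⟩
        · intro hb
          rw [← hA] at hb
          obtain ⟨c, hc, e1⟩ := hb
          exact (MulAut.conj n).injective e1 ▸ hc⟩
      have hi := F.normA_fix (inv_mem hn')
      rw [inv_inv] at hi
      have h31 : n⁻¹ * ρ 31 * n = ρ 15 ∨ n⁻¹ * ρ 31 * n = ρ 31 := by
        have hzn : n⁻¹ * ρ 16 * n = ρ 16 := by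
          rw [mul_assoc, ← mem_centralizer_singleton_iff.1 hn, inv_mul_cancel_left]
        rw [F.code_xz, show n⁻¹ * (ρ 16 * ρ 15) * n = n⁻¹ * ρ 16 * n * (n⁻¹ * ρ 15 * n) by group, hzn]
        rcases hi with e1 | e1
        · right; rw [e1]
        · left
          rw [e1, F.code_xz, ← mul_assoc, Involutions.Basic.inv_sq_one F.order_z, one_mul]
      have hsl : ∀ b : ℕ, b ∈ zL → ρ a ≠ ρ b := fun b hb e1 =>
        haz (F.inj a (aL_sub a ha).2.1 b (cent_zL.2.2 b hb).2.1 e1 ▸ hb)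
      have h15z := fusion_facts.2.1 15 (by simp)
      have h31z := fusion_facts.2.1 31 (by simp)
      have hback : ρ a = n⁻¹ * ρ 15 * n ∨ ρ a = n⁻¹ * ρ 31 * n := by
        rcases hx with e1 | e1
        · left; rw [← e1]; group
        · right; rw [← e1]; group
      rcases hback with e1 | e1
      · rcases hi with e2 | e2
        · exact hsl 15 h15z.1 (e1.trans e2)
        · exact hsl 31 h31z.1 (e1.trans e2)
      · rcases h31 with e2 | e2
        · exact hsl 15 h15z.1 (e1.trans e2)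
        · exact hsl 31 h31z.1 (e1.trans e2)
    rcases F.sixteen hHR (by rw [card_map_of_injective (MulAut.conj n).injective, F.card_A])
      (by rintro _ ⟨b, hb, rfl⟩; rw [← map_mul, F.A_sq hb, map_one]) with e1 | e1
    · exact fin n hn e1 (Or.inl hnx)
    · refine fin (ρ 1 * n) (mul_mem F.one_mem_centralizer hn) ?_ (Or.inr ?_)
      · refine eq_of_le_of_card_ge ?_ (by rw [card_map_of_injective (MulAut.conj _).injective])
        rintro _ ⟨b, hb, rfl⟩
        have : n * b * n⁻¹ ∈ subB ρ := e1 ▸ ⟨b, hb, rfl⟩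
        have := F.one_conj_B this
        simpa [mul_assoc] using this
      · rw [show ρ 1 * n * ρ a * (ρ 1 * n)⁻¹ = ρ 1 * (n * ρ a * n⁻¹) * (ρ 1)⁻¹ by group, hnx, F.one_swap.1]
  refine ⟨main g hg, fun e => main (ρ 1 * g) (mul_mem F.one_mem_centralizer hg) ?_⟩
  rw [show ρ 1 * g * ρ a * (ρ 1 * g)⁻¹ = ρ 1 * (g * ρ a * g⁻¹) * (ρ 1)⁻¹ by group, e, F.one_swap.2]

/-- No involution outside `Q` is conjugate to `x` or `xz` in the centralizer of `z`. -/
theorem v_not_x {g : G} (hg : g ∈ centralizer ({ρ 16} : Set G)) {a : ℕ} (ha : a ∈ aL ∨ a ∈ bL) (haz : a ∉ zL) :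
    g * ρ a * g⁻¹ ≠ ρ 15 ∧ g * ρ a * g⁻¹ ≠ ρ 31 := by
  rcases ha with ha | ha
  · exact F.A_not_x hg ha haz
  · obtain ⟨b, hb, e⟩ := F.mem_A.1 (F.one_conj_B (mem_sub_of_mem ha))
    have hbz : b ∉ zL := by
      intro hb'
      have hs := (bL_sub a ha).2.1
      rw [← F.cj_eq one_facts.1 hs] at e
      have := F.inj b (aL_sub b hb).2.1 _
        ((sL_closed _ ((sL_closed 1 one_facts.1).2.2 a hs)).2.2 _ (sL_closed 1 one_facts.1).2.1) e
      exact (by decide +kernel : ∀ a ∈ bL, a ∉ zL → cj 1 a ∉ zL) a ha haz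
        (by rw [cj, ← this]; exact hb')
    have h := F.A_not_x (mul_mem hg (inv_mem F.one_mem_centralizer)) hb hbz
    rwa [show g * (ρ 1)⁻¹ * ρ b * (g * (ρ 1)⁻¹)⁻¹ = g * ρ a * g⁻¹ by rw [e]; group] at h

/-- When `x` is conjugate to `z`, some element fixes it and exchanges `z` with the third involution. -/
theorem exists_swap {c : ℕ} (hc : c ∈ [15, 31]) (hconj : IsConj (ρ 16) (ρ c)) :
    ∃ s : G, s * ρ c * s⁻¹ = ρ c ∧ s * ρ 16 * s⁻¹ = ρ (mul 16 c) ∧ s * ρ (mul 16 c) * s⁻¹ = ρ 16 := by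
  classical
  haveI : Fact (Nat.Prime 2) := ⟨Nat.prime_two⟩
  obtain ⟨hcz, hcs, hd, hdc, hcd, hdc'⟩ := fusion_facts.2.1 c hc
  obtain ⟨g, hg⟩ := isConj_iff.1 hconj
  set T := centralizer ({ρ c} : Set G)
  have hR : subR ρ ≤ T := by
    intro y hy
    obtain ⟨b, hb, rfl⟩ := F.mem_R.1 hy
    exact mem_centralizer_singleton_iff.2 ((F.comm (rL_closed b hb).1 hcs).2 (zL_central c hcz b hb).symm)
  have hSg : ((S : Subgroup G).map (MulAut.conj g).toMonoidHom) ≤ T := by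
    rintro _ ⟨s, hs, rfl⟩
    refine mem_centralizer_singleton_iff.2 ?_
    show g * s * g⁻¹ * ρ c = ρ c * (g * s * g⁻¹)
    rw [← hg, show g * s * g⁻¹ * (g * ρ 16 * g⁻¹) = g * (s * ρ 16) * g⁻¹ by group, F.z_comm hs]
    group
  obtain ⟨P', hP'⟩ := ((IsPGroup.of_card (n := 6) (by rw [F.card_R]; norm_num) : IsPGroup 2 (subR ρ)).comap_subtype :
    IsPGroup 2 ((subR ρ).subgroupOf T)).exists_le_sylow
  set P := (P' : Subgroup T).map T.subtype with hP
  have hPR : subR ρ ≤ P := by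
    rw [hP, ← map_subgroupOf_eq_of_le hR]
    exact Subgroup.map_mono hP'
  have hPc : Nat.card P = 128 := by
    refine le_antisymm ?_ ?_
    · obtain ⟨k, hk⟩ := exists_conj_le S (P'.isPGroup'.map T.subtype)
      have := card_le_of_le hk
      rwa [card_map_of_injective (MulAut.conj k).injective, F.card_eq] at this
    · obtain ⟨Q, hQ⟩ := ((S.isPGroup'.map (MulAut.conj g).toMonoidHom).comap_subtype :
        IsPGroup 2 (((S : Subgroup G).map (MulAut.conj g).toMonoidHom).subgroupOf T)).exists_le_sylow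
      have h1 : Nat.card (((S : Subgroup G).map (MulAut.conj g).toMonoidHom).subgroupOf T) ≤
          Nat.card (Q : Subgroup T) := card_le_of_le hQ
      rw [Nat.card_congr (subgroupOfEquivOfLe hSg).toEquiv, card_map_of_injective (MulAut.conj g).injective, F.card_eq,
        Sylow.card_eq_multiplicity, ← Sylow.card_eq_multiplicity P'] at h1
      rwa [hP, card_map_of_injective T.subtype_injective]
  haveI hn : ((subR ρ).subgroupOf P).Normal := by
    refine normal_of_index_eq_two ?_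
    have := ((subR ρ).subgroupOf P).card_mul_index
    rw [Nat.card_congr (subgroupOfEquivOfLe hPR).toEquiv, F.card_R, hPc] at this
    omega
  obtain ⟨s, hsP, hsR⟩ : ∃ s ∈ P, ρ 16 * s ≠ s * ρ 16 := by
    by_contra hno
    push Not at hno
    refine absurd (F.card_le_centZX (P := P) (IsPGroup.of_card (n := 7) (by rw [hPc]; norm_num)) fun p hp =>
      ⟨mem_centralizer_singleton_iff.2 (hno p hp).symm, ?_⟩) (by rw [hPc]; norm_num)
    have hpc : p * ρ c = ρ c * p := mem_centralizer_singleton_iff.1 ((map_subtype_le _) hp)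
    refine mem_centralizer_singleton_iff.2 ?_
    rcases List.mem_pair.1 hc with rfl | rfl
    · exact hpc
    · rw [F.code_xz, ← mul_assoc, ← hno p hp, mul_assoc, mul_assoc] at hpc
      exact mul_left_cancel hpc
  have hsc : s * ρ c * s⁻¹ = ρ c := by
    rw [mem_centralizer_singleton_iff.1 ((map_subtype_le _) hsP), mul_inv_cancel_right]
  have h16R : (16 : ℕ) ∈ rL := zero_mem_lists.2.2.2.2.2.2.2.2.1
  have hzs : s * ρ 16 * s⁻¹ ∈ subR ρ :=
    mem_subgroupOf.1 (hn.conj_mem ⟨ρ 16, hPR (mem_sub_of_mem h16R)⟩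
      (mem_subgroupOf.2 (mem_sub_of_mem h16R)) ⟨s, hsP⟩)
  obtain ⟨d, hdR, hde⟩ := F.mem_R.1 hzs
  have hdz : d ∈ zL := by
    refine rL_center d hdR fun b hb => (F.comm (rL_closed d hdR).1 (rL_closed b hb).1).1 ?_
    have hb' : s⁻¹ * ρ b * s ∈ subR ρ := by
      have := mem_subgroupOf.1 (hn.conj_mem ⟨ρ b, hPR (mem_sub_of_mem hb)⟩
        (mem_subgroupOf.2 (mem_sub_of_mem hb)) ⟨s, hsP⟩⁻¹)
      simpa using this
    rw [hde]
    have hz := F.z_comm (F.R_le hb')
    calc s * ρ 16 * s⁻¹ * ρ b = s * (ρ 16 * (s⁻¹ * ρ b * s)) * s⁻¹ := by group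
      _ = s * (s⁻¹ * ρ b * s * ρ 16) * s⁻¹ := by rw [hz]
      _ = ρ b * (s * ρ 16 * s⁻¹) := by group
  have hd0 : d ≠ 0 := fun e => by
    rw [e, F.zero] at hde
    exact Involutions.Basic.ne_one F.order_z (conj_eq_one_iff.1 hde.symm)
  have hd16 : d ≠ 16 := fun e => by
    rw [e] at hde
    exact hsR (eq_mul_inv_iff_mul_eq.1 hde)
  have hd_c : d ≠ c := fun e => by
    rw [e, ← hsc] at hde
    have := mul_left_cancel (mul_right_cancel hde)
    have := F.inj c hcs 16 sixteen_central.1 this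
    subst this
    simp at hc
  have hdd := fusion_facts.2.2.2.1 d hdz c hc hd16 hd0 hd_c
  refine ⟨s, hsc, by rw [← hdd, hde], ?_⟩
  have hds : mul 16 c ∈ sL := (sL_closed 16 sixteen_central.1).2.2 c hcs
  rw [F.mul_eq 16 sixteen_central.1 c hcs, show s * (ρ 16 * ρ c) * s⁻¹ = s * ρ 16 * s⁻¹ * (s * ρ c * s⁻¹) by group, hsc,
    ← hde, hdd, ← F.mul_eq _ hds c hcs, hdc']

/-- Without a subgroup of index two, `ρ 1` is conjugate to `x` or `xz` in the centralizer of `z`. -/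
theorem exists_y_to_x (h2 : ∀ H : Subgroup G, H.index ≠ 2) :
    ∃ h ∈ centralizer ({ρ 16} : Set G), h * ρ 1 * h⁻¹ = ρ 15 ∨ h * ρ 1 * h⁻¹ = ρ 31 := by
  classical
  haveI : Fact (Nat.Prime 2) := ⟨Nat.prime_two⟩
  obtain ⟨h1s, h1r, h1y, -, -⟩ := one_facts
  obtain ⟨-, hy2, -, hy16, q, hq, hqc, hq2⟩ := cent_yL 1 h1y
  have hy : orderOf (ρ 1) = 2 := F.orderOf_two h1s hy2 (by norm_num)
  have hrel : (subR ρ).relIndex (S : Subgroup G) = 2 := by
    have := ((subR ρ).subgroupOf (S : Subgroup G)).card_mul_index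
    rw [Nat.card_congr (subgroupOfEquivOfLe F.R_le).toEquiv, F.card_R, F.card_eq] at this
    show ((subR ρ).subgroupOf (S : Subgroup G)).index = 2
    omega
  obtain ⟨g0, hg0⟩ := Involutions.ThompsonTransfer.exists_conj_mem h2 S _ F.R_le hrel _ hy
  set T := centralizer ({ρ 1} : Set G)
  set P0 := (S : Subgroup G) ⊓ T
  obtain ⟨P', hP'⟩ := ((S.isPGroup'.to_le inf_le_left).comap_subtype :
    IsPGroup 2 (P0.subgroupOf T)).exists_le_sylow
  set P := (P' : Subgroup T).map T.subtype with hP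
  have hP0 : P0 ≤ P := by
    exact fun g hg => ⟨⟨g, hg.2⟩, hP' hg, rfl⟩
  obtain ⟨k, hk⟩ := exists_conj_le S (P'.isPGroup'.map T.subtype)
  have hkmem : ∀ p ∈ P, k * p * k⁻¹ ∈ (S : Subgroup G) := fun p hp => hk ⟨p, hp, rfl⟩
  have h1P : ρ 1 ∈ P := hP0 ⟨F.mem 1 h1s, mem_centralizer_singleton_iff.2 rfl⟩
  obtain ⟨b, hb, hbe⟩ := F.surj _ (hkmem _ h1P)
  have hb2 : mul b b = 0 := (F.sq_one hb).1 (by
    rw [hbe, show k * ρ 1 * k⁻¹ * (k * ρ 1 * k⁻¹) = k * (ρ 1 * ρ 1) * k⁻¹ by group,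
      Involutions.Basic.inv_sq_one hy, mul_one, mul_inv_cancel])
  have hb0 : b ≠ 0 := fun e => by
    rw [e, F.zero] at hbe
    exact Involutions.Basic.ne_one hy (conj_eq_one_iff.1 hbe.symm)
  have hbz : b ∈ zL := by
    by_contra hbz
    -- the centralizer of `ρ 1` has Sylow subgroups of order sixteen
    have h16 : (sL.filter (J2Type.comm b)).length ≤ 16 := cent_small b hb hb2 hbz
    have hPcard : Nat.card P ≤ 16 := by
      have hinto : ∀ p : P, ∃ a ∈ (sL.filter (J2Type.comm b)).toFinset, ρ a = k * (p : G) * k⁻¹ := by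
        intro p
        obtain ⟨a, ha, e⟩ := F.surj _ (hkmem p p.2)
        refine ⟨a, List.mem_toFinset.2 (List.mem_filter.2 ⟨ha, comm_iff.2 ((F.comm hb ha).1 ?_)⟩), e⟩
        have hpc : (p : G) * ρ 1 = ρ 1 * p := mem_centralizer_singleton_iff.1 ((map_subtype_le _) p.2)
        rw [hbe, e, show k * ρ 1 * k⁻¹ * (k * p * k⁻¹) = k * (ρ 1 * p) * k⁻¹ by group, ← hpc]
        group
      choose c hc hce using hinto
      refine le_trans (Nat.card_le_card_of_injective (fun p : P => (⟨c p, hc p⟩ : (sL.filter (J2Type.comm b)).toFinset))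
        fun p p' e => Subtype.ext ?_) ?_
      · have e1 : c p = c p' := congrArg Subtype.val e
        exact mul_left_cancel (mul_right_cancel ((hce p).symm.trans (e1 ▸ hce p')))
      · rw [Nat.card_eq_finsetCard]
        exact (List.toFinset_card_le _).trans h16
    -- the conjugate in `R`
    obtain ⟨a, ha, hae⟩ := F.mem_R.1 hg0
    have has := (rL_closed a ha).1
    have ha2 : mul a a = 0 := (F.sq_one has).1 (by
      rw [hae, show g0 * ρ 1 * g0⁻¹ * (g0 * ρ 1 * g0⁻¹) = g0 * (ρ 1 * ρ 1) * g0⁻¹ by group,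
        Involutions.Basic.inv_sq_one hy, mul_one, mul_inv_cancel])
    have into : ∀ K : Subgroup G, IsPGroup 2 K → (∀ x ∈ K, x * ρ a = ρ a * x) →
        Nat.card K ≤ 16 ∧ (Nat.card K = 16 → ∀ p ∈ P, ∃ x ∈ K, ∃ w : G, w * x * w⁻¹ = p) := by
      intro K hK hKc
      set K' := K.map (MulAut.conj g0⁻¹).toMonoidHom with hK'
      have hK'T : K' ≤ T := by
        rintro _ ⟨x, hx, rfl⟩
        refine mem_centralizer_singleton_iff.2 ?_
        have h := hKc x hx
        rw [hae] at h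
        show g0⁻¹ * x * g0⁻¹⁻¹ * ρ 1 = ρ 1 * (g0⁻¹ * x * g0⁻¹⁻¹)
        calc g0⁻¹ * x * g0⁻¹⁻¹ * ρ 1 = g0⁻¹ * (x * (g0 * ρ 1 * g0⁻¹)) * g0 := by group
          _ = g0⁻¹ * (g0 * ρ 1 * g0⁻¹ * x) * g0 := by rw [h]
          _ = _ := by group
      obtain ⟨Q, hQ⟩ := ((hK.map _).comap_subtype : IsPGroup 2 (K'.subgroupOf T)).exists_le_sylow
      obtain ⟨w, hw⟩ := MulAction.exists_smul_eq T Q P'
      have hQc : Nat.card (Q : Subgroup T) ≤ 16 := by
        rw [Sylow.card_eq_multiplicity, ← Sylow.card_eq_multiplicity P']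
        rwa [hP, card_map_of_injective T.subtype_injective] at hPcard
      have h1 : Nat.card (K'.subgroupOf T) ≤ Nat.card (Q : Subgroup T) := card_le_of_le hQ
      rw [Nat.card_congr (subgroupOfEquivOfLe hK'T).toEquiv, hK',
        card_map_of_injective (MulAut.conj _).injective] at h1
      refine ⟨h1.trans hQc, fun hK16 p hp => ?_⟩
      obtain ⟨p', hp', rfl⟩ := hp
      rw [← hw, Sylow.coe_subgroup_smul] at hp'
      obtain ⟨q', hq', rfl⟩ := hp'
      have hQK : K'.subgroupOf T = (Q : Subgroup T) := eq_of_le_of_card_ge hQ (by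
        rw [Nat.card_congr (subgroupOfEquivOfLe hK'T).toEquiv, hK',
          card_map_of_injective (MulAut.conj _).injective, hK16]
        exact hQc)
      rw [← hQK] at hq'
      obtain ⟨x, hx, e⟩ := mem_subgroupOf.1 hq'
      exact ⟨x, hx, (w : G) * g0⁻¹, by
        show _ = (w : G) * (q' : G) * (w : G)⁻¹
        rw [← e]
        show _ = (w : G) * (g0⁻¹ * x * g0⁻¹⁻¹) * (w : G)⁻¹
        group⟩
    have helem : ∀ L : List ℕ, ∀ K : Subgroup G, a ∈ L → (∀ x ∈ K, x * x = 1) → Nat.card K = 16 →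
        (∀ x ∈ K, x * ρ a = ρ a * x) → False := by
      intro L K _ hsq hcard hKc
      obtain ⟨x, hx, w, hw⟩ := (into K (IsPGroup.of_card (n := 4) (by rw [hcard]; norm_num)) hKc).2 hcard
        (ρ q) (hP0 ⟨F.mem q hq, mem_centralizer_singleton_iff.2 ((F.comm hq h1s).2 hqc.symm)⟩)
      have : ρ q * ρ q = 1 := by
        rw [← hw, show w * x * w⁻¹ * (w * x * w⁻¹) = w * (x * x) * w⁻¹ by group, hsq x hx, mul_one, mul_inv_cancel]
      rw [← F.mul_eq q hq q hq, hq2] at this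
      exact Involutions.Basic.ne_one F.order_z this
    rcases invs_ok a has ha2 with e | e | e | e
    · have h64 := (into (subR ρ) (IsPGroup.of_card (n := 6) (by rw [F.card_R]; norm_num)) fun x hx => by
        obtain ⟨c, hc, rfl⟩ := F.mem_R.1 hx
        exact ((F.comm has (rL_closed c hc).1).2 (zL_central a e c hc)).symm).1
      rw [F.card_R] at h64
      norm_num at h64
    · exact (cent_yL a e).2.2.1 ha
    · exact helem aL _ e.1 (fun x hx => F.A_sq hx) F.card_A fun x hx => F.A_comm hx (mem_sub_of_mem e.1)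
    · refine helem bL _ e.1 (fun x hx => F.B_sq hx) F.card_B fun x hx => ?_
      obtain ⟨c, hc, rfl⟩ := F.mem_B.1 hx
      exact ((F.comm (bL_sub a e.1).2.1 (bL_sub c hc).2.1).2 ((bL_sub a e.1).2.2.2.2 c hc).2).symm
  -- the image of `z`
  obtain ⟨q', hq', hq'e⟩ := F.surj _ (hkmem _ (hP0 ⟨F.mem q hq, mem_centralizer_singleton_iff.2
    ((F.comm hq h1s).2 hqc.symm)⟩))
  set c := mul q' q'
  have hcs : c ∈ sL := (sL_closed q' hq').2.2 q' hq'
  have hce : ρ c = k * ρ 16 * k⁻¹ := by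
    rw [F.mul_eq q' hq' q' hq', hq'e, ← hq2, F.mul_eq q hq q hq]
    group
  have hc2 : mul c c = 0 := (F.sq_one hcs).1 (by
    rw [hce, show k * ρ 16 * k⁻¹ * (k * ρ 16 * k⁻¹) = k * (ρ 16 * ρ 16) * k⁻¹ by group,
      Involutions.Basic.inv_sq_one F.order_z, mul_one, mul_inv_cancel])
  have hcz : c ∈ zL := sq_ok q' hq' hc2
  have hc0 : c ≠ 0 := fun e => by
    rw [e, F.zero] at hce
    exact Involutions.Basic.ne_one F.order_z (conj_eq_one_iff.1 hce.symm)
  have hcb : c ≠ b := fun e => by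
    rw [e, hbe] at hce
    exact absurd (F.inj 1 h1s 16 sixteen_central.1 (mul_left_cancel (mul_right_cancel hce))) (by norm_num)
  have hconj : IsConj (ρ 16) (ρ c) := isConj_iff.2 ⟨k, hce.symm⟩
  have fin : ∀ h : G, h * ρ 16 * h⁻¹ = ρ 16 → ∀ t ∈ [15, 31], h * ρ 1 * h⁻¹ = ρ t →
      ∃ h ∈ centralizer ({ρ 16} : Set G), h * ρ 1 * h⁻¹ = ρ 15 ∨ h * ρ 1 * h⁻¹ = ρ 31 := by
    intro h hz t ht e
    refine ⟨h, mem_centralizer_singleton_iff.2 (mul_inv_eq_iff_eq_mul.1 hz), ?_⟩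
    rcases List.mem_pair.1 ht with rfl | rfl
    · exact Or.inl e
    · exact Or.inr e
  rcases fusion_facts.2.2.1 c hcz with e | e | e
  · exact absurd e hc0
  · rcases fusion_facts.2.2.1 b hbz with e' | e' | e'
    · exact absurd e' hb0
    · exact absurd (e.trans e'.symm) hcb
    · exact fin k (by rw [← hce, e]) b e' hbe.symm
  · obtain ⟨-, hcs', hd, hdc, hcd, hdc'⟩ := fusion_facts.2.1 c e
    have hcd' : IsConj (ρ 16) (ρ (mul 16 c)) := by
      refine hconj.trans (isConj_iff.2 ⟨ρ 1, ?_⟩)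
      rcases List.mem_pair.1 e with e' | e' <;> rw [e']
      · rw [F.one_swap.1, zero_mem_lists.2.2.2.2.2.2.2.2.2.2.2.1]
      · rw [F.one_swap.2, (by decide +kernel : mul 16 31 = 15)]
    obtain ⟨s, hs1, hs2, hs3⟩ := F.exists_swap hd hcd'
    have hdd : mul 16 (mul 16 c) = c := mul_z_z c e
    rw [hdd] at hs2 hs3
    rcases fusion_facts.2.2.1 b hbz with e' | e' | e'
    · exact absurd e' hb0
    · refine fin (s * k) ?_ c e ?_
      · rw [show s * k * ρ 16 * (s * k)⁻¹ = s * (k * ρ 16 * k⁻¹) * s⁻¹ by group, ← hce, hs3]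
      · rw [show s * k * ρ 1 * (s * k)⁻¹ = s * (k * ρ 1 * k⁻¹) * s⁻¹ by group, ← hbe, e', hs2]
    · have hb16 : b ≠ 16 := by rintro rfl; simp at e'
      have hbd := fusion_facts.2.2.2.1 b hbz c e hb16 hb0 (Ne.symm hcb)
      refine fin (s * k) ?_ b e' ?_
      · rw [show s * k * ρ 16 * (s * k)⁻¹ = s * (k * ρ 16 * k⁻¹) * s⁻¹ by group, ← hce, hs3]
      · rw [show s * k * ρ 1 * (s * k)⁻¹ = s * (k * ρ 1 * k⁻¹) * s⁻¹ by group, ← hbe, hbd, hs1]

end Syl

end Cfsg.Agent.J2Type
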