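import Cfsg.Agent.Lib.J2Type.Model
import Cfsg.Agent.Lib.J2Uniq.Labels

/-!
Checks for the recognition of the centralizer of a 2-central involution of the Hall–Janko group.
-/

set_option autoImplicit false
set_option maxRecDepth 100000
set_option maxHeartbeats 1000000

namespace Cfsg.Agent.J2Type

open Cfsg.Agent.J2Uniq (mul inv cj uc)

theorem qL_facts : (∀ a ∈ qL, a ∈ sL ∧ inv a ∈ qL ∧ ∀ b ∈ qL, mul a b ∈ qL) ∧ qL.Nodup ∧ qL.length = 32 ∧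
    0 ∈ qL ∧ 16 ∈ qL ∧ ∀ i : Fin 5, uc i ∈ qL := by
  decide +kernel

theorem qL_center : ∀ a ∈ sL, (∀ q ∈ qL, mul a q = mul q a) → a = 0 ∨ a = 16 := by decide +kernel

theorem qL_sq : ∀ a ∈ qL, mul a a = 0 ∨ mul a a = 16 := by decide +kernel

theorem qL_invs : ∀ a ∈ qL, mul a a = 0 → a = 0 ∨ a = 16 ∨ ∃ i : Fin 5, a = uc i ∨ a = mul (uc i) 16 := by
  decide +kernel

theorem uc_facts : ∀ i : Fin 5, uc i ∈ sL ∧ mul (uc i) (uc i) = 0 ∧ uc i ≠ 0 ∧ uc i ≠ 16 ∧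
    mul (uc i) 16 ∈ sL ∧ ∀ j : Fin 5, (uc i = uc j ∨ uc i = mul (uc j) 16) → i = j := by
  decide +kernel

theorem qL_signs : ∀ b : Fin 4 → Bool, ∃ q ∈ qL, ∀ j : Fin 4,
    cj q (uc j) = if b j then mul (uc j) 16 else uc j := by
  decide +kernel

theorem qL_gen : ∀ a ∈ qL, (∀ j : Fin 4, mul a (uc j) = mul (uc j) a) → a = 0 ∨ a = 16 := by decide +kernel

theorem qL_word : ∀ a ∈ qL, ∃ b c d e f : Bool,
    a = mul (mul (mul (mul (if b then 1 else 0) (if c then 2 else 0)) (if d then 4 else 0)) (if e then 8 else 0))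
      (if f then 16 else 0) := by
  decide +kernel

theorem sL_orbit : ∀ i : Fin 5, i ≠ 4 → ∃ s ∈ sL, cj s 1 = uc i ∨ cj s 1 = mul (uc i) 16 := by decide +kernel

theorem sL_four : ∀ τ : Equiv.Perm (Fin 5), τ * τ = 1 → Equiv.Perm.sign τ = 1 → τ 4 = 4 →
    ∃ s ∈ sL, ∀ i : Fin 5, cj s (uc i) = uc (τ i) ∨ cj s (uc i) = mul (uc (τ i)) 16 := by
  decide +kernel

theorem perm_fix : ∀ σ : Equiv.Perm (Fin 5), σ * σ = 1 → Equiv.Perm.sign σ = 1 → ∃ j, σ j = j := by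
  decide +kernel

theorem even_two_involutions : ∀ σ : Equiv.Perm (Fin 5), Equiv.Perm.sign σ = 1 →
    ∃ a : Equiv.Perm (Fin 5), a * a = 1 ∧ Equiv.Perm.sign a = 1 ∧ a * σ * (a * σ) = 1 := by
  decide +kernel

theorem out_code : 416 ∈ sL ∧ mul 416 416 = 0 ∧ 416 ∉ qL := by decide +kernel

theorem fifteen_code : mul 15 16 = 31 ∧ uc 4 = 15 ∧ uc 0 = 1 := by decide +kernel

theorem qL_inner : ∀ a ∈ qL, ∀ i : Fin 5, cj a (uc i) = uc i ∨ cj a (uc i) = mul (uc i) 16 := by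
  decide +kernel

theorem invT_facts : ((J2Uniq.invT : alternatingGroup (Fin 5)) : Equiv.Perm (Fin 5)) 0 = 0 ∧
    J2Uniq.invT * J2Uniq.invT = 1 ∧ J2Uniq.invT ≠ 1 := by
  decide +kernel

end Cfsg.Agent.J2Type
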