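import Cfsg.Agent.Lib.J2Type.Syl
import Cfsg.Agent.Lib.J2Type.Local
import Cfsg.Agent.Lib.J2Type.RecogChecks
import Cfsg.Agent.Lib.JankoTwo.Split
import Cfsg.Agent.Lib.J2Uniq.Start
import Cfsg.Agent.Lib.Cores.Basic
import Cfsg.Agent.ASolv.CubicMono

/-!
Recognition of the centralizer of a 2-central involution of the Hall–Janko group.
-/

set_option autoImplicit false
set_option linter.style.haveILetI false
set_option linter.unusedSectionVars false
set_option maxRecDepth 100000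
set_option maxHeartbeats 1000000

namespace Cfsg.Agent.J2Type

open Subgroup
open Cfsg.Agent.J2Uniq (mul inv cj uc)
open InvChar.JankoTwoCount

universe u

/-- The part of the ten involutions. -/
def U {G : Type u} [Group G] (ρ : ℕ → G) (i : Fin 5) : G := ρ (uc i)

namespace Syl

variable {C : Type u} [Group C] {S : Subgroup C} {ρ : ℕ → C} (F : Syl S ρ)

include F

theorem mem_Q {x : C} : x ∈ sub ρ qL ↔ ∃ a ∈ qL, ρ a = x :=
  F.mem_sub qL_facts.2.2.2.1 (fun a ha => (qL_facts.1 a ha).1) (fun a ha => (qL_facts.1 a ha).2.1)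
    (fun a ha => (qL_facts.1 a ha).2.2)

theorem card_Q : Nat.card (sub ρ qL) = 32 := by
  rw [F.card_sub qL_facts.2.2.2.1 (fun a ha => (qL_facts.1 a ha).1) (fun a ha => (qL_facts.1 a ha).2.1)
    (fun a ha => (qL_facts.1 a ha).2.2) qL_facts.2.1, qL_facts.2.2.1]

theorem zU {i : Fin 5} : ρ (mul (uc i) 16) = U ρ i * ρ 16 :=
  F.mul_eq _ (uc_facts i).1 _ sixteen_central.1

theorem U_inj {i j : Fin 5} (h : U ρ i = U ρ j ∨ U ρ i = U ρ j * ρ 16) : i = j := by
  refine (uc_facts i).2.2.2.2.2 j ?_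
  rcases h with h | h
  · exact Or.inl (F.inj _ (uc_facts i).1 _ (uc_facts j).1 h)
  · exact Or.inr (F.inj _ (uc_facts i).1 _ (uc_facts j).2.2.2.2.1 (h.trans F.zU.symm))

theorem U_mem (i : Fin 5) : U ρ i ∈ sub ρ qL := mem_sub_of_mem (qL_facts.2.2.2.2.2 i)

theorem U_sq (i : Fin 5) : U ρ i * U ρ i = 1 := (F.sq_one (uc_facts i).1).2 (uc_facts i).2.1

theorem U_ne (i : Fin 5) : U ρ i ≠ 1 ∧ U ρ i ≠ ρ 16 :=
  ⟨fun e => (uc_facts i).2.2.1 ((F.eq_one (uc_facts i).1).1 e),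
    fun e => (uc_facts i).2.2.2.1 (F.inj _ (uc_facts i).1 _ sixteen_central.1 e)⟩

/-- An element commuting with four of the generators commutes with the extraspecial group. -/
theorem commute_Q {g : C} (hz : Commute g (ρ 16)) (hu : ∀ j : Fin 4, Commute g (ρ (uc j))) {x : C}
    (hx : x ∈ sub ρ qL) : Commute g x := by
  obtain ⟨a, ha, rfl⟩ := F.mem_Q.1 hx
  obtain ⟨b, c, d, e, f, rfl⟩ := qL_word a ha
  have hc : ∀ (b : Bool) (n : ℕ), Commute g (ρ n) → n ∈ sL → Commute g (ρ (if b then n else 0)) ∧ (if b then n else 0) ∈ sL := by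
    intro b n h hn
    cases b
    · exact ⟨by simp [F.zero], zero_sL⟩
    · exact ⟨h, hn⟩
  obtain ⟨c1, m1⟩ := hc b 1 (hu 0) (uc_facts 0).1
  obtain ⟨c2, m2⟩ := hc c 2 (hu 1) (uc_facts 1).1
  obtain ⟨c3, m3⟩ := hc d 4 (hu 2) (uc_facts 2).1
  obtain ⟨c4, m4⟩ := hc e 8 (hu 3) (uc_facts 3).1
  obtain ⟨c5, m5⟩ := hc f 16 hz sixteen_central.1
  have n12 := (sL_closed _ m1).2.2 _ m2
  have n123 := (sL_closed _ n12).2.2 _ m3
  have n1234 := (sL_closed _ n123).2.2 _ m4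
  rw [F.mul_eq _ n1234 _ m5, F.mul_eq _ n123 _ m4, F.mul_eq _ n12 _ m3, F.mul_eq _ m1 _ m2]
  exact (((c1.mul_right c2).mul_right c3).mul_right c4).mul_right c5

end Syl

section Main

variable {C : Type u} [Group C] [Finite C] {S : Sylow 2 C} {ρ : ℕ → C} (F : Syl (S : Subgroup C) ρ)

include F

theorem Syl.selfc_Q (hO : Cfsg.oddCore C = ⊥) (hzc : ∀ c : C, ρ 16 * c = c * ρ 16)
    [hN : (sub ρ qL).Normal] : centralizer ((sub ρ qL : Subgroup C) : Set C) ≤ sub ρ qL := by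
  classical
  haveI : Fact (Nat.Prime 2) := ⟨Nat.prime_two⟩
  set z := ρ 16 with hz
  set Q := sub ρ qL with hQ
  have hzQ : z ∈ Q := mem_sub_of_mem qL_facts.2.2.2.2.1
  set K := centralizer (Q : Set C) with hK
  have hKn : ∀ x ∈ K, ∀ g : C, g * x * g⁻¹ ∈ K := fun x hx g => (inferInstance : K.Normal).conj_mem x hx g
  have hKS : ∀ x ∈ K, x ∈ (S : Subgroup C) → x = 1 ∨ x = z := by
    intro x hx hxS
    obtain ⟨a, ha, rfl⟩ := F.surj x hxS
    rcases qL_center a ha (fun q hq => (F.comm ha (qL_facts.1 q hq).1).1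
      (mem_centralizer_iff.1 hx _ (mem_sub_of_mem hq)).symm) with rfl | rfl
    · exact Or.inl F.zero
    · exact Or.inr rfl
  have hzK : z ∈ K := mem_centralizer_iff.2 fun q _ => (hzc q).symm
  let zK : ↥K := ⟨z, hzK⟩
  have hzK2 : orderOf zK = 2 := by rw [← orderOf_coe]; exact F.order_z
  obtain ⟨P, hP⟩ := (IsPGroup.of_card (G := zpowers zK) (p := 2) (n := 1)
    (by rw [Nat.card_zpowers, hzK2, pow_one])).exists_le_sylow
  have hPle : (P : Subgroup ↥K) = zpowers zK := by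
    refine le_antisymm ?_ hP
    obtain ⟨k, hk⟩ := exists_conj_le S (P.isPGroup'.map K.subtype)
    intro x hx
    rcases hKS _ (hKn _ x.2 k) (hk ⟨_, ⟨x, hx, rfl⟩, rfl⟩) with e | e
    · rw [conj_eq_one_iff] at e
      rw [show x = 1 from Subtype.ext e]
      exact one_mem _
    · have : (x : C) = z := by
        rw [show (x : C) = k⁻¹ * (k * x * k⁻¹) * k by group, e, mul_assoc, hzc, inv_mul_cancel_left]
      rw [show x = zK from Subtype.ext this]
      exact mem_zpowers _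
  haveI hZn : (zpowers zK).Normal := ⟨fun x hx g => by
    obtain ⟨j, rfl⟩ := mem_zpowers_iff.1 hx
    have hc : Commute g zK := Subtype.ext (hzc g).symm
    rw [(hc.zpow_right j).eq, mul_inv_cancel_right]
    exact zpow_mem (mem_zpowers _) j⟩
  have hodd : ¬ 2 ∣ (zpowers zK).index := hPle ▸ P.not_dvd_index
  obtain ⟨H, hH⟩ := exists_right_complement'_of_coprime (N := zpowers zK) (by
    rw [Nat.card_zpowers, hzK2]; exact (Nat.prime_two.coprime_iff_not_dvd).2 hodd)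
  have hH2 : H.index = 2 := by rw [hH.index_eq_card, Nat.card_zpowers, hzK2]
  have hHodd : Odd (Nat.card ↥H) := by
    rw [← hH.symm.index_eq_card]
    rw [Nat.odd_iff]
    omega
  have hdet : ∀ y : ↥K, Odd (orderOf y) → y ∈ H := by
    intro y hy
    haveI := normal_of_index_eq_two hH2
    have h2 : y * y ∈ H := mul_self_mem_of_index_two hH2 y
    obtain ⟨m, hm⟩ := hy
    have : y * (y * y) ^ m = 1 := by rw [← pow_two, ← pow_mul, ← pow_succ', ← hm, pow_orderOf_eq_one]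
    rw [eq_inv_of_mul_eq_one_left this]
    exact inv_mem (pow_mem h2 m)
  haveI : (H.map K.subtype).Normal := ⟨fun x hx g => by
    obtain ⟨y, hy, rfl⟩ := hx
    refine ⟨⟨g * y * g⁻¹, hKn _ y.2 g⟩, hdet _ ?_, rfl⟩
    rw [← orderOf_coe]
    show Odd (orderOf (g * (y : C) * g⁻¹))
    rw [show g * (y : C) * g⁻¹ = MulAut.conj g (y : C) from rfl, MulEquiv.orderOf_eq, orderOf_coe]
    exact hHodd.of_dvd_nat (H.orderOf_dvd_natCard hy)⟩
  have hH1 : Nat.card ↥H = 1 := by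
    have hle : H.map K.subtype ≤ Cfsg.oddCore C := Cfsg.Agent.Cores.le_oddCore (by
      rw [card_map_of_injective K.subtype_injective]; exact hHodd)
    rw [hO, le_bot_iff, map_eq_bot_iff_of_injective _ K.subtype_injective] at hle
    rw [hle, card_bot]
  have htop : zpowers zK = ⊤ := eq_top_of_card_eq _ (by rw [← hH.card_mul, hH1, mul_one])
  intro x hx
  obtain ⟨j, hj⟩ := mem_zpowers_iff.1 (htop.ge (mem_top (⟨x, hx⟩ : ↥K)))
  have hj' := congrArg Subtype.val hj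
  simp only [SubgroupClass.coe_zpow] at hj'
  rw [← show z ^ j = x from hj']
  exact zpow_mem hzQ j

/-- The action on the five pairs. -/
theorem Syl.exists_pre (hO : Cfsg.oddCore C = ⊥) (hzc : ∀ c : C, ρ 16 * c = c * ρ 16)
    [hN : (sub ρ qL).Normal]
    (hy : ∃ c : C, c * ρ 1 * c⁻¹ = ρ 15 ∨ c * ρ 1 * c⁻¹ = ρ 31) :
    ∃ π : C →* alternatingGroup (Fin 5), JankoTwo.Pre (sub ρ qL) (ρ 16) π ∧
      (∀ (g : C) (i : Fin 5), g * U ρ i * g⁻¹ = U ρ ((π g : Equiv.Perm (Fin 5)) i) ∨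
        g * U ρ i * g⁻¹ = U ρ ((π g : Equiv.Perm (Fin 5)) i) * ρ 16) := by
  classical
  haveI : Fact (Nat.Prime 2) := ⟨Nat.prime_two⟩
  set z := ρ 16 with hz
  set Q := sub ρ qL with hQ
  have hzz : z * z = 1 := by rw [← pow_two, hz, ← F.order_z, pow_orderOf_eq_one]
  have hzconj : ∀ g v : C, g * (v * z) * g⁻¹ = g * v * g⁻¹ * z := fun g v => by
    rw [show g * (v * z) * g⁻¹ = g * v * (z * g⁻¹) by group, hzc]; group
  have hex : ∀ (g : C) (i : Fin 5), ∃ j, g * U ρ i * g⁻¹ = U ρ j ∨ g * U ρ i * g⁻¹ = U ρ j * z := by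
    intro g i
    obtain ⟨a, ha, hae⟩ := F.mem_Q.1 (hN.conj_mem _ (F.U_mem i) g)
    have haa : mul a a = 0 := (F.sq_one (qL_facts.1 a ha).1).1 (by
      rw [hae, show g * U ρ i * g⁻¹ * (g * U ρ i * g⁻¹) = g * (U ρ i * U ρ i) * g⁻¹ by group, F.U_sq,
        mul_one, mul_inv_cancel])
    rcases qL_invs a ha haa with rfl | rfl | ⟨j, rfl | rfl⟩
    · rw [F.zero] at hae
      exact absurd (conj_eq_one_iff.1 hae.symm) (F.U_ne i).1
    · refine absurd ?_ (F.U_ne i).2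
      rw [show U ρ i = g⁻¹ * (g * U ρ i * g⁻¹) * g by group, ← hae, mul_assoc, hzc, inv_mul_cancel_left]
    · exact ⟨j, Or.inl hae.symm⟩
    · exact ⟨j, Or.inr (by rw [← hae, F.zU])⟩
  choose f hf using hex
  have huni : ∀ (g : C) (i j : Fin 5), g * U ρ i * g⁻¹ = U ρ j ∨ g * U ρ i * g⁻¹ = U ρ j * z → f g i = j := by
    intro g i j h
    have hzz' : ∀ v : C, v * z * z = v := fun v => by rw [mul_assoc, hzz, mul_one]
    refine F.U_inj ?_
    rcases hf g i with e | e <;> rcases h with e' | e' <;> rw [e] at e'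
    · exact Or.inl e'
    · exact Or.inr e'
    · exact Or.inr (by rw [← e', hzz'])
    · exact Or.inl (mul_right_cancel e')
  have hmulf : ∀ (g h : C) (i : Fin 5), f (g * h) i = f g (f h i) := by
    intro g h i
    refine huni _ _ _ ?_
    rw [show g * h * U ρ i * (g * h)⁻¹ = g * (h * U ρ i * h⁻¹) * g⁻¹ by group]
    rcases hf h i with e | e <;> rw [e]
    · exact hf g _
    · rw [hzconj]
      rcases hf g (f h i) with e' | e' <;> rw [e']
      · exact Or.inr rfl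
      · exact Or.inl (by rw [mul_assoc, hzz, mul_one])
  have hone : ∀ i, f 1 i = i := fun i => huni _ _ _ (Or.inl (by simp))
  let σ : C →* Equiv.Perm (Fin 5) :=
    { toFun := fun g =>
        { toFun := f g
          invFun := f g⁻¹
          left_inv := fun i => by rw [← hmulf, inv_mul_cancel, hone]
          right_inv := fun i => by rw [← hmulf, mul_inv_cancel, hone] }
      map_one' := Equiv.ext hone
      map_mul' := fun g h => Equiv.ext (hmulf g h) }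
  have hσ : ∀ g i, σ g i = f g i := fun _ _ => rfl
  -- the kernel
  have hker : σ.ker = Q := by
    refine le_antisymm (fun g hg => ?_) (fun q hq => ?_)
    · have hfix : ∀ i, g * U ρ i * g⁻¹ = U ρ i ∨ g * U ρ i * g⁻¹ = U ρ i * z := fun i => by
        have h := hf g i
        rwa [show f g i = i from Equiv.ext_iff.1 hg i] at h
      obtain ⟨q, hq, hqe⟩ := qL_signs fun j => decide (g * U ρ j.castSucc * g⁻¹ ≠ U ρ j.castSucc)
      have hqs := (qL_facts.1 q hq).1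
      have hcomm : ∀ j : Fin 4, Commute ((ρ q)⁻¹ * g) (ρ (uc j)) := by
        intro j
        have hj : ((j.castSucc : Fin 5) : ℕ) = (j : ℕ) := rfl
        have h1 := congrArg ρ (hqe j)
        rw [F.cj_eq hqs (hj ▸ (uc_facts j.castSucc).1)] at h1
        have h2 : g * ρ (uc j) * g⁻¹ = ρ q * ρ (uc j) * (ρ q)⁻¹ := by
          rw [h1]
          have hd := hfix j.castSucc
          simp only [U, hj] at hd ⊢
          by_cases hc : g * ρ (uc j) * g⁻¹ = ρ (uc j)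
          · simp [hc]
          · simp only [ne_eq, hc, not_false_eq_true, decide_true, if_true]
            rw [F.mul_eq _ (hj ▸ (uc_facts j.castSucc).1) _ sixteen_central.1]
            exact hd.resolve_left hc
        show (ρ q)⁻¹ * g * ρ (uc j) = ρ (uc j) * ((ρ q)⁻¹ * g)
        calc (ρ q)⁻¹ * g * ρ (uc j) = (ρ q)⁻¹ * (g * ρ (uc j) * g⁻¹) * g := by group
          _ = (ρ q)⁻¹ * (ρ q * ρ (uc j) * (ρ q)⁻¹) * g := by rw [h2]
          _ = ρ (uc j) * ((ρ q)⁻¹ * g) := by group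
      have := F.selfc_Q hO hzc (mem_centralizer_iff.2 fun x hx =>
        (F.commute_Q (hzc _).symm hcomm hx).eq.symm)
      have h2 := mul_mem (mem_sub_of_mem hq : ρ q ∈ Q) this
      rwa [mul_inv_cancel_left] at h2
    · refine Equiv.ext fun i => huni q i i ?_
      obtain ⟨a, ha, rfl⟩ := F.mem_Q.1 hq
      obtain ⟨b, hb, hbe⟩ := F.mem_Q.1 (hN.conj_mem _ (F.U_mem i) (ρ a))
      have hab := (qL_facts.1 a ha).1
      rcases qL_inner a ha i with e | e <;> have e' := congrArg ρ e <;> rw [F.cj_eq hab (uc_facts i).1] at e'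
      · exact Or.inl e'
      · exact Or.inr (e'.trans F.zU)
  -- transitivity
  have htrans : ∀ j : Fin 5, ∃ g, σ g 0 = j := by
    intro j
    by_cases hj : j = 4
    · subst hj
      obtain ⟨c, hc⟩ := hy
      refine ⟨c, huni c 0 4 ?_⟩
      obtain ⟨h31, h4, h0⟩ := fifteen_code
      rcases hc with hc | hc
      · exact Or.inl hc
      · refine Or.inr (hc.trans ?_)
        show ρ 31 = U ρ 4 * ρ 16
        rw [← F.zU, show mul (uc ((4 : Fin 5) : ℕ)) 16 = 31 by rw [show ((4 : Fin 5) : ℕ) = 4 from rfl, h4, h31]]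
    · obtain ⟨s, hs, e⟩ := sL_orbit j hj
      refine ⟨ρ s, huni _ 0 j ?_⟩
      rcases e with e | e <;> have e' := congrArg ρ e <;>
        rw [F.cj_eq hs (show 1 ∈ sL from (uc_facts 0).1)] at e'
      · exact Or.inl e'
      · exact Or.inr (e'.trans F.zU)
  have hfour : ∀ τ : Equiv.Perm (Fin 5), τ * τ = 1 → Equiv.Perm.sign τ = 1 → τ 4 = 4 → ∃ g, σ g = τ := by
    intro τ h1 h2 h3
    obtain ⟨s, hs, e⟩ := sL_four τ h1 h2 h3
    refine ⟨ρ s, Equiv.ext fun i => huni _ i _ ?_⟩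
    rcases e i with e | e <;> have e' := congrArg ρ e <;> rw [F.cj_eq hs (uc_facts i).1] at e'
    · exact Or.inl e'
    · exact Or.inr (e'.trans F.zU)
  have hinv : ∀ τ : Equiv.Perm (Fin 5), τ * τ = 1 → Equiv.Perm.sign τ = 1 → τ ∈ σ.range := by
    intro τ h1 h2
    obtain ⟨j, hj⟩ := perm_fix τ h1 h2
    obtain ⟨a, ha⟩ := htrans j
    obtain ⟨b, hb⟩ := htrans 4
    set g := σ (a * b⁻¹) with hg
    have hgj : g 4 = j := by
      rw [hg, map_mul, map_inv, Equiv.Perm.mul_apply,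
        show (σ b)⁻¹ 4 = 0 from (Equiv.symm_apply_eq (σ b)).2 hb.symm, ha]
    obtain ⟨d, hd⟩ := hfour (g⁻¹ * τ * g)
      (by rw [show g⁻¹ * τ * g * (g⁻¹ * τ * g) = g⁻¹ * (τ * τ) * g by group, h1, mul_one, inv_mul_cancel])
      (by simp [h2, mul_comm, ← mul_assoc])
      (by rw [Equiv.Perm.mul_apply, Equiv.Perm.mul_apply, hgj, hj]
          exact (Equiv.symm_apply_eq g).2 hgj.symm)
    refine ⟨a * b⁻¹ * d * (a * b⁻¹)⁻¹, ?_⟩
    rw [map_mul, map_mul, map_inv, hd, ← hg]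
    group
  have hA : alternatingGroup (Fin 5) ≤ σ.range := by
    intro τ hτ
    rw [Equiv.Perm.mem_alternatingGroup] at hτ
    obtain ⟨a, ha, ha1, hb⟩ := even_two_involutions τ hτ
    have h := mul_mem (inv_mem (hinv a ha ha1)) (hinv (a * τ) hb (by rw [map_mul, ha1, hτ, one_mul]))
    rwa [inv_mul_cancel_left] at h
  have hrange : σ.range = alternatingGroup (Fin 5) := by
    have h1 := σ.ker.card_mul_index
    rw [index_ker, hker, F.card_Q] at h1
    have h2 := card_dvd_of_le hA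
    have h3 : Nat.card ↥σ.range ∣ 120 := by
      have := card_subgroup_dvd_card σ.range
      simpa [Nat.card_eq_fintype_card, Fintype.card_perm, Nat.factorial] using this
    have h60 : Nat.card ↥(alternatingGroup (Fin 5)) = 60 := by
      rw [nat_card_alternatingGroup]; simp [Nat.card_eq_fintype_card, Nat.factorial]
    have h120 : Nat.card ↥σ.range ≠ 120 := by
      intro e
      rw [e] at h1
      have hSi := (S : Subgroup C).card_mul_index
      rw [F.card_eq, ← h1] at hSi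
      exact S.not_dvd_index ⟨15, by omega⟩
    refine (eq_of_le_of_card_ge hA ?_).symm
    rw [h60] at h2 ⊢
    obtain ⟨k, hk⟩ := h2
    rw [hk] at h3 h120 ⊢
    have hk2 : k ∣ 2 := (Nat.mul_dvd_mul_iff_left (show 0 < 60 by norm_num)).1 h3
    rcases (Nat.dvd_prime Nat.prime_two).1 hk2 with rfl | rfl
    · norm_num
    · omega
  let π : C →* alternatingGroup (Fin 5) := σ.codRestrict _ fun g => hrange ▸ ⟨g, rfl⟩
  refine ⟨π, ⟨hN, ?_, F.card_Q, mem_sub_of_mem qL_facts.2.2.2.2.1, hzz, ?_, hzc, F.selfc_Q hO hzc, ?_, ?_⟩,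
    fun g i => hf g i⟩
  · refine ASolv.CubicMono.isExtraspecial_of F.card_Q (mem_sub_of_mem qL_facts.2.2.2.2.1) ?_
      (fun r _ => hzc r) ?_ ?_
    · intro e
      have := F.order_z
      rw [e, orderOf_one] at this
      omega
    · intro c hc hcc
      obtain ⟨a, ha, rfl⟩ := F.mem_Q.1 hc
      rcases qL_center a (qL_facts.1 a ha).1 (fun q hq => (F.comm (qL_facts.1 a ha).1 (qL_facts.1 q hq).1).1
        (hcc _ (mem_sub_of_mem hq))) with rfl | rfl
      · exact Or.inl F.zero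
      · exact Or.inr rfl
    · intro c hc
      obtain ⟨a, ha, rfl⟩ := F.mem_Q.1 hc
      have has := (qL_facts.1 a ha).1
      rw [← F.mul_eq a has a has]
      rcases qL_sq a ha with e | e <;> rw [e]
      · exact Or.inl F.zero
      · exact Or.inr rfl
  · intro e
    have := F.order_z
    rw [show ρ 16 = 1 from e, orderOf_one] at this
    omega
  · intro τ
    obtain ⟨g, hg⟩ := hrange.ge τ.2
    exact ⟨g, Subtype.ext hg⟩
  · ext g
    rw [← hker, MonoidHom.mem_ker, MonoidHom.mem_ker, Subtype.ext_iff]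
    rfl

/-- A group with these properties is the centralizer of a 2-central involution of `J2`. -/
theorem Syl.recognition (hO : Cfsg.oddCore C = ⊥) (hzc : ∀ c : C, ρ 16 * c = c * ρ 16)
    [hN : (sub ρ qL).Normal]
    (hy : ∃ c : C, c * ρ 1 * c⁻¹ = ρ 15 ∨ c * ρ 1 * c⁻¹ = ρ 31) :
    ∃ (z' : Cfsg.Spor.J2) (Q : Sylow 2 Cfsg.Spor.J2), orderOf z' = 2 ∧ z' ∈ (Q : Subgroup Cfsg.Spor.J2) ∧
      (∀ s ∈ (Q : Subgroup Cfsg.Spor.J2), s * z' = z' * s) ∧
      Nonempty (C ≃* ↥(centralizer ({z'} : Set Cfsg.Spor.J2))) := by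
  classical
  haveI := IcoLeech.finite_J2
  obtain ⟨π, hpre, hact⟩ := F.exists_pre hO hzc hy
  have htQ : ρ 416 ∉ sub ρ qL := fun h => by
    obtain ⟨a, ha, e⟩ := F.mem_Q.1 h
    exact out_code.2.2 (F.inj _ (qL_facts.1 a ha).1 _ out_code.1 e ▸ ha)
  obtain ⟨K, hK⟩ := hpre.exists_setting ((F.sq_one out_code.1).2 out_code.2.1) htQ
  have hlift : ∀ τ : alternatingGroup (Fin 5), ∃ k ∈ K, π k = τ := by
    intro τ
    obtain ⟨c, rfl⟩ := hpre.surj τ
    obtain ⟨q, hq, k, hk, rfl⟩ := hK.prod c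
    exact ⟨k, hk, by rw [map_mul, hpre.mem.1 hq, one_mul]⟩
  have hinj : ∀ k ∈ K, π k = 1 → k = 1 := fun k hk e => by
    have : k ∈ sub ρ qL ⊓ K := ⟨hpre.mem.2 e, hk⟩
    rwa [hK.cap, mem_bot] at this
  have hT0 := invT_facts
  obtain ⟨ta, tb, hta, htb, htab⟩ := J2Uniq.alt_squares J2Uniq.invT hT0.1
  obtain ⟨a, haK, ha⟩ := hlift ta
  obtain ⟨b, hbK, hb⟩ := hlift tb
  have hsq : ∀ g : C, (π g : Equiv.Perm (Fin 5)) 0 = 0 → Commute (g * g) (U ρ 0) := fun g hg => by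
    have h := hact g 0
    rw [hg] at h
    refine mul_inv_eq_iff_eq_mul.1 ?_
    rw [show g * g * U ρ 0 * (g * g)⁻¹ = g * (g * U ρ 0 * g⁻¹) * g⁻¹ by group]
    rcases h with e | e <;> rw [e]
    · exact e
    · rw [show g * (U ρ 0 * ρ 16) * g⁻¹ = g * U ρ 0 * (ρ 16 * g⁻¹) by group, hzc,
        show g * U ρ 0 * (g⁻¹ * ρ 16) = g * U ρ 0 * g⁻¹ * ρ 16 by group, e, mul_assoc, hpre.zz, mul_one]
  set k0 := a * a * (b * b) with hk0
  have hk0K : k0 ∈ K := mul_mem (mul_mem haK haK) (mul_mem hbK hbK)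
  have hk0π : π k0 = J2Uniq.invT := by rw [hk0, map_mul, map_mul, map_mul, ha, hb, ← htab]
  have hk02 : k0 * k0 = 1 := hinj _ (mul_mem hk0K hk0K) (by rw [map_mul, hk0π, hT0.2.1])
  have hk01 : k0 ≠ 1 := fun e => hT0.2.2 (by rw [← hk0π, e, map_one])
  have hk0u : k0 * U ρ 0 = U ρ 0 * k0 :=
    ((hsq a (ha.symm ▸ hta)).mul_left (hsq b (hb.symm ▸ htb))).eq
  obtain ⟨uu, kk, hC, -, -⟩ := J2Uniq.exists_coord hK (u := U ρ 0)
    ⟨F.U_mem 0, F.U_sq 0, (F.U_ne 0).1, (F.U_ne 0).2⟩ hk0K hk02 hk01 hk0u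
  have hcard : Nat.card C = 1920 := by
    have h1 := π.ker.card_mul_index
    rw [index_ker, hpre.ker, F.card_Q, MonoidHom.range_eq_top.2 hpre.surj, card_top, nat_card_alternatingGroup] at h1
    simp [Nat.card_eq_fintype_card, Nat.factorial] at h1 ⊢
    omega
  let f : Fin 1920 → C := fun a => J2Uniq.val (ρ 16) uu kk a
  have hf : Function.Bijective f := by
    refine (Nat.bijective_iff_injective_and_card f).2 ⟨fun a b e => ?_, by
      rw [hcard, Nat.card_eq_fintype_card, Fintype.card_fin]⟩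
    have e1 : J2Uniq.val (ρ 16) uu kk (mul a (inv b)) = 1 := by
      rw [hC.val_mul, show J2Uniq.val (ρ 16) uu kk a = J2Uniq.val (ρ 16) uu kk b from e, ← hC.val_mul,
        J2Uniq.inv_ok b b.2, hC.val_zero]
    exact Fin.ext (J2Uniq.inv_unique a a.2 b b.2 (hC.ker (J2Uniq.mul_lt _ _) e1))
  obtain ⟨σ, Q, hcodes, FQ⟩ := exists_sylow_J2
  let g : Fin 1920 → ↥(centralizer ({IcoLeech.zJ} : Set Cfsg.Spor.J2)) := fun a => ⟨σ a, hcodes.mem a⟩
  have hg : Function.Bijective g := by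
    refine ⟨fun a b e => Fin.ext (hcodes.inj' a.2 b.2 (congrArg Subtype.val e)), fun x => ?_⟩
    obtain ⟨a, ha, e⟩ := hcodes.surj x x.2
    exact ⟨⟨a, ha⟩, Subtype.ext e⟩
  let e : C ≃ ↥(centralizer ({IcoLeech.zJ} : Set Cfsg.Spor.J2)) :=
    (Equiv.ofBijective f hf).symm.trans (Equiv.ofBijective g hg)
  have he : ∀ a, e (f a) = g a := fun a => by
    simp only [e, Equiv.trans_apply, Equiv.ofBijective_symm_apply_apply, Equiv.ofBijective_apply]
  refine ⟨IcoLeech.zJ, Q, IcoLeech.orderOf_zJ, ?_, fun s hs => ?_, ⟨{ e with map_mul' := fun x y => ?_ }⟩⟩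
  · rw [← hcodes.zc_eq]; exact FQ.mem _ sixteen_central.1
  · obtain ⟨a, -, rfl⟩ := FQ.surj s hs
    exact hcodes.zcomm a
  · obtain ⟨a, rfl⟩ := hf.2 x
    obtain ⟨b, rfl⟩ := hf.2 y
    have hm : f a * f b = f ⟨mul a b, J2Uniq.mul_lt _ _⟩ := (hC.val_mul a b).symm
    show e (f a * f b) = e (f a) * e (f b)
    rw [hm, he, he, he]
    exact Subtype.ext (hcodes.mul_eq a b)

end Main

/-- The codes in an image of the centralizer of `ρ 16` with kernel of odd order. -/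
theorem Syl.exists_image {G : Type u} [Group G] [Finite G] {S : Sylow 2 G} {ρ : ℕ → G}
    (F : Syl (S : Subgroup G) ρ) {C : Type u} [Group C] [Finite C]
    (f : ↥(centralizer ({ρ 16} : Set G)) →* C) (hf : Function.Surjective f) (hodd : Odd (Nat.card ↥f.ker)) :
    ∃ (S₂ : Sylow 2 C) (σ : ℕ → C), Syl (S₂ : Subgroup C) σ ∧
      (∀ a (h : a ∈ sL), σ a = f ⟨ρ a, F.le_centralizer_z (F.mem a h)⟩) ∧
      (∀ c : C, σ 16 * c = c * σ 16) ∧
      sub σ qL = ((sub ρ qL).subgroupOf (centralizer ({ρ 16} : Set G))).map f := by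
  classical
  haveI : Fact (Nat.Prime 2) := ⟨Nat.prime_two⟩
  have hSM : (S : Subgroup G) ≤ centralizer ({ρ 16} : Set G) := F.le_centralizer_z
  set S₁ : Sylow 2 ↥(centralizer ({ρ 16} : Set G)) := S.subtype hSM with hS₁
  set S₂ : Sylow 2 C := S₁.mapSurjective hf with hS₂
  let σ : ℕ → C := fun a => if h : a ∈ sL then f ⟨ρ a, hSM (F.mem a h)⟩ else 1
  have hσ : ∀ a (h : a ∈ sL), σ a = f ⟨ρ a, hSM (F.mem a h)⟩ := fun a h => dif_pos h
  have hSO : ∀ x : ↥(centralizer ({ρ 16} : Set G)), (x : G) ∈ (S : Subgroup G) → f x = 1 → x = 1 := by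
    intro x hxS hxO
    obtain ⟨k, hk⟩ := S.isPGroup' ⟨(x : G), hxS⟩
    have hk' : x ^ 2 ^ k = 1 := Subtype.ext (congrArg Subtype.val hk :)
    refine orderOf_eq_one_iff.1 ?_
    exact Nat.eq_one_of_dvd_coprimes ((Nat.coprime_two_left.2 hodd).pow_left k)
      (orderOf_dvd_of_pow_eq_one hk') (f.ker.orderOf_dvd_natCard (MonoidHom.mem_ker.2 hxO))
  have F₂ : Syl (S₂ : Subgroup C) σ := by
    refine ⟨fun a ha => ?_, fun a ha b hb => ?_, fun a ha b hb e => ?_, fun s hs => ?_⟩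
    · rw [hσ a ha]
      exact ⟨⟨ρ a, hSM (F.mem a ha)⟩, F.mem a ha, rfl⟩
    · rw [hσ a ha, hσ b hb, hσ _ ((sL_closed a ha).2.2 b hb), ← map_mul]
      exact congrArg f (Subtype.ext (F.mul_eq a ha b hb))
    · rw [hσ a ha, hσ b hb] at e
      have h0 : f ((⟨ρ a, hSM (F.mem a ha)⟩ : ↥(centralizer ({ρ 16} : Set G)))⁻¹ * ⟨ρ b, hSM (F.mem b hb)⟩) = 1 := by
        rw [map_mul, map_inv, e, inv_mul_cancel]
      have h1 := congrArg Subtype.val (hSO _ (mul_mem (inv_mem (F.mem a ha)) (F.mem b hb)) h0)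
      exact F.inj a ha b hb (inv_mul_eq_one.1 h1)
    · obtain ⟨x, hx, rfl⟩ := hs
      obtain ⟨a, ha, e⟩ := F.surj _ (show (x : G) ∈ (S : Subgroup G) from hx)
      exact ⟨a, ha, by rw [hσ a ha]; exact congrArg f (Subtype.ext e)⟩
  refine ⟨S₂, σ, F₂, hσ, fun c => ?_, ?_⟩
  · obtain ⟨g, rfl⟩ := hf c
    rw [hσ 16 sixteen_central.1, ← map_mul, ← map_mul]
    exact congrArg f (Subtype.ext (mem_centralizer_singleton_iff.1 g.2).symm)
  · ext x
    constructor
    · intro hx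
      obtain ⟨a, ha, rfl⟩ := F₂.mem_Q.1 hx
      rw [hσ a (qL_facts.1 a ha).1]
      exact ⟨_, show ρ a ∈ sub ρ qL from mem_sub_of_mem ha, rfl⟩
    · rintro ⟨g, hg, rfl⟩
      obtain ⟨a, ha, e⟩ := F.mem_Q.1 (show (g : G) ∈ sub ρ qL from hg)
      refine F₂.mem_Q.2 ⟨a, ha, ?_⟩
      rw [hσ a (qL_facts.1 a ha).1]
      exact congrArg f (Subtype.ext e)

theorem fusion_image {G : Type u} [Group G] [Finite G] {S : Sylow 2 G} {ρ : ℕ → G}
    (F : Syl (S : Subgroup G) ρ) {C : Type u} [Group C] (f : ↥(centralizer ({ρ 16} : Set G)) →* C)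
    {σ : ℕ → C} (hσ : ∀ a (h : a ∈ sL), σ a = f ⟨ρ a, F.le_centralizer_z (F.mem a h)⟩)
    (hy : ∃ c : G, c * ρ 16 = ρ 16 * c ∧ (c * ρ 1 * c⁻¹ = ρ 15 ∨ c * ρ 1 * c⁻¹ = ρ 31)) :
    ∃ c : C, c * σ 1 * c⁻¹ = σ 15 ∨ c * σ 1 * c⁻¹ = σ 31 := by
  obtain ⟨c, hcz, hc⟩ := hy
  refine ⟨f ⟨c, mem_centralizer_singleton_iff.2 hcz⟩, ?_⟩
  have h1 : (1 : ℕ) ∈ sL ∧ 15 ∈ sL ∧ 31 ∈ sL := by decide +kernel
  rw [hσ 1 h1.1, hσ 15 h1.2.1, hσ 31 h1.2.2, ← map_inv, ← map_mul, ← map_mul]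
  rcases hc with hc | hc
  · exact Or.inl (congrArg f (Subtype.ext hc))
  · exact Or.inr (congrArg f (Subtype.ext hc))

/-- The same for the centralizer of `ρ 16` modulo its odd core. -/
theorem recognition_quotient {G : Type u} [Group G] [Finite G] {S : Sylow 2 G} {ρ : ℕ → G}
    (F : Syl (S : Subgroup G) ρ)
    (hN : ((sub ρ qL).subgroupOf (centralizer ({ρ 16} : Set G))).map
      (QuotientGroup.mk' (Cfsg.oddCore ↥(centralizer ({ρ 16} : Set G)))) |>.Normal)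
    (hy : ∃ c : G, c * ρ 16 = ρ 16 * c ∧ (c * ρ 1 * c⁻¹ = ρ 15 ∨ c * ρ 1 * c⁻¹ = ρ 31)) :
    ∃ (z' : Cfsg.Spor.J2) (Q : Sylow 2 Cfsg.Spor.J2), orderOf z' = 2 ∧ z' ∈ (Q : Subgroup Cfsg.Spor.J2) ∧
      (∀ s ∈ (Q : Subgroup Cfsg.Spor.J2), s * z' = z' * s) ∧
      Nonempty ((↥(centralizer ({ρ 16} : Set G)) ⧸ Cfsg.oddCore ↥(centralizer ({ρ 16} : Set G))) ≃*
        ↥(centralizer ({z'} : Set Cfsg.Spor.J2))) := by
  obtain ⟨S₂, σ, F₂, hσ, hzc, hsub⟩ := F.exists_image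
    (QuotientGroup.mk' (Cfsg.oddCore ↥(centralizer ({ρ 16} : Set G)))) (QuotientGroup.mk'_surjective _)
    (by rw [QuotientGroup.ker_mk']; exact Cfsg.Agent.Cores.oddCore_odd)
  haveI : (sub σ qL).Normal := hsub ▸ hN
  exact F₂.recognition (Cfsg.Agent.Cores.pPrimeCore_quotient_self 2) hzc (fusion_image F _ hσ hy)

end Cfsg.Agent.J2Type
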