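import Mathlib
import Cfsg.Agent.Lib.J2Type.CoreMain
import Cfsg.Agent.Lib.J2Type.Fusion
import Cfsg.Agent.Lib.J2Type.Recognition

/-!
The centralizer of the central involution modulo its core, for Sylow 2-subgroups of Hall–Janko type.
-/

set_option autoImplicit false
set_option linter.style.haveILetI false
set_option linter.unusedSectionVars false

namespace Cfsg.Agent.J2Type

open Subgroup
open Cfsg.Agent.J2Uniq (mul inv cj)

universe u

variable {G : Type u} [Group G]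

theorem bridge_facts : (∀ a ∈ sgL, mul a a = 0 ∧ (a = 15 ∨ a = 31 ∨ ∃ s ∈ sL, cj s 1 = a ∨ cj s 17 = a)) ∧
    (∀ a ∈ sL, mul a a = 0 → a = 0 ∨ a = 16 ∨ a ∈ sgL ∨ ((a ∈ aL ∨ a ∈ bL) ∧ a ∉ zL)) ∧
    (∀ a ∈ sL, mul a a = 16 → a ∈ pL) ∧ (∀ a ∈ pL, mul a a = 16) ∧ mul 16 1 = 17 ∧ 17 ∈ sL ∧ 31 ∈ sL ∧
    mul 16 15 = 31 ∧ mul 16 31 = 15 ∧ (∀ a ∈ sL, mul a 0 = a) ∧ (∀ a ∈ sL, mul 0 a = a) ∧
    mul (cj 1 15) (inv 15) = 16 ∧ (∀ a ∈ sL, mul 16 a ∈ sgL → a ∈ sgL) ∧ (∀ a ∈ sL, mul 16 a ∈ pL → a ∈ pL) := by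
  decide +kernel

namespace Syl

variable [Finite G] {S : Sylow 2 G} {ρ : ℕ → G} (F : Syl (S : Subgroup G) ρ)

include F

/-- An element of `S` congruent modulo the core to a given involution is conjugate to it by the core. -/
theorem conj_of_congr {y : G} (hy : orderOf y = 2) (hyC : y * ρ 16 = ρ 16 * y) {b : ℕ} (hb : b ∈ sL)
    (hd : (ρ b)⁻¹ * y ∈ Loc.core (ρ 16)) :
    mul b b = 0 ∧ ∃ d ∈ Loc.core (ρ 16), d * y * d⁻¹ = ρ b := by
  set D := Loc.core (ρ 16)
  have hDodd := Loc.core_odd (ρ 16)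
  have hSn : (S : Subgroup G) ≤ normalizer (D : Set G) := fun s hs =>
    Loc.core_normalizer (F.z_comm hs)
  have hbS := F.mem b hb
  have hy2 := Involutions.Basic.inv_sq_one hy
  have hb2 : ρ b * ρ b = 1 := by
    refine Loc.inf_eq_bot S.isPGroup' hDodd ((S : Subgroup G).mul_mem hbS hbS) ?_
    have h1 := (mem_normalizer_iff.1 (hSn hbS) _).1 (D.mul_mem hd
      ((mem_normalizer_iff.1 (Loc.core_normalizer hyC) _).1 hd))
    rw [show ρ b * ((ρ b)⁻¹ * y * (y * ((ρ b)⁻¹ * y) * y⁻¹)) * (ρ b)⁻¹ = y * y * (ρ b)⁻¹ * (ρ b)⁻¹ by group,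
      hy2, one_mul] at h1
    have h2 := D.inv_mem h1
    rwa [mul_inv_rev, inv_inv] at h2
  refine ⟨(F.sq_one hb).1 hb2, ?_⟩
  have hb1 : ρ b ≠ 1 := fun e => by
    rw [e, inv_one, one_mul] at hd
    have := Loc.odd_orderOf hDodd hd
    rw [hy] at this
    exact absurd this (by decide)
  have hd' : y * ρ b ∈ D := by
    have h3 := D.inv_mem hd
    rwa [mul_inv_rev, inv_inv, Involutions.Basic.inv_eq hy] at h3
  obtain ⟨d, hdz, hde⟩ := Involutions.Basic.exists_conj_of_odd hy (orderOf_eq_prime (by rw [pow_two, hb2]) hb1)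
    (Loc.odd_orderOf hDodd hd')
  exact ⟨d, zpowers_le.2 hd' hdz, hde⟩

theorem code_17 : ρ 17 = ρ 16 * ρ 1 := by
  rw [← bridge_facts.2.2.2.2.1, F.mul_eq 16 sixteen_central.1 1 one_facts.1]

/-- A singular involution is conjugate to `x` or `xz` in the centralizer of `z`. -/
theorem sing_to_x (hy : ∃ h ∈ centralizer ({ρ 16} : Set G), h * ρ 1 * h⁻¹ = ρ 15 ∨ h * ρ 1 * h⁻¹ = ρ 31)
    {a : ℕ} (ha : a ∈ sgL) :
    ∃ g ∈ centralizer ({ρ 16} : Set G), g * ρ a * g⁻¹ = ρ 15 ∨ g * ρ a * g⁻¹ = ρ 31 := by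
  obtain ⟨h, hh, he⟩ := hy
  have h31 : ρ 31 = ρ 16 * ρ 15 := F.code_xz
  have hz2 : ρ 16 * ρ 16 = 1 := Involutions.Basic.inv_sq_one F.order_z
  have h17 : h * ρ 17 * h⁻¹ = ρ 15 ∨ h * ρ 17 * h⁻¹ = ρ 31 := by
    have e : h * ρ 17 * h⁻¹ = ρ 16 * (h * ρ 1 * h⁻¹) := by
      rw [F.code_17, show h * (ρ 16 * ρ 1) * h⁻¹ = h * ρ 16 * h⁻¹ * (h * ρ 1 * h⁻¹) by group,
        mem_centralizer_singleton_iff.1 hh, mul_inv_cancel_right]
    rcases he with e1 | e1
    · exact Or.inr (by rw [e, e1, h31])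
    · exact Or.inl (by rw [e, e1, h31, ← mul_assoc, hz2, one_mul])
  rcases (bridge_facts.1 a ha).2 with rfl | rfl | ⟨s, hs, e | e⟩
  · exact ⟨1, one_mem _, Or.inl (by simp)⟩
  · exact ⟨1, one_mem _, Or.inr (by simp)⟩
  · refine ⟨h * (ρ s)⁻¹, mul_mem hh (inv_mem (F.le_centralizer_z (F.mem s hs))), ?_⟩
    rw [← e, F.cj_eq hs one_facts.1,
      show h * (ρ s)⁻¹ * (ρ s * ρ 1 * (ρ s)⁻¹) * (h * (ρ s)⁻¹)⁻¹ = h * ρ 1 * h⁻¹ by group]
    exact he
  · refine ⟨h * (ρ s)⁻¹, mul_mem hh (inv_mem (F.le_centralizer_z (F.mem s hs))), ?_⟩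
    rw [← e, F.cj_eq hs bridge_facts.2.2.2.2.2.1,
      show h * (ρ s)⁻¹ * (ρ s * ρ 17 * (ρ s)⁻¹) * (h * (ρ s)⁻¹)⁻¹ = h * ρ 17 * h⁻¹ by group]
    exact h17

theorem core_map_eq : Loc.core (ρ 16) =
    (Cfsg.oddCore ↥(centralizer ({ρ 16} : Set G))).map (centralizer ({ρ 16} : Set G)).subtype := rfl

/-- `Q` is normal in the centralizer of `z` modulo the core. -/
theorem Q_normal_mod_core (h2 : ∀ H : Subgroup G, H.index ≠ 2) :
    (((sub ρ qL).subgroupOf (centralizer ({ρ 16} : Set G))).map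
      (QuotientGroup.mk' (Cfsg.oddCore ↥(centralizer ({ρ 16} : Set G))))).Normal := by
  classical
  haveI : Fact (Nat.Prime 2) := ⟨Nat.prime_two⟩
  have hy := F.exists_y_to_x h2
  set C := centralizer ({ρ 16} : Set G)
  set D := Loc.core (ρ 16)
  have hDodd := Loc.core_odd (ρ 16)
  have hDC : D ≤ C := Loc.core_le _
  have hSC : (S : Subgroup G) ≤ C := F.le_centralizer_z
  have hSn : (S : Subgroup G) ≤ normalizer (D : Set G) := fun s hs => Loc.core_normalizer (F.z_comm hs)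
  have hDn : ∀ c ∈ C, ∀ d ∈ D, c * d * c⁻¹ ∈ D := fun c hc d hd =>
    Loc.core_conj_mem (mem_centralizer_singleton_iff.1 hc) hd
  have hzS : ρ 16 ∈ (S : Subgroup G) := F.z_mem
  have hzc : ∀ c ∈ C, c * ρ 16 * c⁻¹ = ρ 16 := fun c hc => by
    rw [mem_centralizer_singleton_iff.1 hc, mul_inv_cancel_right]
  have hzp : IsPGroup 2 (zpowers (ρ 16)) := Loc.isPGroup_zpowers (i := 1) (by rw [F.order_z]; norm_num)
  have hzD : zpowers (ρ 16) ≤ normalizer (D : Set G) := zpowers_le.2 (hSn hzS)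
  have hzcases : ∀ w ∈ zpowers (ρ 16), w = 1 ∨ w = ρ 16 := by
    intro w hw
    obtain ⟨j, rfl⟩ := hw
    show ρ 16 ^ j = 1 ∨ ρ 16 ^ j = ρ 16
    rcases Int.even_or_odd j with ⟨m, hm⟩ | ⟨m, hm⟩
    · exact Or.inl (by rw [hm, ← two_mul, zpow_mul, zpow_two, Involutions.Basic.inv_sq_one F.order_z, one_zpow])
    · exact Or.inr (by
        rw [hm, zpow_add_one, zpow_mul, zpow_two, Involutions.Basic.inv_sq_one F.order_z, one_zpow, one_mul])
  set N := (zpowers (ρ 16) ⊔ D).subgroupOf C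
  haveI hNn : N.Normal := ⟨fun n hn c => by
    obtain ⟨w, hw, d, hd, e⟩ := Loc.mem_sup_iff hzD hn
    have hw' : (c : G) * w * (c : G)⁻¹ = w := by
      rcases hzcases w hw with rfl | rfl
      · simp
      · exact hzc c c.2
    show (c : G) * (n : G) * (c : G)⁻¹ ∈ zpowers (ρ 16) ⊔ D
    have e' : w * d = (n : G) := e
    rw [← e', show (c : G) * (w * d) * (c : G)⁻¹ = (c : G) * w * (c : G)⁻¹ * ((c : G) * d * (c : G)⁻¹) by group, hw']
    exact mul_mem (mem_sup_left hw) (mem_sup_right (hDn c c.2 d hd))⟩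
  set π := QuotientGroup.mk' N
  -- equality in the quotient
  have hπ : ∀ a b : C, π a = π b → ∃ w, (w = 1 ∨ w = ρ 16) ∧ w⁻¹ * ((a : G)⁻¹ * b) ∈ D := fun a b h => by
    obtain ⟨w, hw, d, hd, e⟩ := Loc.mem_sup_iff hzD ((QuotientGroup.eq (s := N) (a := a) (b := b)).1 h)
    refine ⟨w, hzcases w hw, ?_⟩
    have e' : w * d = (a : G)⁻¹ * b := e
    rw [← e', inv_mul_cancel_left]
    exact hd
  have hπ' : ∀ a b : C, (a : G)⁻¹ * b ∈ zpowers (ρ 16) ⊔ D → π a = π b := fun a b h =>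
    (QuotientGroup.eq (s := N) (a := a) (b := b)).2 h
  let τ : ℕ → C ⧸ N := fun a => if h : a ∈ sL then π ⟨ρ a, hSC (F.mem a h)⟩ else 1
  have hτ : ∀ a (h : a ∈ sL), τ a = π ⟨ρ a, hSC (F.mem a h)⟩ := fun a h => dif_pos h
  have hzdiff : ∀ a (ha : a ∈ sL), π ⟨ρ (mul 16 a), hSC (F.mem _ ((sL_closed 16 sixteen_central.1).2.2 a ha))⟩ =
      π ⟨ρ a, hSC (F.mem a ha)⟩ := fun a ha => hπ' _ _ (by
    show (ρ (mul 16 a))⁻¹ * ρ a ∈ zpowers (ρ 16) ⊔ D
    rw [F.mul_eq 16 sixteen_central.1 a ha, ← F.z_comm (F.mem a ha),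
      show (ρ a * ρ 16)⁻¹ * ρ a = (ρ 16)⁻¹ by group]
    exact mem_sup_left (inv_mem (mem_zpowers _)))
  -- congruence of a conjugate with a code
  have hlift : ∀ a ∈ sL, ∀ (g : C ⧸ N), ∀ b ∈ sL, g * τ a * g⁻¹ = τ b → ∃ g0 ∈ C, ∃ b' ∈ sL,
      (b' = b ∨ b' = mul 16 b) ∧ (ρ b')⁻¹ * (g0 * ρ a * g0⁻¹) ∈ D := by
    intro a ha g b hb e
    obtain ⟨g, rfl⟩ := QuotientGroup.mk'_surjective N g
    rw [hτ a ha, hτ b hb, ← map_inv, ← map_mul, ← map_mul] at e
    obtain ⟨w, hw, hd⟩ := hπ _ _ e.symm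
    have hd' : w⁻¹ * ((ρ b)⁻¹ * ((g : G) * ρ a * (g : G)⁻¹)) ∈ D := hd
    rcases hw with rfl | rfl
    · refine ⟨g, g.2, b, hb, Or.inl rfl, ?_⟩
      rwa [inv_one, one_mul] at hd'
    · refine ⟨g, g.2, mul 16 b, (sL_closed 16 sixteen_central.1).2.2 b hb, Or.inr rfl, ?_⟩
      rw [F.mul_eq 16 sixteen_central.1 b hb, ← F.z_comm (F.mem b hb), mul_inv_rev, mul_assoc]
      exact hd'
  obtain ⟨T, hT⟩ : ∃ T : Sylow 2 C, (T : Subgroup C) = (S : Subgroup G).subgroupOf C := ⟨S.subtype hSC, rfl⟩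
  let U := T.mapSurjective (f := π) (QuotientGroup.mk'_surjective _)
  have hSD : ∀ s ∈ (S : Subgroup G), s ∈ D → s = 1 := fun s hs hd => Loc.inf_eq_bot S.isPGroup' hDodd hs hd
  have hmod : Mod (U : Subgroup (C ⧸ N)) τ := by
    refine ⟨fun a ha => ?_, fun a ha b hb => ?_, fun a ha b hb => ⟨fun e => ?_, fun e => ?_⟩, fun s hs => ?_⟩
    · rw [hτ a ha]
      exact ⟨_, hT.ge (mem_subgroupOf.2 (F.mem a ha)), rfl⟩
    · rw [hτ a ha, hτ b hb, hτ _ ((sL_closed a ha).2.2 b hb), ← map_mul]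
      exact congrArg π (Subtype.ext (F.mul_eq a ha b hb))
    · rw [hτ a ha, hτ b hb] at e
      obtain ⟨w, hw, hd⟩ := hπ _ _ e
      have hwS : w ∈ (S : Subgroup G) := by
        rcases hw with rfl | rfl
        · exact one_mem _
        · exact hzS
      have h1 := hSD _ ((S : Subgroup G).mul_mem ((S : Subgroup G).inv_mem hwS)
        ((S : Subgroup G).mul_mem ((S : Subgroup G).inv_mem (F.mem a ha)) (F.mem b hb))) hd
      have h2 : ρ b = ρ a * w := by rw [inv_mul_eq_one.1 h1, mul_inv_cancel_left]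
      rcases hw with rfl | rfl
      · exact Or.inl (F.inj a ha b hb (by rw [h2, mul_one]))
      · refine Or.inr (F.inj _ ((sL_closed 16 sixteen_central.1).2.2 a ha) b hb ?_)
        rw [F.mul_eq 16 sixteen_central.1 a ha, h2, F.z_comm (F.mem a ha)]
    · rcases e with rfl | rfl
      · rfl
      · rw [hτ a ha, hτ _ ((sL_closed 16 sixteen_central.1).2.2 a ha)]
        exact (hzdiff a ha).symm
    · obtain ⟨t, ht, rfl⟩ := hs
      obtain ⟨a, ha, e⟩ := F.surj _ (mem_subgroupOf.1 (hT.le ht))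
      exact ⟨a, ha, by rw [hτ a ha]; exact congrArg π (Subtype.ext e)⟩
  have hxC : ρ 15 ∈ C := hSC (F.mem 15 x_facts.1)
  have hhyp : Hyp U τ := by
    refine { toMod := hmod, sing := ?_, pair := ?_, fus := ?_, split := ?_ }
    · intro a ha g b hb e
      have has := (types_sub.1 a ha).2.1
      obtain ⟨g0, hg0, b', hb', hbb, hd⟩ := hlift a has g b hb e
      have hy2 : orderOf (g0 * ρ a * g0⁻¹) = 2 := by
        rw [Involutions.Basic.orderOf_conj]
        exact F.orderOf_two has (bridge_facts.1 a ha).1 (types_sub.1 a ha).2.2.2.1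
      obtain ⟨hb2, d, hd', hde⟩ := F.conj_of_congr hy2
        (mem_centralizer_singleton_iff.1 (C.mul_mem (C.mul_mem hg0 (hSC (F.mem a has))) (C.inv_mem hg0))) hb' hd
      have hb'sg : b' ∈ sgL := by
        have hne : ρ b' ≠ 1 ∧ ρ b' ≠ ρ 16 := by
          refine ⟨fun h => ?_, fun h => ?_⟩
          · rw [h] at hde
            exact Involutions.Basic.ne_one hy2 (conj_eq_one_iff.1 hde)
          · rw [h] at hde
            have h' : ρ a = ρ 16 := by
              have h1 := hzc _ (C.inv_mem (C.mul_mem (hDC hd') hg0))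
              nth_rewrite 1 [← hde] at h1
              rw [← h1]; group
            exact (types_sub.1 a ha).2.2.2.2 (F.inj a has 16 sixteen_central.1 h')
        rcases bridge_facts.2.1 b' hb' hb2 with h | h | h | ⟨h, hz⟩
        · exact absurd (h ▸ F.zero) hne.1
        · exact absurd (h ▸ rfl) hne.2
        · exact h
        · exfalso
          obtain ⟨k, hk, hke⟩ := F.sing_to_x hy ha
          have hk' : k * (d * g0)⁻¹ ∈ C := C.mul_mem hk (C.inv_mem (C.mul_mem (hDC hd') hg0))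
          have := F.v_not_x hk' h hz
          rw [← hde, show k * (d * g0)⁻¹ * (d * (g0 * ρ a * g0⁻¹) * d⁻¹) * (k * (d * g0)⁻¹)⁻¹ = k * ρ a * k⁻¹ by
            group] at this
          rcases hke with h1 | h1
          · exact this.1 h1
          · exact this.2 h1
      rcases hbb with rfl | rfl
      · exact hb'sg
      · exact bridge_facts.2.2.2.2.2.2.2.2.2.2.2.2.1 b hb hb'sg
    · intro a ha g b hb e
      have has := (types_sub.2.1 a ha).2.1
      obtain ⟨g0, hg0, b', hb', hbb, hd⟩ := hlift a has g b hb e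
      have hsq : τ b * τ b = 1 := by
        rw [← e, show g * τ a * g⁻¹ * (g * τ a * g⁻¹) = g * (τ a * τ a) * g⁻¹ by group,
          (hmod.sq_one has).2 (types_sub.2.1 a ha).2.2.1, mul_one, mul_inv_cancel]
      have hb'p : b' ∈ pL := by
        refine bridge_facts.2.2.1 b' hb' ?_
        have h2 : mul b' b' ∈ [0, 16] := (hmod.sq_one hb').1 (by
          rcases hbb with rfl | rfl
          · exact hsq
          · rw [hmod.mul_eq 16 sixteen_central.1 b hb, hmod.z_one, one_mul, hsq])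
        rcases List.mem_pair.1 h2 with h2 | h2
        · exfalso
          set y := g0 * ρ a * g0⁻¹
          have hyy : y * y = ρ 16 := by
            rw [show y * y = g0 * (ρ a * ρ a) * g0⁻¹ by simp only [y]; group, ← F.mul_eq a has a has,
              bridge_facts.2.2.2.1 a ha, hzc g0 hg0]
          have h3 : (ρ b')⁻¹ = ρ b' := inv_eq_of_mul_eq_one_right ((F.sq_one hb').2 h2)
          have h4 : (ρ 16 : G) ∈ D := by
            have hyC : y * ρ 16 = ρ 16 * y :=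
              mem_centralizer_singleton_iff.1 (C.mul_mem (C.mul_mem hg0 (hSC (F.mem a has))) (C.inv_mem hg0))
            have h1 := (mem_normalizer_iff.1 (hSn (F.mem b' hb')) _).1 (D.mul_mem hd
              ((mem_normalizer_iff.1 (Loc.core_normalizer hyC) _).1 hd))
            rwa [show ρ b' * ((ρ b')⁻¹ * y * (y * ((ρ b')⁻¹ * y) * y⁻¹)) * (ρ b')⁻¹ =
              y * y * ((ρ b')⁻¹ * (ρ b')⁻¹) by group, hyy, h3, (F.sq_one hb').2 h2, mul_one] at h1
          exact Involutions.Basic.ne_one F.order_z (hSD _ hzS h4)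
        · exact h2
      rcases hbb with rfl | rfl
      · exact hb'p
      · exact bridge_facts.2.2.2.2.2.2.2.2.2.2.2.2.2 b hb hb'p
    · obtain ⟨h, hh, he⟩ := hy
      refine ⟨π ⟨h, hh⟩, ?_⟩
      rw [hτ 1 x_facts.2.2.1, hτ 15 x_facts.1, ← map_inv, ← map_mul, ← map_mul]
      rcases he with he | he
      · exact congrArg π (Subtype.ext he)
      · refine hπ' _ _ ?_
        show (h * ρ 1 * h⁻¹)⁻¹ * ρ 15 ∈ zpowers (ρ 16) ⊔ D
        rw [he, F.code_xz, mul_inv_rev, mul_assoc, Involutions.Basic.inv_eq F.order_z, ← F.z_comm (F.mem 15 x_facts.1),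
          inv_mul_cancel_left]
        exact mem_sup_left (mem_zpowers _)
    · refine ⟨((centralizer ({ρ 15} : Set G)).subgroupOf C).map π, ?_, ?_, ?_, ?_⟩
      · rintro _ ⟨k, hk, rfl⟩
        rw [hτ 15 x_facts.1, ← map_mul, ← map_mul]
        exact congrArg π (Subtype.ext (mem_centralizer_singleton_iff.1 (mem_subgroupOf.1 hk)))
      · intro r hr
        rw [hτ r (rL_closed r hr).1]
        exact ⟨_, mem_subgroupOf.2 (F.R_le_centZX (mem_sub_of_mem hr)).2, rfl⟩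
      · rintro ⟨c, hc, e⟩
        rw [hτ 1 x_facts.2.2.1] at e
        obtain ⟨w, hw, hd⟩ := hπ _ _ e
        have hd' : w⁻¹ * ((c : G)⁻¹ * ρ 1) ∈ D := hd
        have hcx := mem_centralizer_singleton_iff.1 (mem_subgroupOf.1 hc)
        have hwx : w * ρ 15 = ρ 15 * w := by
          rcases hw with rfl | rfl
          · simp
          · exact (F.z_comm (F.mem 15 x_facts.1)).symm
        -- then `ρ 1` fixes `x` modulo the core
        have h1 : ρ 1 * ρ 15 * (ρ 1)⁻¹ * (ρ 15)⁻¹ = 1 := by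
          refine hSD _ ?_ ?_
          · exact mul_mem (mul_mem (mul_mem (F.mem 1 x_facts.2.2.1) (F.mem 15 x_facts.1))
              (inv_mem (F.mem 1 x_facts.2.2.1))) (inv_mem (F.mem 15 x_facts.1))
          · set δ := w⁻¹ * ((c : G)⁻¹ * ρ 1)
            have hy1 : ρ 1 = (c : G) * w * δ := by simp only [δ]; group
            have hcw : (c : G) * w ∈ C := C.mul_mem c.2 (by
              rcases hw with rfl | rfl
              · exact C.one_mem
              · exact hSC hzS)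
            have h2 := hDn _ hcw _ (D.mul_mem hd' (hDn _ hxC _ (D.inv_mem hd')))
            have hfix : (c : G) * w * ρ 15 * ((c : G) * w)⁻¹ = ρ 15 := by
              rw [mul_assoc (c : G) w, hwx, ← mul_assoc (c : G), hcx]; group
            rw [hy1]
            rw [show (c : G) * w * (δ * (ρ 15 * δ⁻¹ * (ρ 15)⁻¹)) * ((c : G) * w)⁻¹ =
              (c : G) * w * δ * ρ 15 * ((c : G) * w * δ)⁻¹ * ((c : G) * w * ρ 15 * ((c : G) * w)⁻¹)⁻¹ by group,
              hfix] at h2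
            exact h2
        rw [← F.cj_eq x_facts.2.2.1 x_facts.1, ← F.inv_eq x_facts.1,
          ← F.mul_eq (cj 1 15) ((sL_closed _ ((sL_closed 1 x_facts.2.2.1).2.2 15 x_facts.1)).2.2 _
            (sL_closed 1 x_facts.2.2.1).2.1) _ (sL_closed 15 x_facts.1).2.1,
          bridge_facts.2.2.2.2.2.2.2.2.2.2.2.1] at h1
        exact Involutions.Basic.ne_one F.order_z h1
      · intro g hg
        obtain ⟨g, rfl⟩ := QuotientGroup.mk'_surjective N g
        have e : π g * τ 15 * (π g)⁻¹ = τ 15 := by rw [hg, mul_inv_cancel_right]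
        obtain ⟨w, hw, hd⟩ := hπ _ _ (show π ⟨ρ 15, hSC (F.mem 15 x_facts.1)⟩ =
            π (g * ⟨ρ 15, hSC (F.mem 15 x_facts.1)⟩ * g⁻¹) by
          rw [hτ 15 x_facts.1, ← map_inv, ← map_mul, ← map_mul] at e
          exact e.symm)
        have hd' : w⁻¹ * ((ρ 15)⁻¹ * ((g : G) * ρ 15 * (g : G)⁻¹)) ∈ D := hd
        have hy2 : orderOf ((g : G) * ρ 15 * (g : G)⁻¹) = 2 := by rw [Involutions.Basic.orderOf_conj, F.order_x]
        have hyC : (g : G) * ρ 15 * (g : G)⁻¹ * ρ 16 = ρ 16 * ((g : G) * ρ 15 * (g : G)⁻¹) :=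
          mem_centralizer_singleton_iff.1 (C.mul_mem (C.mul_mem g.2 hxC) (C.inv_mem g.2))
        obtain ⟨b, hb, hbe, hbd⟩ : ∃ b ∈ sL, (b = 15 ∨ b = 31) ∧
            (ρ b)⁻¹ * ((g : G) * ρ 15 * (g : G)⁻¹) ∈ D := by
          rcases hw with rfl | rfl
          · exact ⟨15, x_facts.1, Or.inl rfl, by rwa [inv_one, one_mul] at hd'⟩
          · refine ⟨31, bridge_facts.2.2.2.2.2.2.1, Or.inr rfl, ?_⟩
            rwa [F.code_xz, ← F.z_comm (F.mem 15 x_facts.1), mul_inv_rev, mul_assoc]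
        obtain ⟨-, d, hdm, hde⟩ := F.conj_of_congr hy2 hyC hb hbd
        have hπd : π ⟨d * g, C.mul_mem (hDC hdm) g.2⟩ = π g := hπ' _ _ (by
          show (d * (g : G))⁻¹ * g ∈ zpowers (ρ 16) ⊔ D
          have := hDn _ (C.inv_mem g.2) _ (D.inv_mem hdm)
          rw [inv_inv] at this
          rw [show (d * (g : G))⁻¹ * g = (g : G)⁻¹ * d⁻¹ * g by group]
          exact mem_sup_right this)
        rw [show d * ((g : G) * ρ 15 * (g : G)⁻¹) * d⁻¹ = d * g * ρ 15 * (d * g)⁻¹ by group] at hde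
        rcases hbe with rfl | rfl
        · exact Or.inl ⟨_, mem_subgroupOf.2 (mem_centralizer_singleton_iff.2 (mul_inv_eq_iff_eq_mul.1 hde)), hπd⟩
        · refine Or.inr ⟨⟨ρ 1, hSC (F.mem 1 x_facts.2.2.1)⟩ * ⟨d * g, C.mul_mem (hDC hdm) g.2⟩,
            mem_subgroupOf.2 (mem_centralizer_singleton_iff.2 (mul_inv_eq_iff_eq_mul.1 ?_)), ?_⟩
          · show ρ 1 * (d * g) * ρ 15 * (ρ 1 * (d * g))⁻¹ = ρ 15
            rw [show ρ 1 * (d * g) * ρ 15 * (ρ 1 * (d * g))⁻¹ = ρ 1 * (d * g * ρ 15 * (d * g)⁻¹) * (ρ 1)⁻¹ by group,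
              hde, F.one_swap.2]
          · rw [map_mul, hπd, hτ 1 x_facts.2.2.1]
  -- no odd core
  have hO : Cfsg.oddCore (C ⧸ N) = ⊥ := by
    set P0 := ((Cfsg.oddCore (C ⧸ N)).comap π).map C.subtype
    have hP0C : P0 ≤ C := map_subtype_le _
    have hP0n : ∀ c ∈ C, ∀ d ∈ P0, c * d * c⁻¹ ∈ P0 := by
      rintro c hc _ ⟨d, hd, rfl⟩
      exact ⟨⟨c, hc⟩ * d * ⟨c, hc⟩⁻¹, ((Loc.oddCore_normal _).comap π).conj_mem d hd _, rfl⟩
    obtain ⟨D', hD'P, hD'o, -, hP0eq, hD'n⟩ := Loc.exists_odd_part (K := P0) (T := zpowers (ρ 16))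
      (fun x hx => ⟨⟨x, (zpowers_le.2 (hSC hzS)) hx⟩, mem_comap.2 (by
        rw [show π ⟨x, (zpowers_le.2 (hSC hzS)) hx⟩ = 1 from (QuotientGroup.eq_one_iff _).2 (mem_sup_left hx)]
        exact one_mem _), rfl⟩) hzp
      (fun x hx k hk => by
        rcases hzcases x hx with rfl | rfl
        · simp
        · exact (mem_centralizer_singleton_iff.1 (hP0C hk)).symm)
      (by
        rintro _ ⟨k, hk, rfl⟩ ⟨i, hi⟩
        have h1 : π k = 1 := by
          refine Loc.eq_one_of_two_odd (Loc.isPGroup_zpowers (i := i) ?_) (mem_zpowers _)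
            (Loc.odd_orderOf InvChar.Core.odd_card_oddCore hk)
          refine (orderOf_map_dvd π _).trans ?_
          rw [← Subgroup.orderOf_coe]
          exact hi
        obtain ⟨w, hw, d, hd, e⟩ := Loc.mem_sup_iff hzD ((QuotientGroup.eq_one_iff k).1 h1)
        have hkz : (k : G) * ρ 16 = ρ 16 * k := mem_centralizer_singleton_iff.1 k.2
        have hd2 : orderOf d ∣ 2 ^ (i + 1) := by
          refine orderOf_dvd_of_pow_eq_one ?_
          have hde : d = w⁻¹ * (k : G) := by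
            have e' : w * d = (k : G) := e
            rw [← e', inv_mul_cancel_left]
          have hcomm : Commute w⁻¹ (k : G) := by
            rcases hzcases w hw with rfl | rfl
            · simp
            · rw [Involutions.Basic.inv_eq F.order_z]; exact hkz.symm
          have h3 : w⁻¹ ^ 2 = 1 := by
            rcases hzcases w hw with rfl | rfl
            · simp
            · rw [Involutions.Basic.inv_eq F.order_z, pow_two, Involutions.Basic.inv_sq_one F.order_z]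
          have hi' : (k : G) ^ 2 ^ i = 1 := orderOf_dvd_iff_pow_eq_one.1 hi
          rw [hde, hcomm.mul_pow]
          conv_lhs => rw [show w⁻¹ ^ 2 ^ (i + 1) = (w⁻¹ ^ 2) ^ 2 ^ i by rw [← pow_mul, pow_succ, mul_comm],
            h3, one_pow, one_mul, pow_succ, pow_mul, hi', one_pow]
        have hd1 : d = 1 := Loc.eq_one_of_two_odd (Loc.isPGroup_zpowers hd2) (mem_zpowers d) (Loc.odd_orderOf hDodd hd)
        show (k : G) ∈ zpowers (ρ 16)
        have e' : w * d = (k : G) := e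
        rw [← e', hd1, mul_one]
        exact hw)
    have hD'D : D' ≤ D := Loc.le_core (hD'P.trans hP0C) hD'o fun c hc d hd =>
      hD'n c (hP0n c (mem_centralizer_singleton_iff.2 hc)) d hd
    refine (Subgroup.eq_bot_iff_forall _).2 fun q hq => ?_
    obtain ⟨c, rfl⟩ := QuotientGroup.mk'_surjective N q
    have h1 : (c : G) ∈ P0 := ⟨c, hq, rfl⟩
    rw [hP0eq] at h1
    exact (QuotientGroup.eq_one_iff c).2 (sup_le_sup_left hD'D _ h1)
  have hEn := hhyp.E_normal hO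
  haveI := Loc.oddCore_normal C
  refine ⟨?_⟩
  rintro _ ⟨q, hq, rfl⟩ g
  obtain ⟨g, rfl⟩ := QuotientGroup.mk'_surjective (Cfsg.oddCore C) g
  obtain ⟨a, ha, hae⟩ := F.mem_Q.1 (mem_subgroupOf.1 hq)
  have has := (qL_closed a ha).1
  have h1 : π q ∈ uE τ := by
    have h2 : π q = τ a := by rw [hτ a has]; exact congrArg π (Subtype.ext hae.symm)
    rw [h2]
    exact mem_sub_of_mem ha
  obtain ⟨b, hb, hbe⟩ := hmod.mem_E.1 (hEn.conj_mem _ h1 (π g))
  have hbs := (qL_closed b hb).1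
  rw [hτ b hbs, ← map_inv, ← map_mul, ← map_mul] at hbe
  obtain ⟨w, hw, hd⟩ := hπ _ _ hbe
  have hwQ : w ∈ sub ρ qL := by
    rcases hw with rfl | rfl
    · exact one_mem _
    · exact mem_sub_of_mem qL_lists.2.1
  have hbQ : ρ b ∈ sub ρ qL := mem_sub_of_mem hb
  have hwC : w ∈ C := by
    rcases hw with rfl | rfl
    · exact C.one_mem
    · exact hSC hzS
  refine ⟨⟨ρ b * w, C.mul_mem (hSC (F.mem b hbs)) hwC⟩, mem_subgroupOf.2 ((sub ρ qL).mul_mem hbQ hwQ), ?_⟩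
  rw [← map_inv, ← map_mul, ← map_mul, QuotientGroup.mk'_apply, QuotientGroup.mk'_apply, QuotientGroup.eq]
  obtain ⟨d, hdO, hde⟩ := hd
  have e1 : (d : G) = w⁻¹ * ((ρ b)⁻¹ * ((g : G) * (q : G) * (g : G)⁻¹)) := hde
  have e2 : d = (⟨ρ b * w, C.mul_mem (hSC (F.mem b hbs)) hwC⟩ : C)⁻¹ * (g * q * g⁻¹) := by
    refine Subtype.ext ?_
    rw [e1]
    show w⁻¹ * ((ρ b)⁻¹ * ((g : G) * (q : G) * (g : G)⁻¹)) = (ρ b * w)⁻¹ * ((g : G) * (q : G) * (g : G)⁻¹)
    group
  exact e2 ▸ hdO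

/-- The centralizer of `z` modulo its core is the centralizer of a 2-central involution of `J2`. -/
theorem centralizer_type (h2 : ∀ H : Subgroup G, H.index ≠ 2) :
    ∃ (z' : Cfsg.Spor.J2) (Q : Sylow 2 Cfsg.Spor.J2), orderOf z' = 2 ∧ z' ∈ (Q : Subgroup Cfsg.Spor.J2) ∧
      (∀ s ∈ (Q : Subgroup Cfsg.Spor.J2), s * z' = z' * s) ∧
      Nonempty ((↥(centralizer ({ρ 16} : Set G)) ⧸ Cfsg.oddCore ↥(centralizer ({ρ 16} : Set G))) ≃*
        ↥(centralizer ({z'} : Set Cfsg.Spor.J2))) := by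
  obtain ⟨h, hh, he⟩ := F.exists_y_to_x h2
  exact recognition_quotient F (F.Q_normal_mod_core h2) ⟨h, mem_centralizer_singleton_iff.1 hh, he⟩

end Syl

end Cfsg.Agent.J2Type
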