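import Cfsg.Agent.Lib.J2Type.RecogChecks

/-!
Checks for the classes of involutions of a group with a Sylow 2-subgroup of Hall–Janko type.
-/

set_option autoImplicit false
set_option maxRecDepth 100000
set_option maxHeartbeats 1000000

namespace Cfsg.Agent.J2Type

open Cfsg.Agent.J2Uniq (mul inv cj)

/-- One element from each coset of `⟨z, x⟩` in the first elementary subgroup. -/
def outRepL : List ℕ := [416, 960, 1376]

/-- The coset of a code. -/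
def cosetL (r : ℕ) : List ℕ := [r, mul r 16, mul r 15, mul r 31]

theorem rep_coset : ∀ r ∈ outRepL, r ∈ aL ∧ r ∉ zL ∧ r ∉ qL ∧ (cosetL r).Nodup ∧
    mul (mul (mul r (mul r 16)) (mul r 15)) (mul r 31) = 0 ∧
    ∀ w ∈ cosetL r, w ∈ aL ∧ w ∉ zL ∧ (∃ t ∈ rL, cj t r = w) ∧ ∃ t ∈ rL, cj t w = r := by
  decide +kernel

theorem aL_reps : ∀ a ∈ aL, a ∉ zL → ∃ r ∈ outRepL, a ∈ cosetL r := by decide +kernel

theorem rep_lift : ∀ r ∈ outRepL, ∀ b ∈ sL, mul b b = 0 → mul (inv r) b ∈ qL → ∃ t ∈ sL, cj t b = r := by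
  decide +kernel

theorem yL_orbit : ∀ a ∈ yL, ∃ t ∈ sL, cj t 1 = a := by decide +kernel

theorem bL_to_aL : ∀ b ∈ bL, b ∉ zL → cj 1 b ∈ aL ∧ cj 1 b ∉ zL := by decide +kernel

theorem qL_minus : ∀ a ∈ qL, ∀ b ∈ qL, mul a a = 0 → mul b b = 0 → a ∉ [0, 16] → b ∉ [0, 16] →
    mul a b = mul b a → b = a ∨ b = mul 16 a := by
  decide +kernel

theorem zL_split : ∀ a ∈ zL, a = 0 ∨ a = 16 ∨ a = 15 ∨ a = 31 := by decide +kernel

theorem zL_in_aL : (∀ a ∈ zL, a ∈ aL) ∧ 416 ∈ aL ∧ 416 ∉ zL ∧ 416 ∈ outRepL ∧ 15 ∈ sL ∧ 31 ∈ sL := by decide +kernel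

end Cfsg.Agent.J2Type
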