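import Cfsg.Agent.Lib.J2Type.Recognition
import Cfsg.Agent.Lib.J2Type.Fusion
import Cfsg.Agent.Lib.J2Type.ClassChecks
import Cfsg.Agent.Lib.Involutions.Isolated
import Cfsg.Agent.Lib.ZStar.Main
import Cfsg.Agent.Lib.J2Uniq.Main
import Cfsg.Agent.Lib.J2Uniq.Hyps
import Cfsg.Agent.Lib.J3Glue.Iso

/-!
The classes of involutions of a simple group with a Sylow 2-subgroup of Hall–Janko type.
-/

set_option autoImplicit false
set_option linter.style.haveILetI false
set_option linter.unusedSectionVars false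
set_option maxHeartbeats 1000000

namespace Cfsg.Agent.J2Type

open Subgroup
open scoped Pointwise
open Cfsg.Agent.J2Uniq (mul inv cj)

universe u

variable {G : Type u} [Group G]

theorem index_ne_two_of_simple [Finite G] [IsSimpleGroup G] {S : Sylow 2 G} {ρ : ℕ → G}
    (F : Syl (S : Subgroup G) ρ) (H : Subgroup G) : H.index ≠ 2 := by
  intro h
  haveI := normal_of_index_eq_two h
  rcases IsSimpleGroup.eq_bot_or_eq_top_of_normal H inferInstance with e | e
  · rw [e, index_bot] at h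
    have := (S : Subgroup G).card_le_card_group
    rw [F.card_eq, h] at this
    omega
  · rw [e, index_top] at h
    omega

theorem oddCore_bot_of_simple [Finite G] [IsSimpleGroup G] {S : Sylow 2 G} {ρ : ℕ → G}
    (F : Syl (S : Subgroup G) ρ) : Cfsg.oddCore G = ⊥ := by
  rcases IsSimpleGroup.eq_bot_or_eq_top_of_normal (Cfsg.oddCore G) inferInstance with e | e
  · exact e
  · exfalso
    have h := Cfsg.Agent.Cores.oddCore_odd (G := G)
    rw [e, card_top] at h
    refine Nat.not_even_iff_odd.2 h (even_iff_two_dvd.2 ((dvd_trans ?_ (card_subgroup_dvd_card (S : Subgroup G)))))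
    rw [F.card_eq]
    norm_num

namespace Syl

variable [Finite G] {S : Sylow 2 G} {ρ : ℕ → G} (F : Syl (S : Subgroup G) ρ)

include F

theorem conj_cj {t a : ℕ} (ht : t ∈ sL) (ha : a ∈ sL) : IsConj (ρ a) (ρ (cj t a)) :=
  isConj_iff.2 ⟨ρ t, (F.cj_eq ht ha).symm⟩

/-- Fusion of `z` inside `A` is done by the normalizer of `A`. -/
theorem exists_normalizer_conj {a : ℕ} (ha : a ∈ aL) (hconj : IsConj (ρ 16) (ρ a)) :
    ∃ n ∈ normalizer (subA ρ : Set G), n * ρ 16 * n⁻¹ = ρ a := by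
  haveI : Fact (Nat.Prime 2) := ⟨Nat.prime_two⟩
  obtain ⟨g, hg⟩ := isConj_iff.1 hconj
  set T := centralizer ({ρ a} : Set G) with hT
  have hPT : ((g • S : Sylow 2 G) : Subgroup G) ≤ T := by
    intro s hs
    rw [Sylow.coe_subgroup_smul, Subgroup.mem_pointwise_smul_iff_inv_smul_mem, MulAut.smul_def,
      ← map_inv, MulAut.conj_apply, inv_inv] at hs
    refine mem_centralizer_singleton_iff.2 ?_
    have h := F.z_comm hs
    rw [← hg]
    calc s * (g * ρ 16 * g⁻¹) = g * (g⁻¹ * s * g * ρ 16) * g⁻¹ := by group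
      _ = g * (ρ 16 * (g⁻¹ * s * g)) * g⁻¹ := by rw [h]
      _ = g * ρ 16 * g⁻¹ * s := by group
  have hAT : subA ρ ≤ T := fun b hb =>
    mem_centralizer_singleton_iff.2 (F.A_comm hb (mem_sub_of_mem ha))
  have hAp : IsPGroup 2 ↥((subA ρ).subgroupOf T) :=
    ((IsPGroup.of_card (n := 4) (by rw [F.card_A]; norm_num) : IsPGroup 2 (subA ρ))).comap_subtype
  obtain ⟨k, hk⟩ := exists_conj_le ((g • S).subtype hPT) hAp
  have hkA : ∀ b ∈ subA ρ, g⁻¹ * (k : G) * b * ((k : G)⁻¹ * g) ∈ (S : Subgroup G) := by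
    intro b hb
    have h : (k : G) * b * (k : G)⁻¹ ∈ ((g • S : Sylow 2 G) : Subgroup G) :=
      hk ⟨⟨b, hAT hb⟩, hb, rfl⟩
    rw [Sylow.coe_subgroup_smul, Subgroup.mem_pointwise_smul_iff_inv_smul_mem, MulAut.smul_def,
      ← map_inv, MulAut.conj_apply, inv_inv] at h
    simpa [mul_assoc] using h
  set m := g⁻¹ * (k : G) with hm
  have hmA : (subA ρ).map (MulAut.conj m).toMonoidHom ≤ (S : Subgroup G) := by
    rintro _ ⟨b, hb, rfl⟩
    have := hkA b hb
    simpa [hm, mul_assoc] using this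
  have hkz : (k : G)⁻¹ * ρ a * (k : G) = ρ a := by
    rw [mul_assoc, ← mem_centralizer_singleton_iff.1 k.2, inv_mul_cancel_left]
  have fin : ∀ m' : G, m'⁻¹ * ρ 16 * m' = ρ a → (subA ρ).map (MulAut.conj m').toMonoidHom = subA ρ →
      ∃ n ∈ normalizer (subA ρ : Set G), n * ρ 16 * n⁻¹ = ρ a := by
    intro m' h1 h2
    refine ⟨m'⁻¹, inv_mem (mem_normalizer_iff.2 fun b => ⟨fun hb => ?_, fun hb => ?_⟩), by rwa [inv_inv]⟩
    · rw [← h2]; exact ⟨b, hb, rfl⟩
    · rw [← h2] at hb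
      obtain ⟨c, hc, e⟩ := hb
      exact (MulAut.conj m').injective e ▸ hc
  have hmz : m⁻¹ * ρ 16 * m = ρ a := by
    rw [hm, show (g⁻¹ * (k : G))⁻¹ * ρ 16 * (g⁻¹ * (k : G)) = (k : G)⁻¹ * (g * ρ 16 * g⁻¹) * k by group, hg, hkz]
  rcases F.sixteen hmA (by rw [card_map_of_injective (MulAut.conj m).injective, F.card_A])
    (by rintro _ ⟨b, hb, rfl⟩; rw [← map_mul, F.A_sq hb, map_one]) with e | e
  · exact fin m hmz e
  · refine fin (ρ 1 * m) ?_ ?_
    · have hz1 := F.z_comm (F.mem 1 one_facts.1)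
      rw [show (ρ 1 * m)⁻¹ * ρ 16 * (ρ 1 * m) = m⁻¹ * ((ρ 1)⁻¹ * (ρ 16 * ρ 1)) * m by group, ← hz1,
        inv_mul_cancel_left, hmz]
    · refine eq_of_le_of_card_ge ?_ (by rw [card_map_of_injective (MulAut.conj _).injective])
      rintro _ ⟨b, hb, rfl⟩
      have : m * b * m⁻¹ ∈ subB ρ := e ▸ ⟨b, hb, rfl⟩
      have := F.one_conj_B this
      simpa [mul_assoc] using this

/-- The conjugates of `z` in `A` have product `z` when `x` and `xz` are not among them. -/
theorem fix_z_of_not_x (h15 : ¬ IsConj (ρ 16) (ρ 15)) {n : G} (hn : n ∈ normalizer (subA ρ : Set G)) :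
    n * ρ 16 * n⁻¹ = ρ 16 := by
  classical
  have h31 : ¬ IsConj (ρ 16) (ρ 31) := fun h =>
    h15 (h.trans (isConj_iff.2 ⟨ρ 1, F.one_swap.2⟩))
  set N := normalizer (subA ρ : Set G) with hN
  letI : CommGroup ↥(subA ρ) := { (inferInstance : Group ↥(subA ρ)) with
    mul_comm := fun p q => Subtype.ext (F.A_comm p.2 q.2) }
  letI : Fintype ↥(subA ρ) := Fintype.ofFinite _
  let P : G → Prop := fun v => ∃ n ∈ N, n * ρ 16 * n⁻¹ = v
  let el : ℕ → ↥(subA ρ) := fun a => if h : a ∈ aL then ⟨ρ a, mem_sub_of_mem h⟩ else 1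
  have hel : ∀ a (h : a ∈ aL), (el a : G) = ρ a := fun a h => by simp only [el, dif_pos h]
  let T : Finset ↥(subA ρ) := Finset.univ.filter fun b => P (b : G)
  -- invariance
  let φ : ↥(subA ρ) ≃* ↥(subA ρ) :=
    { toFun := fun b => ⟨n * b * n⁻¹, (mem_normalizer_iff.1 hn _).1 b.2⟩
      invFun := fun b => ⟨n⁻¹ * b * n, by
        have := (mem_normalizer_iff.1 (inv_mem hn) _).1 b.2
        simpa using this⟩
      left_inv := fun b => Subtype.ext (by simp [mul_assoc])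
      right_inv := fun b => Subtype.ext (by simp [mul_assoc])
      map_mul' := fun p q => Subtype.ext (by simp [mul_assoc]) }
  have hTφ : ∀ b, b ∈ T ↔ φ b ∈ T := fun b => by
    simp only [T, Finset.mem_filter, Finset.mem_univ, true_and]
    constructor
    · rintro ⟨m, hm, e⟩
      exact ⟨n * m, mul_mem hn hm, by
        show n * m * ρ 16 * (n * m)⁻¹ = n * (b : G) * n⁻¹
        rw [← e]; group⟩
    · rintro ⟨m, hm, e⟩
      refine ⟨n⁻¹ * m, mul_mem (inv_mem hn) hm, ?_⟩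
      have e' : m * ρ 16 * m⁻¹ = n * (b : G) * n⁻¹ := e
      rw [show n⁻¹ * m * ρ 16 * (n⁻¹ * m)⁻¹ = n⁻¹ * (m * ρ 16 * m⁻¹) * n by group, e']
      group
  have hinv : φ (∏ b ∈ T, b) = ∏ b ∈ T, b := by
    rw [map_prod]
    exact Finset.prod_equiv φ.toEquiv hTφ fun _ _ => rfl
  -- the product
  have h16A : (16 : ℕ) ∈ aL := zL_in_aL.1 16 fusion_facts.2.2.2.2.2.1
  have hzT : el 16 ∈ T := by
    simp only [T, Finset.mem_filter, Finset.mem_univ, true_and]
    exact ⟨1, one_mem _, by rw [hel 16 h16A]; group⟩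
  have hout : ∀ b ∈ T, b ≠ el 16 → ∃ a ∈ aL, a ∉ zL ∧ el a = b := by
    intro b hb hne
    simp only [T, Finset.mem_filter, Finset.mem_univ, true_and] at hb
    obtain ⟨a, ha, hae⟩ := F.mem_A.1 b.2
    refine ⟨a, ha, fun haz => ?_, Subtype.ext ((hel a ha).trans hae)⟩
    obtain ⟨m, hm, hme⟩ := hb
    have hc : IsConj (ρ 16) (ρ a) := isConj_iff.2 ⟨m, hme.trans hae.symm⟩
    rcases zL_split a haz with rfl | rfl | rfl | rfl
    · rw [F.zero] at hc
      exact Involutions.Basic.ne_one F.order_z (isConj_one_left.1 hc)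
    · exact hne (Subtype.ext (hae.symm.trans (hel 16 h16A).symm))
    · exact h15 hc
    · exact h31 hc
  have hRinv : ∀ t ∈ rL, ∀ w ∈ aL, cj t w ∈ aL → P (ρ w) → P (ρ (cj t w)) := by
    rintro t ht w hw hw' ⟨m, hm, e⟩
    refine ⟨ρ t * m, mul_mem (F.R_le_normA (mem_sub_of_mem ht)).2 hm, ?_⟩
    rw [F.cj_eq (rL_closed t ht).1 (aL_sub w hw).2.1, ← e]
    group
  let L : List ℕ := outRepL.flatMap cosetL
  have hprod : ∏ b ∈ T.erase (el 16), b = 1 := by
    have hco : ∀ r ∈ outRepL, ∀ w ∈ cosetL r, (el w ∈ T ↔ el r ∈ T) := by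
      intro r hr w hw
      obtain ⟨hrA, -, -, -, -, hwo⟩ := rep_coset r hr
      obtain ⟨hwA, -, ⟨t, ht, e⟩, t', ht', e'⟩ := hwo w hw
      simp only [T, Finset.mem_filter, Finset.mem_univ, true_and, hel w hwA, hel r hrA]
      constructor
      · intro h; have := hRinv t' ht' w hwA (e'.symm ▸ hrA) h; rwa [e'] at this
      · intro h; have := hRinv t ht r hrA (e.symm ▸ hwA) h; rwa [e] at this
    have hnd : L.Nodup ∧ ∀ w ∈ L, w ∈ aL ∧ w ∉ zL := by decide +kernel
    have hset : T.erase (el 16) = ((L.toFinset).filter fun w => el w ∈ T).image el := by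
      ext b
      simp only [Finset.mem_erase, Finset.mem_image, Finset.mem_filter, List.mem_toFinset]
      constructor
      · rintro ⟨hne, hb⟩
        obtain ⟨a, ha, haz, rfl⟩ := hout b hb hne
        obtain ⟨r, hr, har⟩ := aL_reps a ha haz
        exact ⟨a, ⟨List.mem_flatMap.2 ⟨r, hr, har⟩, hb⟩, rfl⟩
      · rintro ⟨w, ⟨hw, hwT⟩, rfl⟩
        refine ⟨fun e => ?_, hwT⟩
        have e1 := congrArg (fun b : ↥(subA ρ) => (b : G)) e
        simp only [hel w (hnd.2 w hw).1, hel 16 h16A] at e1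
        exact (hnd.2 w hw).2 (F.inj w (aL_sub w (hnd.2 w hw).1).2.1 16 sixteen_central.1 e1 ▸ fusion_facts.2.2.2.2.2.1)
    rw [hset, Finset.prod_image (fun p hp q hq e => by
        have hp' := (hnd.2 p (List.mem_toFinset.1 (Finset.mem_filter.1 hp).1)).1
        have hq' := (hnd.2 q (List.mem_toFinset.1 (Finset.mem_filter.1 hq).1)).1
        have e1 := congrArg (fun b : ↥(subA ρ) => (b : G)) e
        simp only [hel p hp', hel q hq'] at e1
        exact F.inj p (aL_sub p hp').2.1 q (aL_sub q hq').2.1 e1),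
      Finset.prod_filter, List.prod_toFinset _ hnd.1]
    simp only [L, outRepL, List.flatMap_cons, List.flatMap_nil, List.append_nil, List.map_append, List.prod_append]
    have hone : ∀ r ∈ outRepL, ((cosetL r).map fun w => if el w ∈ T then el w else 1).prod = 1 := by
      intro r hr
      obtain ⟨hrA, -, -, -, hp0, hwo⟩ := rep_coset r hr
      have hm : ∀ w ∈ cosetL r, w ∈ aL := fun w hw => (hwo w hw).1
      by_cases hrT : el r ∈ T
      · rw [List.map_congr_left (g := el) (fun w hw => if_pos ((hco r hr w hw).2 hrT))]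
        refine Subtype.ext ?_
        have m1 := hm r (by simp [cosetL])
        have m2 := hm (mul r 16) (by simp [cosetL])
        have m3 := hm (mul r 15) (by simp [cosetL])
        have m4 := hm (mul r 31) (by simp [cosetL])
        have m12 := ((aL_sub _ m1).2.2.2.2 _ m2).1
        have m123 := ((aL_sub _ m12).2.2.2.2 _ m3).1
        simp only [cosetL, List.map_cons, List.map_nil, List.prod_cons, List.prod_nil, mul_one, Subgroup.coe_mul,
          OneMemClass.coe_one, hel _ m1, hel _ m2, hel _ m3, hel _ m4]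
        rw [← mul_assoc, ← mul_assoc, ← F.mul_eq _ (aL_sub _ m1).2.1 _ (aL_sub _ m2).2.1,
          ← F.mul_eq _ (aL_sub _ m12).2.1 _ (aL_sub _ m3).2.1, ← F.mul_eq _ (aL_sub _ m123).2.1 _ (aL_sub _ m4).2.1,
          hp0, F.zero]
      · refine List.prod_eq_one ?_
        intro b hb
        obtain ⟨w, hw, rfl⟩ := List.mem_map.1 hb
        exact if_neg fun h => hrT ((hco r hr w hw).1 h)
    rw [hone 416 (by simp [outRepL]), hone 960 (by simp [outRepL]), hone 1376 (by simp [outRepL]), one_mul, one_mul]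
  rw [← Finset.mul_prod_erase T _ hzT, hprod, mul_one] at hinv
  have := congrArg Subtype.val hinv
  change n * (el 16 : G) * n⁻¹ = (el 16 : G) at this
  rwa [hel 16 h16A] at this

/-- `z` is conjugate to `x`. -/
theorem z_conj_x [IsSimpleGroup G] : IsConj (ρ 16) (ρ 15) := by
  haveI : Fact (Nat.Prime 2) := ⟨Nat.prime_two⟩
  by_contra h15
  have hA : ∀ a ∈ aL, IsConj (ρ 16) (ρ a) → ρ a = ρ 16 := fun a ha h => by
    obtain ⟨n, hn, e⟩ := F.exists_normalizer_conj ha h
    exact e.symm.trans (F.fix_z_of_not_x h15 hn)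
  obtain ⟨h, -, hh⟩ := F.exists_y_to_x (index_ne_two_of_simple F)
  have h31 : ¬ IsConj (ρ 16) (ρ 31) := fun e => h15 (e.trans (isConj_iff.2 ⟨ρ 1, F.one_swap.2⟩))
  have hy : ¬ IsConj (ρ 16) (ρ 1) := fun e => by
    rcases hh with e' | e'
    · exact h15 (e.trans (isConj_iff.2 ⟨h, e'⟩))
    · exact h31 (e.trans (isConj_iff.2 ⟨h, e'⟩))
  have hiso : Cfsg.IsIsolatedInvolution (ρ 16) := by
    refine (Involutions.Isolated.iff_unique_in_sylow S F.order_z (F.mem _ sixteen_central.1)).2 fun g hg => ?_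
    obtain ⟨a, ha, hae⟩ := F.surj _ hg
    have hc : IsConj (ρ 16) (ρ a) := isConj_iff.2 ⟨g, hae.symm⟩
    have ha2 : mul a a = 0 := (F.sq_one ha).1 (by
      rw [hae, show g * ρ 16 * g⁻¹ * (g * ρ 16 * g⁻¹) = g * (ρ 16 * ρ 16) * g⁻¹ by group,
        Involutions.Basic.inv_sq_one F.order_z, mul_one, mul_inv_cancel])
    rw [← hae]
    rcases invs_ok a ha ha2 with hz | hyy | ⟨haA, -⟩ | ⟨haB, hbz⟩
    · rcases zL_split a hz with rfl | rfl | rfl | rfl
      · rw [F.zero] at hc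
        exact absurd (isConj_one_left.1 hc) (Involutions.Basic.ne_one F.order_z)
      · rfl
      · exact absurd hc h15
      · exact absurd hc h31
    · obtain ⟨t, ht, rfl⟩ := yL_orbit a hyy
      exact absurd (hc.trans (F.conj_cj ht one_facts.1).symm) hy
    · exact hA a haA hc
    · exfalso
      have hb := (bL_sub a haB).2.1
      obtain ⟨hcA, hcz⟩ := bL_to_aL a haB hbz
      have e := hA _ hcA (hc.trans (F.conj_cj one_facts.1 hb))
      exact hcz (F.inj _ (aL_sub _ hcA).2.1 16 sixteen_central.1 e ▸ fusion_facts.2.2.2.2.2.1)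
  have hzc := ZStar.Main.mem_center_of_isolated (oddCore_bot_of_simple F) hiso
  rcases IsSimpleGroup.eq_bot_or_eq_top_of_normal (center G) inferInstance with e | e
  · rw [e, mem_bot] at hzc
    exact Involutions.Basic.ne_one F.order_z hzc
  · refine absurd ((F.comm one_facts.1 zL_in_aL.2.2.2.2.1).1
      (mem_center_iff.1 (e ▸ mem_top (ρ 15)) (ρ 1))) (by decide +kernel)

/-- The involutions outside `Q` are conjugate in the centralizer of `z`. -/
theorem reps_conjZ
    (hN : ((sub ρ qL).subgroupOf (centralizer ({ρ 16} : Set G))).map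
      (QuotientGroup.mk' (Cfsg.oddCore ↥(centralizer ({ρ 16} : Set G)))) |>.Normal)
    (h2 : ∀ H : Subgroup G, H.index ≠ 2) {r : ℕ} (hr : r ∈ outRepL) :
    ∃ g ∈ centralizer ({ρ 16} : Set G), g * ρ 416 * g⁻¹ = ρ r := by
  haveI : Fact (Nat.Prime 2) := ⟨Nat.prime_two⟩
  set f := QuotientGroup.mk' (Cfsg.oddCore ↥(centralizer ({ρ 16} : Set G))) with hf
  obtain ⟨S₂, σ, F₂, hσ, hzc, hsub⟩ := F.exists_image f (QuotientGroup.mk'_surjective _)
    (by rw [hf, QuotientGroup.ker_mk']; exact Cfsg.Agent.Cores.oddCore_odd)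
  haveI : (sub σ qL).Normal := hsub ▸ hN
  obtain ⟨h, hh, hh'⟩ := F.exists_y_to_x h2
  obtain ⟨π, hpre, -⟩ := F₂.exists_pre (Cfsg.Agent.Cores.pPrimeCore_quotient_self 2) hzc
    (fusion_image F f hσ ⟨h, mem_centralizer_singleton_iff.1 hh, hh'⟩)
  obtain ⟨-, hA416, -, h416, -⟩ := zL_in_aL
  obtain ⟨hrA, -, hrq, -⟩ := rep_coset r hr
  obtain ⟨-, -, h416q, -⟩ := rep_coset 416 h416
  have hs := (aL_sub r hrA).2.1
  have hinvo : ∀ a ∈ aL, a ∉ qL → π (σ a) * π (σ a) = 1 ∧ π (σ a) ≠ 1 := by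
    intro a ha hq
    have has := (aL_sub a ha).2.1
    refine ⟨by rw [← map_mul, (F₂.sq_one has).2 (aL_sub a ha).2.2.1, map_one], fun e => ?_⟩
    obtain ⟨b, hb, hbe⟩ := F₂.mem_Q.1 (hpre.mem.2 e)
    exact hq (F₂.inj b (qL_facts.1 b hb).1 a has hbe ▸ hb)
  obtain ⟨g1, e1⟩ := JankoTwo.AltFive.involution_conj _ (hinvo 416 hA416 h416q).1 (hinvo 416 hA416 h416q).2
  obtain ⟨g2, e2⟩ := JankoTwo.AltFive.involution_conj _ (hinvo r hrA hrq).1 (hinvo r hrA hrq).2
  obtain ⟨c, hc⟩ := hpre.surj (g2 * g1⁻¹)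
  set u := c * σ 416 * c⁻¹ with hu
  have hπu : π u = π (σ r) := by
    rw [hu, map_mul, map_mul, map_inv, hc, ← e1, ← e2]
    group
  have hq : (σ r)⁻¹ * u ∈ sub σ qL := hpre.mem.2 (by rw [map_mul, map_inv, hπu, inv_mul_cancel])
  obtain ⟨q, hq', hqe⟩ := F₂.mem_Q.1 hq
  have hqs := (qL_facts.1 q hq').1
  set b := mul r q with hb
  have hbs : b ∈ sL := (sL_closed r hs).2.2 q hqs
  have hbe : σ b = u := by rw [hb, F₂.mul_eq r hs q hqs, hqe, mul_inv_cancel_left]
  have h416s := out_code.1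
  have hbb : mul b b = 0 := (F₂.sq_one hbs).1 (by
    rw [hbe, hu, show c * σ 416 * c⁻¹ * (c * σ 416 * c⁻¹) = c * (σ 416 * σ 416) * c⁻¹ by group,
      (F₂.sq_one h416s).2 out_code.2.1, mul_one, mul_inv_cancel])
  obtain ⟨t, ht, hte⟩ := rep_lift r hr b hbs hbb (by
    have hir := (sL_closed r hs).2.1
    have hmem : mul (inv r) b ∈ sL := (sL_closed _ hir).2.2 b hbs
    have e : σ (mul (inv r) b) = σ q := by rw [F₂.mul_eq _ hir b hbs, F₂.inv_eq hs, hbe, hqe]
    rw [F₂.inj _ hmem q hqs e]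
    exact hq')
  have hb0 : b ≠ 0 := fun e => by
    rw [e, F₂.zero] at hbe
    exact (hinvo 416 hA416 h416q).2 (by rw [conj_eq_one_iff.1 hbe.symm, map_one])
  obtain ⟨gg, rfl⟩ := QuotientGroup.mk'_surjective _ c
  set x : ↥(centralizer ({ρ 16} : Set G)) := ⟨ρ 416, F.le_centralizer_z (F.mem _ h416s)⟩ with hx
  set y : ↥(centralizer ({ρ 16} : Set G)) := ⟨ρ b, F.le_centralizer_z (F.mem _ hbs)⟩ with hy
  have ho1 : orderOf (gg * x * gg⁻¹) = 2 := by
    rw [Involutions.Basic.orderOf_conj, ← orderOf_coe, hx]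
    exact F.orderOf_two h416s out_code.2.1 (by norm_num)
  have ho2 : orderOf y = 2 := by
    rw [← orderOf_coe, hy]; exact F.orderOf_two hbs hbb hb0
  have hker : f (gg * x * gg⁻¹ * y) = 1 := by
    rw [map_mul, map_mul, map_mul, map_inv, ← hσ 416 h416s, ← hσ b hbs, hbe, hu,
      show f gg * σ 416 * (f gg)⁻¹ * (f gg * σ 416 * (f gg)⁻¹) = f gg * (σ 416 * σ 416) * (f gg)⁻¹ by group,
      (F₂.sq_one h416s).2 out_code.2.1, mul_one, mul_inv_cancel]
  have hodd : Odd (orderOf (gg * x * gg⁻¹ * y)) := Cfsg.Agent.Cores.oddCore_odd.of_dvd_nat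
    ((Cfsg.oddCore _).orderOf_dvd_natCard ((QuotientGroup.eq_one_iff _).1 hker))
  obtain ⟨d, -, hd⟩ := Involutions.Basic.exists_conj_of_odd ho1 ho2 hodd
  have hd' := congrArg Subtype.val hd
  have h1 : (d : G) * gg * ρ 416 * ((d : G) * gg)⁻¹ = ρ b := by
    rw [← show ((y : ↥(centralizer ({ρ 16} : Set G))) : G) = ρ b from rfl, ← hd', hx]
    simp only [Subgroup.coe_mul, Subgroup.coe_inv]
    group
  refine ⟨ρ t * ((d : G) * gg), mul_mem (F.le_centralizer_z (F.mem t ht)) (mul_mem d.2 gg.2), ?_⟩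
  rw [← hte, F.cj_eq ht hbs, ← h1]
  group

/-- The involutions outside `Q` form one class. -/
theorem reps_conj
    (hN : ((sub ρ qL).subgroupOf (centralizer ({ρ 16} : Set G))).map
      (QuotientGroup.mk' (Cfsg.oddCore ↥(centralizer ({ρ 16} : Set G)))) |>.Normal)
    (h2 : ∀ H : Subgroup G, H.index ≠ 2) {r : ℕ} (hr : r ∈ outRepL) : IsConj (ρ 416) (ρ r) :=
  have ⟨g, _, hg⟩ := F.reps_conjZ hN h2 hr
  isConj_iff.2 ⟨g, hg⟩

/-- There are at most two classes of involutions, those of `z` and of `ρ 416`. -/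
theorem two_classes [IsSimpleGroup G]
    (hN : ((sub ρ qL).subgroupOf (centralizer ({ρ 16} : Set G))).map
      (QuotientGroup.mk' (Cfsg.oddCore ↥(centralizer ({ρ 16} : Set G)))) |>.Normal)
    {v : G} (hv : orderOf v = 2) : IsConj v (ρ 16) ∨ IsConj v (ρ 416) := by
  haveI : Fact (Nat.Prime 2) := ⟨Nat.prime_two⟩
  have hzx := F.z_conj_x
  have hzxz : IsConj (ρ 16) (ρ 31) := hzx.trans (isConj_iff.2 ⟨ρ 1, F.one_swap.1⟩)
  obtain ⟨h, -, hh⟩ := F.exists_y_to_x (index_ne_two_of_simple F)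
  have hzy : IsConj (ρ 16) (ρ 1) := by
    rcases hh with e | e
    · exact hzx.trans (IsConj.symm (isConj_iff.2 ⟨h, e⟩))
    · exact hzxz.trans (IsConj.symm (isConj_iff.2 ⟨h, e⟩))
  obtain ⟨k, hk⟩ := exists_conj_le S (IsPGroup.of_card (G := zpowers v) (p := 2) (n := 1)
    (by rw [Nat.card_zpowers, hv, pow_one]))
  obtain ⟨a, ha, hae⟩ := F.surj _ (hk ⟨v, mem_zpowers v, rfl⟩)
  have hva : IsConj v (ρ a) := isConj_iff.2 ⟨k, hae.symm⟩
  have ha2 : mul a a = 0 := (F.sq_one ha).1 (by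
    rw [hae, ← map_mul, Involutions.Basic.inv_sq_one hv, map_one])
  have hout : ∀ c ∈ aL, c ∉ zL → IsConj (ρ c) (ρ 416) := by
    intro c hc hcz
    obtain ⟨r, hr, hcr⟩ := aL_reps c hc hcz
    obtain ⟨t, ht, e⟩ := ((rep_coset r hr).2.2.2.2.2 c hcr).2.2.2
    refine (IsConj.trans ?_ (F.reps_conj hN (index_ne_two_of_simple F) hr).symm)
    rw [← e]
    exact F.conj_cj (rL_closed t ht).1 (aL_sub c hc).2.1
  rcases invs_ok a ha ha2 with hz | hy | ⟨haA, haz⟩ | ⟨haB, hbz⟩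
  · rcases zL_split a hz with rfl | rfl | rfl | rfl
    · exfalso
      have e : k * v * k⁻¹ = 1 := by rw [← F.zero]; exact hae.symm
      exact Involutions.Basic.ne_one hv (conj_eq_one_iff.1 e)
    · exact Or.inl hva
    · exact Or.inl (hva.trans hzx.symm)
    · exact Or.inl (hva.trans hzxz.symm)
  · obtain ⟨t, ht, rfl⟩ := yL_orbit a hy
    exact Or.inl ((hva.trans (F.conj_cj ht one_facts.1).symm).trans hzy.symm)
  · exact Or.inr (hva.trans (hout a haA haz))
  · obtain ⟨hcA, hcz⟩ := bL_to_aL a haB hbz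
    exact Or.inr ((hva.trans (F.conj_cj one_facts.1 (bL_sub a haB).2.1)).trans (hout _ hcA hcz))

/-- With trivial core of the centralizer of `z` the group is `J₂` or `J₃`. -/
theorem isoJ2_or_isoJ3 [IsSimpleGroup G]
    (hN : ((sub ρ qL).subgroupOf (centralizer ({ρ 16} : Set G))).map
      (QuotientGroup.mk' (Cfsg.oddCore ↥(centralizer ({ρ 16} : Set G)))) |>.Normal)
    (hO : Cfsg.oddCore ↥(centralizer ({ρ 16} : Set G)) = ⊥) :
    Cfsg.Spor.IsoJ2 G ∨ Cfsg.Spor.IsoJ3 G := by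
  classical
  haveI : Fact (Nat.Prime 2) := ⟨Nat.prime_two⟩
  set Q := (sub ρ qL).subgroupOf (centralizer ({ρ 16} : Set G)) with hQ
  haveI hQn : Q.Normal := by
    refine ⟨fun q hq g => ?_⟩
    obtain ⟨w, hw, e⟩ := hN.conj_mem _ ⟨q, hq, rfl⟩ (QuotientGroup.mk' _ g)
    rw [← map_inv, ← map_mul, ← map_mul, QuotientGroup.mk'_apply, QuotientGroup.mk'_apply, QuotientGroup.eq, hO,
      mem_bot, inv_mul_eq_one] at e
    rwa [← e]
  have hid : (MonoidHom.id ↥(centralizer ({ρ 16} : Set G))).ker = ⊥ := by ext; simp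
  obtain ⟨S₂, σ, F₂, hσ, hzc, hsub⟩ := F.exists_image (MonoidHom.id _) Function.surjective_id
    (by rw [hid, card_bot]; exact odd_one)
  rw [Subgroup.map_id, ← hQ] at hsub
  haveI : (sub σ qL).Normal := hsub ▸ hQn
  obtain ⟨h, hh, hh'⟩ := F.exists_y_to_x (index_ne_two_of_simple F)
  obtain ⟨π, hpre, -⟩ := F₂.exists_pre hO hzc
    (fusion_image F _ hσ ⟨h, mem_centralizer_singleton_iff.1 hh, hh'⟩)
  have hext : Cfsg.IsExtraspecial 2 ↥Q := hsub ▸ hpre.ext
  have hcard : Nat.card ↥Q = 32 := hsub ▸ F₂.card_Q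
  have hself : centralizer (Q : Set ↥(centralizer ({ρ 16} : Set G))) ≤ Q := hsub ▸ hpre.selfc
  have hkerQ : π.ker = Q := hpre.ker.trans hsub
  let e : ↥(centralizer ({ρ 16} : Set G)) ⧸ Q ≃* alternatingGroup (Fin 5) :=
    (QuotientGroup.quotientMulEquivOfEq hkerQ.symm).trans (QuotientGroup.quotientKerEquivOfSurjective π hpre.surj)
  have hzz := fun v : G => fun hv : orderOf v = 2 => F.two_classes hN hv
  by_cases hone : IsConj (ρ 16) (ρ 416)
  · refine Or.inr (J3Glue.main (ρ 16) F.order_z Q hext hcard e fun x y hx hy => ?_)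
    have key : ∀ v : G, orderOf v = 2 → IsConj v (ρ 16) := fun v hv =>
      (hzz v hv).elim id fun h => h.trans hone.symm
    exact (key x hx).trans (key y hy).symm
  · refine Or.inl ?_
    obtain ⟨K, H⟩ := J2Uniq.exists_hyp_simple (ρ 16) F.order_z Q hext hcard hself e
      ⟨ρ 16, ρ 416, F.order_z, F.orderOf_two out_code.1 out_code.2.1 (by norm_num), hone⟩
    exact J2Uniq.isoJ2 H

end Syl

end Cfsg.Agent.J2Type
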