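import Cfsg.Agent.Lib.TwoPointA5.GWFacts
import Cfsg.Agent.Lib.SelfCentNoncyclic.Psl
import Cfsg.Agent.Lib.Classical.SmallIso
import Cfsg.Agent.Lib.PSLBinary.Invol
import Cfsg.Agent.S5892

/-!
# A subgroup containing the centralisers and the fusion of a Klein Sylow 2-subgroup

If the group has no core, such a subgroup is the whole group or has index five, the group having order sixty.
-/

set_option autoImplicit false
set_option linter.unusedSectionVars false
set_option linter.style.haveILetI false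
set_option maxRecDepth 100000

namespace Cfsg.Agent.J2Type.KleinFive

open Subgroup
open Cfsg.Agent.TwoPointA5

universe u v

theorem cent_alt_five : ∀ x : alternatingGroup (Fin 5), x * x = 1 → x ≠ 1 →
    (Finset.univ.filter fun y : alternatingGroup (Fin 5) => y * x = x * y).card = 4 := by decide +kernel

theorem cent_alt_four : ∀ x : alternatingGroup (Fin 4), x * x = 1 → x ≠ 1 →
    (Finset.univ.filter fun y : alternatingGroup (Fin 4) => y * x = x * y).card = 4 := by decide +kernel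

/-- centraliser orders through an isomorphism -/
theorem card_cent_equiv {A : Type u} [Group A] {B : Type v} [Group B] (e : A ≃* B) (x : A) :
    Nat.card ↥(centralizer ({x} : Set A)) = Nat.card ↥(centralizer ({e x} : Set B)) :=
  Nat.card_congr (e.toEquiv.subtypeEquiv fun a => by
    rw [mem_centralizer_singleton_iff, mem_centralizer_singleton_iff]
    show a * x = x * a ↔ e a * e x = e x * e a
    rw [← map_mul, ← map_mul, e.injective.eq_iff])

theorem card_cent_alt {n : ℕ} (x : alternatingGroup (Fin n)) :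
    Nat.card ↥(centralizer ({x} : Set (alternatingGroup (Fin n)))) =
      (Finset.univ.filter fun y : alternatingGroup (Fin n) => y * x = x * y).card := by
  rw [← Set.ncard_coe_finset, ← Nat.card_coe_set_eq]
  exact Nat.card_congr (Equiv.subtypeEquivRight fun a => by
    simp [mem_centralizer_singleton_iff])

/-- In a dihedral group the involutions of a four-group are not all conjugate. -/
theorem dihedral_not_fused {k : ℕ} {a b : DihedralGroup k} (ha : a ≠ 1) (hb : b ≠ 1) (hab : a ≠ b)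
    (ha2 : a * a = 1) (hb2 : b * b = 1) (hc : a * b = b * a)
    (hall : ∀ x y : DihedralGroup k, (x = a ∨ x = b ∨ x = a * b) → (y = a ∨ y = b ∨ y = a * b) → IsConj x y) :
    False := by
  have hrot : ∀ i : ZMod k, (DihedralGroup.r i : DihedralGroup k) * DihedralGroup.r i = 1 →
      ∀ g : DihedralGroup k, g * DihedralGroup.r i = DihedralGroup.r i * g := by
    intro i hi g
    rw [DihedralGroup.r_mul_r, DihedralGroup.one_def] at hi
    have h : i + i = 0 := by injection hi
    have hneg : -i = i := neg_eq_of_add_eq_zero_left h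
    cases g with
    | r j => rw [DihedralGroup.r_mul_r, DihedralGroup.r_mul_r, add_comm]
    | sr j => rw [DihedralGroup.sr_mul_r, DihedralGroup.r_mul_sr, sub_eq_add_neg, hneg]
  have key : ∀ i : ZMod k, ∀ x : DihedralGroup k, (x = a ∨ x = b ∨ x = a * b) → x = DihedralGroup.r i →
      False := by
    intro i x hx hxi
    have hx2 : x * x = 1 := by
      rcases hx with rfl | rfl | rfl
      exacts [ha2, hb2, by rw [mul_assoc, ← mul_assoc b a b, ← hc, mul_assoc a b b, hb2, mul_one, ha2]]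
    have hcen : ∀ y, (y = a ∨ y = b ∨ y = a * b) → y = x := fun y hy => by
      obtain ⟨g, hg⟩ := isConj_iff.1 (hall x y hx hy)
      rw [← hg, hxi, hrot i (hxi ▸ hx2) g, mul_inv_cancel_right]
    exact hab ((hcen a (Or.inl rfl)).trans (hcen b (Or.inr (Or.inl rfl))).symm)
  cases hca : a with
  | r i => exact key i a (Or.inl rfl) hca
  | sr i =>
    cases hcb : b with
    | r j => exact key j b (Or.inr (Or.inl rfl)) hcb
    | sr j => exact key (j - i) (a * b) (Or.inr (Or.inr rfl)) (by rw [hca, hcb, DihedralGroup.sr_mul_sr])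

variable {X : Type u} [Group X] [Finite X]

/-- the number-theoretic facts on the field -/
theorem field_order {q : ℕ} (hodd : Odd q) {N : ℕ} (hN : 2 * N = q * ((q - 1) * (q + 1))) (h8 : ¬ 8 ∣ N) :
    q % 8 = 3 ∨ q % 8 = 5 := by
  obtain ⟨j, rfl⟩ := hodd
  have hm : j % 4 = 0 ∨ j % 4 = 1 ∨ j % 4 = 2 ∨ j % 4 = 3 := by omega
  have h1 : (2 * j + 1 - 1) * (2 * j + 1 + 1) = 4 * (j * (j + 1)) := by
    rw [Nat.add_sub_cancel]; ring
  rw [h1] at hN
  rcases hm with h | h | h | h
  · exfalso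
    obtain ⟨t, rfl⟩ : 4 ∣ j := Nat.dvd_of_mod_eq_zero h
    exact h8 ⟨(2 * (4 * t) + 1) * (t * (4 * t + 1)), by
      rw [show (2 * (4 * t) + 1) * (4 * (4 * t * (4 * t + 1))) =
        2 * (8 * ((2 * (4 * t) + 1) * (t * (4 * t + 1)))) by ring] at hN
      omega⟩
  · omega
  · omega
  · exfalso
    obtain ⟨t, ht⟩ : ∃ t, j + 1 = 4 * t := ⟨(j + 1) / 4, by omega⟩
    exact h8 ⟨(2 * j + 1) * (j * t), by
      rw [ht, show (2 * j + 1) * (4 * (j * (4 * t))) = 2 * (8 * ((2 * j + 1) * (j * t))) by ring] at hN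
      omega⟩

variable (S : Sylow 2 X) (hS4 : Nat.card (S : Subgroup X) = 4) (hsq : ∀ x ∈ (S : Subgroup X), x * x = 1)
  (H : Subgroup X) (hcent : ∀ t ∈ (S : Subgroup X), t ≠ 1 → centralizer ({t} : Set X) ≤ H)
  (hfus : ∃ r ∈ H, r ∈ normalizer ((S : Subgroup X) : Set X) ∧ ∃ x ∈ (S : Subgroup X), r * x * r⁻¹ ≠ x)

include hS4 hsq hcent hfus

theorem sylow_le : (S : Subgroup X) ≤ H := fun s hs => by
  by_cases h1 : s = 1
  · rw [h1]; exact one_mem H
  · exact hcent s hs h1 (mem_centralizer_singleton_iff.2 rfl)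

theorem normalizer_le : normalizer ((S : Subgroup X) : Set X) ≤ H := by
  classical
  haveI := Fact.mk Nat.prime_two
  have hSH := sylow_le S hS4 hsq H hcent hfus
  obtain ⟨r, hrH, hr, x, hx, hrx⟩ := hfus
  intro g hg
  have hx1 : x ≠ 1 := by rintro rfl; exact hrx (by group)
  let S' : Sylow 2 ↥H := S.subtype hSH
  have h4 : Nat.card ↥(S' : Subgroup ↥H) = 4 := by
    rw [← hS4]; exact Nat.card_congr (subgroupOfEquivOfLe hSH).toEquiv
  have hsq' : ∀ y ∈ (S' : Subgroup ↥H), y * y = 1 := fun y hy => Subtype.ext (hsq _ (mem_subgroupOf.1 hy))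
  have hr' : (⟨r, hrH⟩ : ↥H) ∈ normalizer ((S' : Subgroup ↥H) : Set ↥H) := mem_normalizer_iff.2 fun y => by
    rw [S.coe_subtype, mem_subgroupOf, mem_subgroupOf]
    exact mem_normalizer_iff.1 hr _
  have hy : g * x * g⁻¹ ∈ (S : Subgroup X) := (mem_normalizer_iff.1 hg x).1 hx
  obtain ⟨n, -, hn⟩ := GWFacts.normalizer_trans S' h4 hsq'
    ⟨⟨r, hrH⟩, hr', ⟨x, hSH hx⟩, mem_subgroupOf.2 hx, fun e => hrx (congrArg Subtype.val e)⟩
    (x := ⟨x, hSH hx⟩) (mem_subgroupOf.2 hx) (fun e => hx1 (congrArg Subtype.val e))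
    (y := ⟨g * x * g⁻¹, hSH hy⟩) (mem_subgroupOf.2 hy)
    (fun e => hx1 (conj_eq_one_iff.1 (congrArg Subtype.val e)))
  have hn' : (n : X) * x * (n : X)⁻¹ = g * x * g⁻¹ := congrArg Subtype.val hn
  have h1 : (n : X)⁻¹ * g ∈ centralizer ({x} : Set X) := by
    refine mem_centralizer_singleton_iff.2 (mul_inv_eq_iff_eq_mul.1 ?_)
    calc (n : X)⁻¹ * g * x * ((n : X)⁻¹ * g)⁻¹ = (n : X)⁻¹ * (g * x * g⁻¹) * n := by group
      _ = x := by rw [← hn']; group
  have := H.mul_mem n.2 (hcent x hx hx1 h1)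
  rwa [mul_inv_cancel_left] at this

set_option maxHeartbeats 1600000 in
/-- Such a subgroup is the whole group, or has index five in a group of order sixty. -/
theorem eq_top_or_index_five (hO : Cfsg.oddCore X = ⊥) : H = ⊤ ∨ (H.index = 5 ∧ Nat.card X = 60) := by
  classical
  haveI := Fact.mk Nat.prime_two
  have hSH := sylow_le S hS4 hsq H hcent hfus
  have hNH := normalizer_le S hS4 hsq H hcent hfus
  obtain ⟨r, hrH, hr, x₀, hx₀, hrx⟩ := hfus
  have h8X : ¬ 8 ∣ Nat.card X := fun h => by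
    have := (Nat.prime_two.pow_dvd_iff_le_factorization Nat.card_pos.ne').1
      (show 2 ^ 3 ∣ Nat.card X from h)
    have h4 : 2 ^ 3 ≤ 4 := by
      rw [← hS4, S.card_eq_multiplicity]
      exact Nat.pow_le_pow_right two_pos this
    norm_num at h4
  rcases GWFacts.four_shape S hS4 hsq ⟨r, hr, x₀, hx₀, hrx⟩ hO with ⟨hn, h12, -⟩ |
    ⟨L, F, iF, fF, hLn, hodd, h3, ⟨e⟩, hSL, hLC, hinv, hmin⟩
  · refine Or.inl (top_le_iff.1 fun g _ => hNH ?_)
    rw [normalizer_eq_top_iff.2 hn]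
    exact mem_top g
  haveI := hLn
  set q := Fintype.card F with hq
  have h2F : (2 : F) ≠ 0 := Cfsg.Agent.Classical.SylowSL2.two_ne_zero_of_odd hodd
  have hcardL : 2 * Nat.card L = q * ((q - 1) * (q + 1)) := by
    have h := Classical.SmallIso.natCard_pslTwo F
    rw [Classical.GL2.natCard_SL_two, ← Nat.card_congr e.toEquiv,
      Nat.gcd_eq_left (Nat.dvd_of_mod_eq_zero (by rcases hodd with ⟨k, hk⟩; omega))] at h
    exact h
  have h8q := field_order hodd hcardL fun h => h8X (h.trans L.card_subgroup_dvd_card)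
  set HL := H.subgroupOf L with hHL
  by_cases htop : HL = ⊤
  · left
    refine top_le_iff.1 ?_
    rw [← Sylow.normalizer_sup_eq_top' (N := L) S hSL, sup_le_iff]
    exact ⟨hNH, subgroupOf_eq_top.1 htop⟩
  right
  set HF := HL.map e.toMonoidHom with hHF
  have hmem : ∀ y : ↥L, (y : X) ∈ H → e y ∈ HF := fun y hy => mem_map_of_mem _ (mem_subgroupOf.2 hy)
  obtain ⟨M, hM, hle⟩ := (eq_top_or_exists_le_coatom HF).resolve_left fun h => htop (by
    refine map_injective (f := e.toMonoidHom) e.injective ?_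
    rw [← hHF, h, map_top_of_surjective _ e.surjective])
  have hord : ∀ {t}, t ∈ (S : Subgroup X) → t ≠ 1 → orderOf t = 2 := fun {t} ht h1 =>
    orderOf_eq_prime (by rw [pow_two]; exact hsq t ht) h1
  -- centralisers of the involutions of the four-group lie in `M`
  have hcM : ∀ t, ∀ ht : t ∈ (S : Subgroup X), t ≠ 1 →
      centralizer ({e ⟨t, hSL ht⟩} : Set (Matrix.ProjectiveSpecialLinearGroup (Fin 2) F)) ≤ M := by
    intro t ht h1 g hg
    obtain ⟨y, rfl⟩ := e.surjective g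
    refine hle (hmem y (hcent t ht h1 (mem_centralizer_singleton_iff.2 ?_)))
    have h := mem_centralizer_singleton_iff.1 hg
    rw [← map_mul, ← map_mul] at h
    exact congrArg Subtype.val (e.injective h)
  have hx₁ : x₀ ≠ 1 := by rintro rfl; exact hrx (by group)
  set t₀ := e ⟨x₀, hSL hx₀⟩ with ht₀
  have ht₀o : orderOf t₀ = 2 := by
    rw [ht₀, MulEquiv.orderOf_eq, ← orderOf_coe, hord hx₀ hx₁]
  have ht₀M : t₀ ∈ M := hle (hmem _ (hSH hx₀))
  have hcardC := SelfCentNoncyclic.card_cent_invol_cases h2F ht₀o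
  -- centraliser order inside `M`
  have hCM : Nat.card ↥(centralizer ({(⟨t₀, ht₀M⟩ : ↥M)} : Set ↥M)) =
      Nat.card ↥(centralizer ({t₀} : Set (Matrix.ProjectiveSpecialLinearGroup (Fin 2) F))) :=
    Nat.card_congr
      { toFun := fun c => ⟨c.1.1, mem_centralizer_singleton_iff.2
          (congrArg Subtype.val (mem_centralizer_singleton_iff.1 c.2))⟩
        invFun := fun c => ⟨⟨c.1, hcM x₀ hx₀ hx₁ c.2⟩, mem_centralizer_singleton_iff.2
          (Subtype.ext (mem_centralizer_singleton_iff.1 c.2))⟩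
        left_inv := fun _ => rfl
        right_inv := fun _ => rfl }
  have ht₀1 : (⟨t₀, ht₀M⟩ : ↥M) ≠ 1 := fun h => by
    rw [show t₀ = 1 from congrArg Subtype.val h, orderOf_one] at ht₀o; omega
  have ht₀2 : (⟨t₀, ht₀M⟩ : ↥M) * ⟨t₀, ht₀M⟩ = 1 := Subtype.ext (by
    show t₀ * t₀ = 1
    have h := pow_orderOf_eq_one t₀
    rwa [ht₀o, pow_two] at h)
  -- fusion inside `H ⊓ L`
  have hfusL : ∀ a, ∀ ha : a ∈ (S : Subgroup X), a ≠ 1 → ∀ b, ∀ hb : b ∈ (S : Subgroup X), b ≠ 1 →
      ∃ n : ↥L, (n : X) ∈ H ∧ n * ⟨a, hSL ha⟩ * n⁻¹ = ⟨b, hSL hb⟩ := by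
    intro a ha ha1 b hb hb1
    let SL : Sylow 2 ↥L := S.subtype hSL
    haveI : IsMulCommutative (SL : Subgroup ↥L) := ⟨⟨fun p q => Subtype.ext (Subtype.ext
      (GWFacts.comm_four S hS4 hsq (mem_subgroupOf.1 p.2) (mem_subgroupOf.1 q.2)).eq)⟩⟩
    obtain ⟨c, hc⟩ := isConj_iff.1 (PSLBinary.involutions_conj (F := F) h2F (x := e ⟨a, hSL ha⟩)
      (y := e ⟨b, hSL hb⟩) (by rw [MulEquiv.orderOf_eq, ← orderOf_coe, hord ha ha1])
      (by rw [MulEquiv.orderOf_eq, ← orderOf_coe, hord hb hb1]))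
    obtain ⟨c, rfl⟩ := e.surjective c
    rw [← map_inv, ← map_mul, ← map_mul] at hc
    have hc' := e.injective hc
    obtain ⟨n, hn, hne⟩ := SL.conj_eq_normalizer_conj_of_mem (⟨a, hSL ha⟩ : ↥L) c⁻¹ (mem_subgroupOf.2 ha)
      (by rw [inv_inv, hc']; exact mem_subgroupOf.2 hb)
    rw [inv_inv, hc'] at hne
    refine ⟨n⁻¹, H.inv_mem (hNH (mem_normalizer_iff.2 fun y => ?_)), by rw [inv_inv]; exact hne.symm⟩
    constructor
    · intro hy
      exact mem_subgroupOf.1 ((mem_normalizer_iff.1 hn ⟨y, hSL hy⟩).1 (mem_subgroupOf.2 hy))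
    · intro hy
      have hyL : y ∈ L := by
        have := mul_mem (mul_mem (inv_mem n.2) (hSL hy)) n.2
        simpa [mul_assoc] using this
      exact mem_subgroupOf.1 ((mem_normalizer_iff.1 hn ⟨y, hyL⟩).2 (mem_subgroupOf.2 hy))
  have hfusM : ∀ a, ∀ ha : a ∈ (S : Subgroup X), a ≠ 1 → ∀ b, ∀ hb : b ∈ (S : Subgroup X), b ≠ 1 →
      ∃ g ∈ M, g * e ⟨a, hSL ha⟩ * g⁻¹ = e ⟨b, hSL hb⟩ := fun a ha ha1 b hb hb1 => by
    obtain ⟨n, hn, hne⟩ := hfusL a ha ha1 b hb hb1
    exact ⟨e n, hle (hmem n hn), by rw [← map_inv, ← map_mul, ← map_mul, hne]⟩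
  obtain ⟨p, hchar⟩ := CharP.exists F
  obtain ⟨f, hp, hf⟩ := FiniteField.card F p
  haveI := Fact.mk hp
  have key : q = 5 ∧ Nat.card ↥M = 12 := by
    have h4 : 4 ∣ Nat.card ↥M := by
      rw [← hS4]
      refine dvd_trans (dvd_of_eq ?_) (card_dvd_of_le (show ((S : Subgroup X).subgroupOf L).map e.toMonoidHom ≤ M
        from (map_mono (fun y hy => mem_subgroupOf.2 (hSH (mem_subgroupOf.1 hy)))).trans hle))
      rw [card_map_of_injective e.injective, Nat.card_congr (subgroupOfEquivOfLe hSL).toEquiv]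
    have hdih : ∀ k, (↥M ≃* DihedralGroup k) → False := fun k ed => by
      have hS1 := hS4
      obtain ⟨b, hb, hb1, hba⟩ : ∃ b ∈ (S : Subgroup X), b ≠ 1 ∧ b ≠ x₀ := by
        by_contra hcon
        push Not at hcon
        have hsub : ((S : Subgroup X) : Set X) ⊆ {1, x₀} := fun y hy => by
          by_cases h : y = 1
          · exact Or.inl h
          · exact Or.inr (hcon y hy h)
        have := Set.ncard_le_ncard hsub (Set.toFinite _)
        rw [Set.ncard_pair (Ne.symm hx₁), ← Nat.card_coe_set_eq] at this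
        change Nat.card ↥(S : Subgroup X) ≤ 2 at this
        omega
      have hab1 : x₀ * b ≠ 1 := fun h => hba (by
        rw [← inv_eq_of_mul_eq_one_right h, inv_eq_of_mul_eq_one_right (hsq x₀ hx₀)])
      let φ : ∀ y, y ∈ (S : Subgroup X) → DihedralGroup k := fun y hy =>
        ed ⟨e ⟨y, hSL hy⟩, hle (hmem _ (hSH hy))⟩
      have hφmul : φ x₀ hx₀ * φ b hb = φ (x₀ * b) (mul_mem hx₀ hb) := by
        show ed _ * ed _ = ed _
        rw [← map_mul]
        exact congrArg ed (Subtype.ext (show e _ * e _ = e _ by rw [← map_mul]; rfl))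
      have hφi : ∀ {y y'} (hy : y ∈ (S : Subgroup X)) (hy' : y' ∈ (S : Subgroup X)), φ y hy = φ y' hy' → y = y' :=
        fun hy hy' h => congrArg Subtype.val (e.injective (congrArg Subtype.val (ed.injective h)))
      have hφ1 : φ 1 (one_mem _) = 1 := by
        show ed _ = 1
        rw [show (⟨e ⟨1, hSL (one_mem _)⟩, _⟩ : ↥M) = 1 from Subtype.ext (map_one e), map_one]
      have hconj : ∀ y y', ∀ hy : y ∈ (S : Subgroup X), ∀ hy' : y' ∈ (S : Subgroup X), y ≠ 1 → y' ≠ 1 →
          IsConj (φ y hy) (φ y' hy') := fun y y' hy hy' h1 h1' => by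
        obtain ⟨g, hg, hge⟩ := hfusM y hy h1 y' hy' h1'
        refine isConj_iff.2 ⟨ed ⟨g, hg⟩, ?_⟩
        show ed _ * ed _ * (ed _)⁻¹ = ed _
        rw [← map_inv, ← map_mul, ← map_mul]
        exact congrArg ed (Subtype.ext hge)
      have hsqφ : ∀ {y} (hy : y ∈ (S : Subgroup X)), φ y hy * φ y hy = 1 := fun {y} hy => by
        show ed _ * ed _ = 1
        rw [← map_mul, ← map_one ed]
        refine congrArg ed (Subtype.ext ?_)
        show e _ * e _ = 1
        rw [← map_mul, show (⟨y, hSL hy⟩ : ↥L) * ⟨y, hSL hy⟩ = 1 from Subtype.ext (hsq y hy), map_one]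
      refine dihedral_not_fused (fun h => hx₁ (hφi hx₀ (one_mem _) (h.trans hφ1.symm)))
        (fun h => hb1 (hφi hb (one_mem _) (h.trans hφ1.symm))) (fun h => hba (hφi hb hx₀ h.symm))
        (hsqφ hx₀) (hsqφ hb) ?_ ?_
      · show ed _ * ed _ = ed _ * ed _
        rw [← map_mul, ← map_mul]
        refine congrArg ed (Subtype.ext ?_)
        show e _ * e _ = e _ * e _
        rw [← map_mul, ← map_mul]
        exact congrArg e (Subtype.ext (GWFacts.comm_four S hS4 hsq hx₀ hb).eq)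
      · rw [hφmul]
        intro p' q' hp' hq'
        have hrep : ∀ w, (w = φ x₀ hx₀ ∨ w = φ b hb ∨ w = φ (x₀ * b) (mul_mem hx₀ hb)) →
            ∃ y, ∃ hy : y ∈ (S : Subgroup X), y ≠ 1 ∧ w = φ y hy := by
          rintro w (h | h | h)
          exacts [⟨_, hx₀, hx₁, h⟩, ⟨_, hb, hb1, h⟩, ⟨_, mul_mem hx₀ hb, hab1, h⟩]
        obtain ⟨y, hy, hy1, rfl⟩ := hrep p' hp'
        obtain ⟨y', hy', hy1', rfl⟩ := hrep q' hq'
        exact hconj y y' hy hy' hy1 hy1'
    have halt : Nat.card ↥(centralizer ({(⟨t₀, ht₀M⟩ : ↥M)} : Set ↥M)) = 4 → q = 5 := fun h => by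
      rw [hCM] at h
      rcases hcardC with ⟨-, hc⟩ | ⟨-, hc⟩ <;> rw [h] at hc <;> omega
    rcases S5892.result p hodd (by rcases hodd with ⟨k, hk⟩; omega) M hM with h | ⟨-, k, -, ⟨ed⟩⟩ |
      ⟨-, -, k, -, ⟨ed⟩⟩ | ⟨F₀, i0, f0, hsqr, -⟩ | ⟨F₀, i0, f0, r', hr', hr'odd, hpow, ⟨e0⟩⟩ |
      ⟨h10, -, ⟨e0⟩⟩ | ⟨-, -, -, ⟨e0⟩⟩ | ⟨hqp, hp8, -⟩
    · exfalso
      obtain ⟨c, hc⟩ := h4
      rw [hc, ← hq] at h
      rcases h8q with h8 | h8
      · obtain ⟨a, ha⟩ : ∃ a, q = 8 * a + 3 := ⟨q / 8, by omega⟩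
        rw [ha, show (8 * a + 3) * (8 * a + 3 - 1) = 2 * (32 * (a * a) + 20 * a + 3) by
          rw [show 8 * a + 3 - 1 = 8 * a + 2 by omega]; ring] at h
        omega
      · obtain ⟨a, ha⟩ : ∃ a, q = 8 * a + 5 := ⟨q / 8, by omega⟩
        rw [ha, show (8 * a + 5) * (8 * a + 5 - 1) = 4 * (16 * (a * a) + 18 * a + 5) by
          rw [show 8 * a + 5 - 1 = 8 * a + 4 by omega]; ring] at h
        omega
    · exact (hdih k ed).elim
    · exact (hdih k ed).elim
    · exfalso
      rw [← hq] at hsqr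
      rw [hsqr, Nat.pow_mod] at h8q
      have := Nat.mod_lt (Fintype.card F₀) (show 8 > 0 by norm_num)
      generalize Fintype.card F₀ % 8 = d at this h8q
      interval_cases d <;> norm_num at h8q
    · exfalso
      rw [← hq] at hpow
      set q0 := Fintype.card F₀
      have hodd0 : Odd q0 := (Nat.odd_pow_iff hr'.ne_zero).1 (hpow ▸ hodd)
      have h20 : (2 : F₀) ≠ 0 := Cfsg.Agent.Classical.SylowSL2.two_ne_zero_of_odd hodd0
      have hc0 := SelfCentNoncyclic.card_cent_invol_cases h20 (x := e0 ⟨t₀, ht₀M⟩)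
        (by rw [MulEquiv.orderOf_eq, ← orderOf_coe]; exact ht₀o)
      rw [← card_cent_equiv e0, hCM] at hc0
      have h2 : 2 ≤ q0 := Fintype.one_lt_card
      have hr3 : 3 ≤ r' := by
        have := hr'.two_le
        rcases hr'odd with ⟨k, hk⟩
        omega
      have hbig : q0 ^ 3 ≤ q := hpow ▸ Nat.pow_le_pow_right (by omega) hr3
      have h3' : 4 * q0 ≤ q0 ^ 3 := by
        rw [pow_succ, pow_two]
        exact Nat.mul_le_mul_right _ (Nat.mul_le_mul h2 h2)
      rcases hcardC with ⟨-, h1⟩ | ⟨-, h1⟩ <;> rcases hc0 with ⟨-, h2'⟩ | ⟨-, h2'⟩ <;> omega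
    · exfalso
      have h5 := halt (by
        rw [card_cent_equiv e0, card_cent_alt, cent_alt_five _ (by rw [← map_mul, ht₀2, map_one])
          (fun h => ht₀1 (e0.injective (h.trans (map_one e0).symm)))])
      rw [← hq] at h10
      omega
    · refine ⟨halt (by
        rw [card_cent_equiv e0, card_cent_alt, cent_alt_four _ (by rw [← map_mul, ht₀2, map_one])
          (fun h => ht₀1 (e0.injective (h.trans (map_one e0).symm)))]), ?_⟩
      rw [Nat.card_congr e0.toEquiv, nat_card_alternatingGroup]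
      simp [Nat.card_eq_fintype_card, Nat.factorial]
    · exfalso
      rw [← hq] at hqp
      omega
  -- order sixty
  obtain ⟨key, hM12⟩ := key
  rw [key] at hcardL
  have hL60 : Nat.card ↥L = 60 := by omega
  have hidx5 : HL.index = 5 := by
    have hd12 : Nat.card ↥HL ∣ 12 := by
      rw [← hM12, ← card_map_of_injective (f := e.toMonoidHom) e.injective (K := HL)]
      exact card_dvd_of_le hle
    have hT4 : Nat.card ↥((S : Subgroup X).subgroupOf L) = 4 := by
      rw [Nat.card_congr (subgroupOfEquivOfLe hSL).toEquiv, hS4]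
    have hTle : (S : Subgroup X).subgroupOf L ≤ HL := fun y hy => mem_subgroupOf.2 (hSH (mem_subgroupOf.1 hy))
    have hne4 : Nat.card ↥HL ≠ 4 := fun h => by
      have hT := eq_of_le_of_card_ge hTle (by rw [h, hT4])
      obtain ⟨b, hb, hb1, hba⟩ : ∃ b ∈ (S : Subgroup X), b ≠ 1 ∧ b ≠ x₀ :=
        ⟨r * x₀ * r⁻¹, (mem_normalizer_iff.1 hr x₀).1 hx₀, fun h => hx₁ (conj_eq_one_iff.1 h), hrx⟩
      obtain ⟨n, hn, hne⟩ := hfusL x₀ hx₀ hx₁ b hb hb1
      have hnS : (n : X) ∈ (S : Subgroup X) := mem_subgroupOf.1 (hT.symm ▸ mem_subgroupOf.2 hn)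
      refine hba ?_
      have hne' : (n : X) * x₀ * (n : X)⁻¹ = b := congrArg Subtype.val hne
      rw [← hne', (GWFacts.comm_four S hS4 hsq hnS hx₀).eq, mul_inv_cancel_right]
    obtain ⟨c, hc⟩ := hT4 ▸ card_dvd_of_le hTle
    have hcm := HL.card_mul_index
    rw [hL60] at hcm
    rw [hc] at hd12 hne4 hcm
    have hc3 : c ∣ 3 := Nat.dvd_of_mul_dvd_mul_left (show 0 < 4 by norm_num) hd12
    rcases (Nat.dvd_prime Nat.prime_three).1 hc3 with rfl | rfl
    · omega
    · omega
  have hLH : L ⊔ H = ⊤ := by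
    refine top_le_iff.1 ?_
    rw [← Sylow.normalizer_sup_eq_top' (N := L) S hSL]
    exact sup_le (hNH.trans le_sup_right) le_sup_left
  have hH5 : H.index = 5 := by
    rw [← hidx5]
    show H.index = H.relIndex L
    have hHL : H ⊔ L = ⊤ := by rw [sup_comm, hLH]
    have e1 := L.index_mul_card
    have e2 := H.index_mul_card
    have e3 := (L.subgroupOf H).index_mul_card
    have e4 := (H.subgroupOf L).index_mul_card
    have e5 : (L.subgroupOf H).index = L.index := by
      show L.relIndex H = L.index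
      rw [← relIndex_sup_right (K := L) (H := H), hHL, relIndex_top_right]
    have e6 : Nat.card ↥(L.subgroupOf H) = Nat.card ↥(H.subgroupOf L) := Nat.card_congr
      { toFun := fun y => ⟨⟨y.1.1, mem_subgroupOf.1 y.2⟩, mem_subgroupOf.2 y.1.2⟩
        invFun := fun y => ⟨⟨y.1.1, mem_subgroupOf.1 y.2⟩, mem_subgroupOf.2 y.1.2⟩
        left_inv := fun _ => rfl
        right_inv := fun _ => rfl }
    show H.index = (H.subgroupOf L).index
    rw [e5, e6] at e3
    refine Nat.eq_of_mul_eq_mul_right (show 0 < Nat.card ↥H from Nat.card_pos) ?_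
    rw [e2, ← e1, ← e4, ← e3]
    ring
  refine ⟨hH5, ?_⟩
  have hcore : H.normalCore = ⊥ := by
    by_contra hne
    exact htop (subgroupOf_eq_top.2 ((hmin _ (normalCore_normal H) hne).trans (normalCore_le H)))
  haveI : Finite (X ⧸ H) := inferInstance
  have hdvd : Nat.card X ∣ Nat.factorial 5 := by
    have hinj : Function.Injective (MulAction.toPermHom X (X ⧸ H)) := by
      rw [← MonoidHom.ker_eq_bot_iff, ← normalCore_eq_ker, hcore]
    have := Subgroup.card_dvd_of_injective (MulAction.toPermHom X (X ⧸ H)) hinj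
    rwa [Nat.card_perm, ← index, hH5] at this
  have h60 : 60 ∣ Nat.card X := hL60 ▸ L.card_subgroup_dvd_card
  obtain ⟨c, hc⟩ := h60
  norm_num [Nat.factorial] at hdvd
  rw [hc] at hdvd h8X ⊢
  have hc2 : c ∣ 2 := Nat.dvd_of_mul_dvd_mul_left (show 0 < 60 by norm_num) (show 60 * c ∣ 60 * 2 from hdvd)
  rcases (Nat.dvd_prime Nat.prime_two).1 hc2 with rfl | rfl
  · norm_num
  · exact absurd (by norm_num) h8X

end Cfsg.Agent.J2Type.KleinFive
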