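import Mathlib

/-!
# A group of the order of `J₃` with small 17- and 19-normalisers has no odd subgroup transitive on involutions
-/

set_option autoImplicit false
set_option linter.unusedSectionVars false

namespace Cfsg.Agent.J2Type.OddTransitive

open Subgroup

variable {X : Type*} [Group X] [Finite X]

/-- a Sylow subgroup of prime order -/
theorem card_sylow_prime (hX : Nat.card X = 50232960) {p : ℕ} (hp : p = 17 ∨ p = 19) [Fact p.Prime]
    (P : Sylow p X) : Nat.card ↥(P : Subgroup X) = p := by
  obtain ⟨k, hk⟩ := IsPGroup.iff_card.1 P.isPGroup'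
  have h1 : p ^ k ∣ 50232960 := hk ▸ hX ▸ (P : Subgroup X).card_subgroup_dvd_card
  have h2 : ¬ p ∣ (P : Subgroup X).index := P.not_dvd_index
  have h3 := (P : Subgroup X).card_mul_index
  rw [hk, hX] at h3
  have hk2 : k ≤ 1 := by
    by_contra h
    have h4 := (pow_dvd_pow p (show 2 ≤ k by omega)).trans h1
    rcases hp with rfl | rfl <;> norm_num at h4
  rcases Nat.le_one_iff_eq_zero_or_eq_one.1 hk2 with rfl | rfl
  · exfalso
    refine h2 ?_
    rw [pow_zero, one_mul] at h3
    rw [h3]
    rcases hp with rfl | rfl <;> norm_num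
  · rw [hk, pow_one]

variable (hX : Nat.card X = 50232960)
  (h17 : ∀ P : Sylow 17 X, Nat.card ↥(normalizer ((P : Subgroup X) : Set X)) = 17 * 8)
  (h19 : ∀ P : Sylow 19 X, Nat.card ↥(normalizer ((P : Subgroup X) : Set X)) = 19 * 9)

include hX h17 h19

/-- An odd subgroup does not have order divisible by both 17 and 19. -/
theorem not_both (D : Subgroup X) (hD : Odd (Nat.card ↥D)) (hd17 : 17 ∣ Nat.card ↥D)
    (hd19 : 19 ∣ Nat.card ↥D) : False := by
  haveI : Fact (Nat.Prime 17) := ⟨by norm_num⟩
  haveI : Fact (Nat.Prime 19) := ⟨by norm_num⟩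
  obtain ⟨Y⟩ : Nonempty (Sylow 17 ↥D) := inferInstance
  obtain ⟨P, hP⟩ := (Y.isPGroup'.map D.subtype).exists_le_sylow
  have hYc : Nat.card ↥(Y : Subgroup ↥D) = 17 := by
    have h1 : 17 ∣ Nat.card ↥(Y : Subgroup ↥D) := Y.dvd_card_of_dvd_card hd17
    have h2 := card_le_of_le hP
    rw [card_map_of_injective D.subtype_injective, card_sylow_prime hX (Or.inl rfl) P] at h2
    exact le_antisymm h2 (Nat.le_of_dvd Nat.card_pos h1)
  have hYP : (Y : Subgroup ↥D).map D.subtype = (P : Subgroup X) := eq_of_le_of_card_ge hP (by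
    rw [card_map_of_injective D.subtype_injective, hYc, card_sylow_prime hX (Or.inl rfl) P])
  set N := normalizer ((Y : Subgroup ↥D) : Set ↥D) with hN
  have hNdvd : Nat.card ↥N ∣ 17 * 8 := by
    rw [← h17 P, ← card_map_of_injective D.subtype_injective (K := N)]
    exact card_dvd_of_le ((le_normalizer_map D.subtype).trans (by rw [hYP]))
  have hNodd : Odd (Nat.card ↥N) := hD.of_dvd_nat N.card_subgroup_dvd_card
  have hN17 : Nat.card ↥N ∣ 17 := by
    have hco : Nat.Coprime (Nat.card ↥N) 8 := (Nat.coprime_two_right.2 hNodd).pow_right 3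
    exact hco.dvd_of_dvd_mul_right hNdvd
  have hNY : (Y : Subgroup ↥D) = N := eq_of_le_of_card_ge le_normalizer
    (by rw [hYc]; exact Nat.le_of_dvd (by norm_num) hN17)
  haveI : IsCyclic ↥(Y : Subgroup ↥D) := isCyclic_of_prime_card hYc
  have hle : normalizer ((Y : Subgroup ↥D) : Set ↥D) ≤ centralizer ((Y : Subgroup ↥D) : Set ↥D) := by
    rw [← hN, ← hNY]
    exact le_centralizer (Y : Subgroup ↥D)
  set K := (MonoidHom.transferSylow Y hle).ker with hK
  have hcompl := MonoidHom.ker_transferSylow_isComplement' Y hle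
  have hKY := hcompl.card_mul_card
  rw [← hK, hYc] at hKY
  have hK19 : 19 ∣ Nat.card ↥K := by
    have h : 19 ∣ Nat.card ↥K * 17 := hKY ▸ hd19
    exact (Nat.Coprime.dvd_of_dvd_mul_right (by norm_num) h)
  obtain ⟨Z⟩ : Nonempty (Sylow 19 ↥K) := inferInstance
  haveI : K.Normal := MonoidHom.normal_ker _
  have hfr := Sylow.normalizer_sup_eq_top Z
  set NZ := normalizer (((Z : Subgroup ↥K).map K.subtype : Subgroup ↥D) : Set ↥D) with hNZ
  obtain ⟨R, hR⟩ := ((Z.isPGroup'.map K.subtype).map D.subtype).exists_le_sylow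
  have hZR : ((Z : Subgroup ↥K).map K.subtype).map D.subtype = (R : Subgroup X) := eq_of_le_of_card_ge hR (by
    rw [card_map_of_injective D.subtype_injective, card_map_of_injective K.subtype_injective,
      card_sylow_prime hX (Or.inr rfl) R]
    exact Nat.le_of_dvd Nat.card_pos (Z.dvd_card_of_dvd_card hK19))
  have hNZ171 : Nat.card ↥NZ ∣ 19 * 9 := by
    rw [← h19 R, ← card_map_of_injective D.subtype_injective (K := NZ)]
    exact card_dvd_of_le ((le_normalizer_map D.subtype).trans (by rw [hZR]))
  have h17d : 17 ∣ Nat.card ↥NZ := by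
    have hnK : ¬ 17 ∣ Nat.card ↥K := MonoidHom.not_dvd_card_ker_transferSylow Y hle
    have hdvd : Nat.card ↥D ∣ Nat.card ↥NZ * Nat.card ↥K := by
      have e1 := K.index_mul_card
      have e2 : K.index ∣ Nat.card ↥NZ := by
        have h := (K.subgroupOf NZ).index_dvd_card
        rwa [← relIndex, ← relIndex_sup_right (K := K) (H := NZ), hfr, relIndex_top_right] at h
      rw [← e1]
      exact mul_dvd_mul_right e2 _
    rcases (Nat.Prime.dvd_mul (by norm_num)).1 (hd17.trans hdvd) with h | h
    · exact h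
    · exact absurd h hnK
  have := h17d.trans hNZ171
  norm_num at this

/-- No odd subgroup is transitive on an orbit of length 26163. -/
theorem orbit_ne {α : Type*} [MulAction X α] (D : Subgroup X) (hD : Odd (Nat.card ↥D)) (a : α)
    (horb : (MulAction.orbit ↥D a).ncard = 26163) : False := by
  have h : 26163 ∣ Nat.card ↥D := by
    rw [← horb, ← MulAction.index_stabilizer]
    exact index_dvd_card _
  exact not_both hX h17 h19 D hD (dvd_trans (by norm_num) h) (dvd_trans (by norm_num) h)

end Cfsg.Agent.J2Type.OddTransitive
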